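import Cfsg.Agent.H23.BRa
import Cfsg.Agent.H17.GrBraid
import Cfsg.Agent.S5429
import Cfsg.Agent.H71.Cover

/-! BM tower: `C(t)/<t>` is simple and `C(t)` is a non-split double cover of it. -/

set_option autoImplicit false
set_option linter.unusedSectionVars false
open Cfsg H78 H79 H17.Gr H75.BM
open H71.Gr hiding GG
open H72 (pt)
open H77 (nm)

namespace H23.Om

/-- minimal vectors orthogonal to `(4, -4, 0, …)` -/
def SP : List (ℕ × ℕ) := [(0, 2), (0, 3), (0, 4), (0, 5), (0, 6), (0, 7), (0, 8), (0, 9), (0, 10),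
  (0, 11), (0, 12), (0, 13), (13938692, 2), (7221256, 2), (10170384, 2), (11952160, 2),
  (15515712, 2), (2019456, 2), (4038912, 2), (8077824, 2), (11654144, 2), (14919680, 2),
  (13938692, 3)]
/-- a basis of the orthogonal complement in terms of `SP` -/
def SE : List ℕ := [4191488, 4195290, 8193, 17369, 34275, 69544, 131073, 262940, 527477, 1052590,
  2101132, 3944, 2639, 1, 2, 4, 8, 16, 32, 64, 128, 256, 512]

theorem span_t {P : leechLattice → Prop} (h0 : P 0) (hadd : ∀ v w, P v → P w → P (v + w))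
    (hcg : ∀ v w, Cg v w → P v → P w)
    (hmin : ∀ w, nm w = 32 → H77.dt (lA 0 1 0 1) w = 0 → P w) {v : leechLattice}
    (hv : (16 : ℤ) ∣ H77.dt (lA 0 1 0 1) v) : P v := by
  let P' : ℕ → Prop := fun x => ∃ v, P v ∧ Cod v x
  have m : ∀ x y, P' x → P' y → P' (mul x y) := fun _ _ ⟨v, a, b⟩ ⟨w, c, d⟩ =>
    ⟨_, hadd _ _ a c, b.mul d⟩
  have z : P' 0 := ⟨0, h0, cod_zero fun _ _ => by simp [bt]⟩
  have k : ∀ p ∈ SP, H72.isG p.1 = true ∧ p.2 < 24 ∧
      dotInt (vA (pt 0) (pt 1) 0 1) (vX (H72.word p.1) (pt p.2)) = 0 := by decide +kernel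
  have h1 : ∀ d ∈ SP.map (fun p => codX p.1 p.2), P' d := fun d hd => by
    obtain ⟨p, hp, rfl⟩ := List.mem_map.1 hd
    refine ⟨_, hmin _ (sqNorm_vX _ _) ?_, cod_codX (k p hp).1 (k p hp).2.1⟩
    rw [← (k p hp).2.2, ← cW_coe (k p hp).1]; rfl
  have e : SE.map (fun e => appL (SP.map fun p => codX p.1 p.2) e 0 % 2 ^ 24) =
      3 :: (List.range' 2 22).map (2 ^ ·) := by decide +kernel
  have h2 : ∀ d ∈ 3 :: (List.range' 2 22).map (2 ^ ·), P' d := fun d hd => by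
    obtain ⟨p, -, rfl⟩ := List.mem_map.1 (e ▸ hd)
    obtain ⟨w, a, b⟩ := appL_ind m h1 p 0 z
    exact ⟨w, a, b.congr fun i hi => by rw [bt_mod, if_pos hi]⟩
  obtain ⟨x, -, hx, hs⟩ := exists_code v 0
  have h3 : bt x 0 + bt x 1 = 0 := by
    have h4 := dot_be (lA 0 1 0 1) v.2
    rw [show dl _ (ec _) = _ from cod_t.be hx, show dl _ (ec _) = _ from hx.be cod_t,
      (intCast_zmod2_eq_zero _).2 (by
        have : (16 : ℤ) ∣ dotInt (lA 0 1 0 1).1 v := hv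
        omega)] at h4
    have h5 : ∀ j < 12, bt 12288 j = 0 ∧ bt 12288 (12 + j) = if j < 2 then 1 else 0 := by decide
    have h6 : ∑ j ∈ Finset.range 12, bt x (12 + j) * bt 12288 j = 0 :=
      Finset.sum_eq_zero fun j hj => by rw [(h5 j (Finset.mem_range.1 hj)).1, mul_zero]
    have h7 : ∑ j ∈ Finset.range 12, bt 12288 (12 + j) * bt x j =
        ∑ j ∈ Finset.range 12, (if j < 2 then 1 else 0) * bt x j :=
      Finset.sum_congr rfl fun j hj => by rw [(h5 j (Finset.mem_range.1 hj)).2]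
    rw [h6, h7] at h4
    generalize bt x = f at h4 ⊢
    simpa [Finset.sum_range_succ] using h4.symm
  obtain ⟨w, a, b⟩ := appL_ind m (fun d hd => h2 d (.tail _ hd)) (x >>> 2)
    (if bt x 0 = 1 then 3 else 0) (by split_ifs; exacts [h2 _ (.head _), z])
  refine hcg _ _ ((b.congr fun i hi => appL_pow x 22 2 _ rfl (fun i hi => ?_) i (by omega)).cg hx) a
  have h6 : ∀ i < 25, bt 3 i = (if i < 2 then 1 else 0) ∧ bt 0 i = 0 := by decide
  have h7 : bt x 1 = bt x 0 := by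
    revert h3; generalize bt x 0 = a, bt x 1 = b; revert a b; decide
  rcases H79.zmod2_cases (bt x 0) with c | c
  · rw [if_neg (by rw [c]; decide), (h6 i hi).2]
    split_ifs with d
    · rcases d with d | rfl
      · interval_cases i
        exacts [c.symm, (h7.trans c).symm]
      · exact hs.symm
    · rfl
  · rw [if_pos c, (h6 i hi).1]
    by_cases d : i < 2
    · rw [if_pos d, if_pos (.inl d)]
      interval_cases i
      exacts [c.symm, (h7.trans c).symm]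
    · rw [if_neg d]
      split_ifs with d'
      · rw [d'.resolve_left d, hs]
      · rfl

theorem span_min {u : leechLattice} (hu : nm u = 32) {P : leechLattice → Prop} (h0 : P 0)
    (hadd : ∀ v w, P v → P w → P (v + w)) (hcg : ∀ v w, Cg v w → P v → P w)
    (hmin : ∀ w, nm w = 32 → H77.dt u w = 0 → P w) {v : leechLattice}
    (hv : (16 : ℤ) ∣ H77.dt u v) : P v := by
  obtain ⟨g, rfl⟩ := H77.trans32 nm_t hu
  rw [← smul_inv_smul g v]
  refine span_t (P := fun v => P (g • v)) (by rwa [co0_zero])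
    (fun v w a b => by rw [co0_add]; exact hadd _ _ a b) (fun v w a => hcg _ _ (a.smul g))
    (fun w a b => hmin _ ((H77.nm_smul _ _).trans a) ((H77.dt_smul _ _ _).trans b)) ?_
  rwa [← H77.dt_smul g, smul_inv_smul]

section generic
variable {G : Type*} [Group G]

/-- the subgroup generated by `t` in its centraliser -/
abbrev ZT (t : G) : Subgroup (CZ t) := (Subgroup.zpowers t).subgroupOf (CZ t)
theorem ZT_le_center (t : G) : ZT t ≤ Subgroup.center (CZ t) := by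
  rintro ⟨x, hx⟩ ⟨k, rfl⟩
  exact Subgroup.mem_center_iff.2 fun y =>
    Subtype.ext ((show Commute (y : G) t from mem_CZ.1 y.2).zpow_right k).eq
instance ZT_normal (t : G) : (ZT t).Normal := ⟨fun x hx g => by
  rw [Subgroup.mem_center_iff.1 (ZT_le_center t hx) g, mul_inv_cancel_right]; exact hx⟩
/-- `C(t)/<t>` -/
abbrev BQ (t : G) : Type _ := CZ t ⧸ ZT t
/-- the projection onto `C(t)/<t>` -/
abbrev pB (t : G) : CZ t →* BQ t := QuotientGroup.mk' (ZT t)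

theorem pB_eq {t : G} (htt : t * t = 1) (y y' : CZ t) :
    pB t y = pB t y' ↔ (y : G) = y' ∨ (y : G) = y' * t := by
  rw [eq_comm, QuotientGroup.mk'_apply, QuotientGroup.mk'_apply, QuotientGroup.eq,
    Subgroup.mem_subgroupOf, mem_zpowers_invol htt]
  simp only [Subgroup.coe_mul, Subgroup.coe_inv, inv_mul_eq_iff_eq_mul, mul_one]

theorem card_ZT {t : G} (h : orderOf t = 2) : Nat.card (ZT t) = 2 := by
  rw [Nat.card_congr (Subgroup.subgroupOfEquivOfLe (by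
    rw [Subgroup.zpowers_le]; exact mem_CZ.2 rfl)).toEquiv, Nat.card_zpowers, h]

theorem e8_eq : e8 none = Spor.leechU + Spor.leechU' := Subtype.ext (by
  rw [e8_coe]; show _ = Spor.vecU + Spor.vecU'; decide +kernel)

variable [Finite G] {z : G} {Q : Subgroup G} {ρ : CZ z →* Spor.Co1}
  {cl : G → leechLattice → Prop} (h : MT z Q ρ cl)
  (nwc : ∃ g : G, g * z * g⁻¹ ∈ Q ∧ g * z * g⁻¹ ≠ z) {t : G} (ht : cl t Spor.leechU)
include h ht

theorem t_ne : t ≠ 1 ∧ t ≠ z :=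
  h.ne_of_norm ht (by rw [sqNorm_leechU]; norm_num) (by rw [sqNorm_leechU]; norm_num)
theorem t_sq : t * t = 1 := (h.sq_iff ht).2 (by rw [sqNorm_leechU])
theorem z_CZ : z ∈ CZ t := mem_CZ.2 (h.xs.z_comm t (h.mem ht))

include nwc
theorem large_t :
    IsLargeExtraspecial (((Q ⊓ CZ t).subgroupOf (CZ t)).map (pB t)) ∧
      ∃ s, cl s (e8 none) ∧ IsConj z s ∧ ∃ x ∈ CZ t, x * s * x⁻¹ = z := by
  obtain ⟨g, hs⟩ := h.exists_cl_conj nwc (sqNorm_e8 none)
  have hsne := h.ne_of_norm hs (by rw [sqNorm_e8]; norm_num) (by rw [sqNorm_e8])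
  obtain ⟨hL, x, hx, hxs⟩ := Cfsg.Agent.S5429.result z h.xs.orderOf_z Q h.Q_le (h.fstar co1_not_two)
    h.xs.isExtraspecial 12 (by norm_num) h.card g (h.mem hs)
    (by rw [h.xs.mem_center_iff, not_or]; exact hsne) t (orderOf_eq_two (t_ne h ht).1 (t_sq h ht))
    ⟨h.mem ht, h.mem_conj_U hs ht⟩ (h.not_conj_U ht)
    (Q ⊓ CZ t) rfl (fun c hc => ⟨h.faithful_perp ht ⟨c, hc⟩, fun hq x hx => by
      rcases h.xs.conj_eq_or hx.1 hq with a | a
      · exact ⟨1, Subgroup.one_mem _, by rw [a, mul_one]⟩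
      · exact ⟨z, Subgroup.subset_closure (by simp), a⟩⟩)
  exact ⟨hL, _, hs, isConj_iff.2 ⟨g, rfl⟩, x,
    (sup_le inf_le_right inf_le_right : _ ≤ CZ t) hx, hxs⟩

/-- a normal subgroup of `C(t)` containing `z` contains `C_Q(t)` -/
theorem P_le {N : Subgroup (CZ t)} (hN : N.Normal) (hz : ⟨z, z_CZ h ht⟩ ∈ N) (p : CZ t)
    (hp : (p : G) ∈ Q) : p ∈ N := by
  obtain ⟨-, s, hs, -, x, hx, e⟩ := large_t h nwc ht
  let P : leechLattice → Prop := fun v => ∃ x ∈ N, cl x.1 v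
  have hadd : ∀ v w, P v → P w → P (v + w) := fun _ _ ⟨x, a, b⟩ ⟨y, c, d⟩ =>
    ⟨_, N.mul_mem a c, h.mul b d⟩
  have hcg : ∀ v w, Cg v w → P v → P w := fun _ _ a ⟨x, b, c⟩ => ⟨x, b, h.congr c a⟩
  have h1 : P (e8 none) := ⟨_, hN.conj_mem _ hz ⟨x, hx⟩⁻¹, by
    show cl (x⁻¹ * z * x⁻¹⁻¹) _
    rw [← e]; simpa [mul_assoc] using hs⟩
  have h2 : ∀ w, nm w = 32 → H77.dt Spor.leechU w = 0 → P (Spor.leechU + w) := fun w a b => by
    obtain ⟨g, g1, g2⟩ := orth_pair_canon _ w sqNorm_leechU a b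
    have g3 : g⁻¹ • Spor.leechU = Spor.leechU := inv_smul_eq_iff.2 g1.symm
    obtain ⟨c, hc, e⟩ := h.conj_of_smul g⁻¹ ht (by rwa [g3]) (t_ne h ht).1 (t_ne h ht).2
    obtain ⟨y, y1, y2⟩ := h1
    refine hcg (g⁻¹ • e8 none) _ ?_ ⟨_, hN.conj_mem _ y1 ⟨c, mem_CZ.2 (mul_inv_eq_iff_eq_mul.1 e)⟩,
      h.act c _ hc.symm y2⟩
    rw [e8_eq, co0_add, g3]
    refine (Cg.refl _).add ?_
    rcases g2 with g2 | g2
    · rw [← g2, inv_smul_smul]; exact Cg.refl _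
    · rw [← neg_eq_iff_eq_neg, ← co0_neg] at g2
      rw [← g2, inv_smul_smul]; exact Cg.neg _
  have h3 : P Spor.leechU := by
    have k : ∀ p ∈ [(1, 2), (2, 3), (1, 3)], nm (lA p.1 p.2 0 1) = 32 ∧
        H77.dt Spor.leechU (lA p.1 p.2 0 1) = 0 := by
      show ∀ p ∈ [(1, 2), (2, 3), (1, 3)], sqNorm (vA (pt p.1) (pt p.2) 0 1) = 32 ∧
        dotInt Spor.vecU (vA (pt p.1) (pt p.2) 0 1) = 0
      decide +kernel
    have a := k (1, 2) (by simp)
    have b := k (2, 3) (by simp)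
    have c := k (1, 3) (by simp)
    refine hcg _ _ ⟨Spor.leechU + lA 1 3 0 1, ?_⟩
      (hadd _ _ (hadd _ _ (h2 _ a.1 a.2) (h2 _ b.1 b.2)) (h2 _ c.1 c.2))
    rw [show lA 1 3 0 1 = lA 1 2 0 1 + lA 2 3 0 1 from Subtype.ext (vA_add_vA ..).symm]
    abel
  obtain ⟨v, hv⟩ := h.ex_v p hp
  obtain ⟨y, y1, y2⟩ : P v := span_min sqNorm_leechU ⟨1, N.one_mem, h.cl_zero (.inl rfl)⟩ hadd hcg
    (fun w a b => hcg _ _ ⟨Spor.leechU, by abel⟩ (hadd _ _ (h2 w a b) h3))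
    ((h.comm_iff ht hv).1 (mem_CZ.1 p.2).symm)
  rcases (h.eq_iff hv y2).2 (Cg.refl _) with a | a
  · rwa [Subtype.ext a]
  · rw [show p = y * ⟨z, z_CZ h ht⟩ from Subtype.ext a]; exact N.mul_mem y1 hz

omit nwc in
theorem comm_of_pB {d : CZ t} (hd : pB t d ∈ CZ (pB t ⟨z, z_CZ h ht⟩)) : (d : G) ∈ CZ z := by
  rw [mem_CZ, ← map_mul, ← map_mul, pB_eq (t_sq h ht)] at hd
  refine mem_CZ.2 (hd.resolve_right fun a => h.not_conj_U (h.cl_mul_z ht) (isConj_iff.2 ⟨d, ?_⟩))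
  change (d : G) * z = z * d * t at a
  rw [a, mul_assoc z, mem_CZ.1 d.2, ← mem_CZ.1 (z_CZ h ht)]; group

/-- the extraspecial subgroup of `C(t)/<t>` -/
theorem exists_BT {y : BQ t} (hy : y = pB t ⟨z, z_CZ h ht⟩) {R : Subgroup (BQ t)}
    (hR : R = ((Q ⊓ CZ t).subgroupOf (CZ t)).map (pB t)) :
    LX R y ∧ Nat.card R = 2 ^ 23 ∧ (∃ g, g * y * g⁻¹ ∈ R ∧ g * y * g⁻¹ ≠ y) ∧
      ∃ θ : CZ y →* Spor.Co2, Function.Surjective θ ∧ ∀ c, θ c = 1 ↔ (c : BQ t) ∈ R := by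
  have hU := sqNorm_leechU
  have hU0 : Spor.leechU ≠ 0 := fun a => by rw [a] at hU; simp [sqNorm] at hU
  have htne := t_ne h ht
  have htQ := h.mem ht
  have hzt := mem_CZ.1 (z_CZ h ht)
  have heq := pB_eq (t_sq h ht)
  obtain ⟨hL, s, hs, hc, x, hx, hxs⟩ := large_t h nwc ht
  have hsne := h.ne_of_norm hs (by rw [sqNorm_e8]; norm_num) (by rw [sqNorm_e8])
  subst hy
  rw [← hR] at hL
  refine ⟨LX_of_large hL (hR ▸ ⟨_, ⟨h.xs.z_mem, z_CZ h ht⟩, rfl⟩) ?_ ?_, ?_,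
    ⟨pB t ⟨x, hx⟩⁻¹, ?_⟩, ?_⟩
  · rw [← map_one (pB t), Ne, heq]
    rintro (a | a)
    · exact h.xs.z_ne a
    · exact htne.2 (by simpa using a.symm)
  · rw [hR]
    rintro _ ⟨r, hr, rfl⟩
    rw [← map_mul, ← map_mul, heq]
    exact Or.inl (h.xs.z_comm r hr.1)
  · have h1 := card_map_mul_card_inf_ker (pB t) ((Q ⊓ CZ t).subgroupOf (CZ t))
    rw [QuotientGroup.ker_mk', inf_eq_right.2 (Subgroup.subgroupOf_mono _ (by
      rw [Subgroup.zpowers_le]; exact ⟨htQ, mem_CZ.2 rfl⟩)),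
      card_ZT (orderOf_eq_two htne.1 (t_sq h ht)), ← card_map_subtype ((Q ⊓ CZ t).subgroupOf (CZ t)),
      Subgroup.map_subgroupOf_eq_of_le inf_le_right, h.card_cent htQ htne.1 htne.2, ← hR] at h1
    omega
  · have e : x⁻¹ * z * x⁻¹⁻¹ = s := by rw [← hxs]; group
    have hsD : s ∈ CZ t := e ▸ (CZ t).mul_mem ((CZ t).mul_mem ((CZ t).inv_mem hx) (z_CZ h ht))
      ((CZ t).inv_mem ((CZ t).inv_mem hx))
    have : pB t ⟨x, hx⟩⁻¹ * pB t ⟨z, z_CZ h ht⟩ * (pB t ⟨x, hx⟩⁻¹)⁻¹ = pB t ⟨_, hsD⟩ := by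
      rw [← map_inv, ← map_mul, ← map_mul, heq]
      exact .inl e
    rw [this, hR]
    refine ⟨⟨⟨_, hsD⟩, ⟨h.mem hs, hsD⟩, rfl⟩, ?_⟩
    rw [Ne, heq]
    rintro (a | a)
    · exact hsne.2 a
    · apply h.not_conj_U (h.cl_mul_z ht)
      rwa [← hzt, ← show s = z * t from a]
  let K : Subgroup G := CZ z ⊓ CZ t
  let φ : K →* CZ (pB t ⟨z, z_CZ h ht⟩) :=
    ((pB t).comp (Subgroup.inclusion inf_le_right)).codRestrict _ (fun k => by
      rw [mem_CZ, MonoidHom.comp_apply, ← map_mul, ← map_mul, heq]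
      exact Or.inl (mem_CZ.1 k.2.1))
  have hφ : ∀ k : K, (φ k : BQ t) = pB t ⟨k, k.2.2⟩ := fun _ => rfl
  have hφs : Function.Surjective φ := by
    rintro ⟨d, hd⟩
    obtain ⟨d, rfl⟩ := QuotientGroup.mk'_surjective _ d
    exact ⟨⟨d, comm_of_pB h ht hd, d.2⟩, rfl⟩
  obtain ⟨θ0, hθ0⟩ := exists_lift_hom _ (pr1_inj_stab hU0)
    (ρ.comp (Subgroup.inclusion (inf_le_left : K ≤ CZ z))) (fun k => by
      obtain ⟨n, hn⟩ := pr1_surj (ρ ⟨k, k.2.1⟩)
      obtain ⟨n', e1, e2⟩ := exists_fix_of_cg (by omega) (h.cg_of_comm ht hn (mem_CZ.1 k.2.2))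
      exact ⟨⟨n', e2⟩, e1.trans hn⟩)
  replace hθ0 : ∀ k : K, pr1 (θ0 k) = ρ ⟨k, k.2.1⟩ := hθ0
  have hθ1 : ∀ k : K, θ0 k = 1 ↔ (k : G) ∈ Q := fun k => by
    rw [← h.ker ⟨k, k.2.1⟩, ← hθ0]
    exact (map_eq_one_iff _ (pr1_inj_stab hU0)).symm
  obtain ⟨θ, hθ⟩ := exists_desc_hom φ hφs (co2Equiv.toMonoidHom.comp θ0) (fun k hk => by
    have := congrArg Subtype.val hk
    rw [hφ, OneMemClass.coe_one, ← map_one (pB t), heq] at this
    rw [MonoidHom.comp_apply, (hθ1 k).2, map_one]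
    rcases this with a | a
    · rw [show (k : G) = 1 from a]; exact Q.one_mem
    · rw [show (k : G) = 1 * t from a, one_mul]; exact htQ)
  refine ⟨θ, fun n => ?_, fun c => ?_⟩
  · obtain ⟨n, rfl⟩ := co2Equiv.surjective n
    obtain ⟨c, hc, e⟩ := h.conj_of_smul n ht (by rw [show (n : Co0) • _ = _ from n.2]; exact ht)
      htne.1 htne.2
    refine ⟨φ ⟨c, c.2, mem_CZ.2 (mul_inv_eq_iff_eq_mul.1 e)⟩, ?_⟩
    rw [hθ, MonoidHom.comp_apply]
    exact congrArg co2Equiv (pr1_inj_stab hU0 ((hθ0 _).trans hc))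
  · obtain ⟨k, rfl⟩ := hφs c
    rw [hθ, hR]
    refine ((map_eq_one_iff _ co2Equiv.injective).trans (hθ1 k)).trans ⟨fun a => ?_, ?_⟩
    · exact ⟨⟨k, k.2.2⟩, ⟨a, k.2.2⟩, rfl⟩
    · rintro ⟨r, hr, e⟩
      rcases (heq _ _).1 (e.symm : pB t ⟨k, k.2.2⟩ = pB t r) with a | a
      · rw [show (k : G) = r from a]; exact hr.1
      · rw [show (k : G) = r * t from a]; exact Q.mul_mem hr.1 htQ

theorem simple_BQ : IsSimpleGroup (BQ t) := by
  have := H77.simple_Co2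
  obtain ⟨lx, hc, ⟨g, h1, h2⟩, θ, hθ, hk⟩ := exists_BT h nwc ht rfl rfl
  generalize hy : pB t ⟨z, z_CZ h ht⟩ = y at *
  generalize hR : ((Q ⊓ CZ t).subgroupOf (CZ t)).map (pB t) = R at *
  have h8 : 8 < Nat.card R := by rw [hc]; norm_num
  have hQ : R ≤ Subgroup.normalClosure {y} := by
    rw [← hR]
    rintro _ ⟨p, hp, rfl⟩
    exact P_le h nwc ht (N := (Subgroup.normalClosure {y}).comap (pB t)) inferInstance
      (by rw [Subgroup.mem_comap, hy]; exact Subgroup.subset_normalClosure rfl) p hp.1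
  refine lx.isSimpleGroup (lx.isLarge_of_conj h8 h1 h2) (eq_O2C_of_fstar (fstar_of_LX lx
    fun N hN h2 c hc => (hk c).1 (le_of_O2_quot θ hθ O2_Co2 N hN h2 hc)) lx.toXS.isPGroup)
    fun c hc => ?_
  have hN : ((Subgroup.normalClosure {y}).subgroupOf (CZ y)).map θ = ⊤ :=
    ((Subgroup.Normal.map inferInstance θ hθ).eq_bot_or_eq_top).resolve_left fun e =>
      LX_not_le lx h8 h1 h2 fun r ⟨⟨x, hx, hr⟩, hr'⟩ => (hk ⟨r, hr'⟩).1 (e.le ⟨⟨r, hr'⟩,
        (show r ∈ Subgroup.normalClosure {y} from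
          hr ▸ (Subgroup.normalClosure_normal.conj_mem x (hQ hx) g :
            (MulAut.conj g).toMonoidHom x ∈ _)), rfl⟩)
  obtain ⟨m, hm, e⟩ := hN.ge (Subgroup.mem_top (θ ⟨c, hc⟩))
  have := mul_mem (show (m : BQ t) ∈ _ from hm) (hQ ((hk (m⁻¹ * ⟨c, hc⟩)).1 (by simp [e])))
  simpa using this

theorem noncomm_BQ : ¬ IsMulCommutative (BQ t) := fun k => by
  obtain ⟨x, -, y, -, e⟩ := (exists_BT h nwc ht rfl rfl).1.nonab
  exact e (k.is_comm.comm x y)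

theorem center_CZ : Subgroup.center (CZ t) = ZT t := by
  have := simple_BQ h nwc ht
  refine le_antisymm (fun x hx => ?_) (ZT_le_center t)
  have h1 : pB t x ∈ Subgroup.center (BQ t) := Subgroup.mem_center_iff.2 fun g => by
    obtain ⟨g, rfl⟩ := QuotientGroup.mk'_surjective _ g
    rw [← map_mul, ← map_mul, Subgroup.mem_center_iff.1 hx]
  rcases (inferInstance : (Subgroup.center (BQ t)).Normal).eq_bot_or_eq_top with e | e
  · rwa [e, Subgroup.mem_bot, QuotientGroup.mk'_apply, QuotientGroup.eq_one_iff] at h1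
  · exact absurd ⟨⟨fun a b => Subgroup.mem_center_iff.1 (e.ge (Subgroup.mem_top b)) a⟩⟩
      (noncomm_BQ h nwc ht)

theorem nonsplit_BQ : IsNonsplitDoubleCover (CZ t) (BQ t) := by
  have h2 := card_ZT (orderOf_eq_two (t_ne h ht).1 (t_sq h ht))
  have hc := center_CZ h nwc ht
  refine ⟨hc ▸ h2, ⟨QuotientGroup.quotientMulEquivOfEq hc⟩, fun L hL => ?_⟩
  have hi : L.index = 2 := by rw [hL.index_eq_card, hc, h2]
  obtain ⟨_, ⟨p, hp, rfl⟩, _, ⟨q, hq, rfl⟩, e⟩ := (exists_BT h nwc ht rfl rfl).1.nonab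
  have h3 : (⟨z, z_CZ h ht⟩ : CZ t) = (q * p)⁻¹ * (p * q) :=
    Subtype.ext (eq_inv_mul_of_mul_eq ((h.xs.comm p hp.1 q hq.1).resolve_left fun a =>
      e (by rw [← map_mul, ← map_mul, show p * q = q * p from Subtype.ext a])).symm)
  have h4 := P_le h nwc ht (Subgroup.normal_of_index_eq_two hi) (by
    rw [h3, Subgroup.mul_mem_iff_of_index_two hi, inv_mem_iff, Subgroup.mul_mem_iff_of_index_two hi,
      Subgroup.mul_mem_iff_of_index_two hi]
    exact iff_comm) ⟨t, mem_CZ.2 rfl⟩ (h.mem ht)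
  exact (t_ne h ht).1 (congrArg Subtype.val (Subgroup.disjoint_def.1 hL.disjoint
    (ZT_le_center t (Subgroup.mem_zpowers t)) h4))

omit ht in
/-- the centraliser of an involution over a minimal vector -/
theorem baby {u : leechLattice} (ht : cl t u) (hu : nm u = 32) : orderOf t = 2 ∧
    IsSimpleGroup (BQ t) ∧ ¬ IsMulCommutative (BQ t) ∧ IsNonsplitDoubleCover (CZ t) (BQ t) := by
  obtain ⟨k, hk⟩ := H79.trans32 u _ hu sqNorm_leechU
  have ht' : cl t (k⁻¹ • Spor.leechU) := by rwa [← hk, inv_smul_smul]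
  exact ⟨orderOf_eq_two (t_ne (h.twist k) ht').1 (t_sq (h.twist k) ht'), simple_BQ (h.twist k) nwc ht',
    noncomm_BQ (h.twist k) nwc ht', nonsplit_BQ (h.twist k) nwc ht'⟩

end generic

/-- conjugation as an isomorphism of centralisers -/
def czConj {G : Type*} [Group G] (g t : G) : CZ t ≃* CZ (g * t * g⁻¹) where
  toFun x := ⟨g * x * g⁻¹, mem_CZ.2 (by
    simpa [mul_assoc] using congrArg (fun y => g * y * g⁻¹) (mem_CZ.1 x.2))⟩
  invFun x := ⟨g⁻¹ * x * g, mem_CZ.2 (by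
    have := congrArg (fun y => g⁻¹ * y * g) (mem_CZ.1 x.2)
    simpa [mul_assoc] using this)⟩
  left_inv x := Subtype.ext (by simp [mul_assoc])
  right_inv x := Subtype.ext (by simp [mul_assoc])
  map_mul' x y := Subtype.ext (by simp [mul_assoc])

theorem pow_pB {G : Type*} [Group G] {t : G} (ht : t * t = 1) (a x : CZ t) {n : ℕ}
    (h : ((a : G) * (x * a * (x : G)⁻¹)) ^ n = 1 ∨ ((a : G) * (x * a * (x : G)⁻¹)) ^ n = t) :
    (pB t a * (pB t x * pB t a * (pB t x)⁻¹)) ^ n = 1 := by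
  rw [← map_inv, ← map_mul, ← map_mul, ← map_mul, ← map_pow, ← map_one (pB _), pB_eq ht]
  simpa using h

theorem card_CZ_pB {G : Type*} [Group G] [Finite G] {t : G} (ht : orderOf t = 2) {a c : CZ t}
    (e : (c : G) * a = a * c * t) : Nat.card (CZ (pB t a)) = Nat.card (CZ a) := by
  let τ : CZ t := ⟨t, mem_CZ.2 rfl⟩
  have htt : t * t = 1 := by rw [← sq, ← ht, pow_orderOf_eq_one]
  have hτ : ∀ x, x * τ = τ * x := fun x => Subtype.ext (mem_CZ.1 x.2)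
  have hτ2 : τ * τ = 1 := Subtype.ext htt
  have hτ1 : τ ≠ 1 := fun a => by
    rw [show t = 1 from congrArg Subtype.val a, orderOf_one] at ht
    omega
  have e' : c * a = a * c * τ := Subtype.ext e
  let K := (CZ (pB t a)).comap (pB t)
  have hK : ∀ x, x ∈ K ↔ x * a = a * x ∨ x * a = a * x * τ := fun x => by
    rw [Subgroup.mem_comap, mem_CZ, ← map_mul, ← map_mul, pB_eq htt, Subtype.ext_iff,
      Subtype.ext_iff (a1 := x * _)]; rfl
  have h1 : ((CZ a).subgroupOf K).index = 2 := by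
    refine Subgroup.index_eq_two_iff.2 ⟨⟨c, (hK _).2 (.inr e')⟩, fun b => ?_⟩
    have k : ∀ x : CZ t, x * c * a = x * a * c * τ := fun x => by
      rw [mul_assoc, e']; simp only [mul_assoc]
    simp only [Subgroup.mem_subgroupOf, mem_CZ, Subgroup.coe_mul, k]
    rcases (hK _).1 b.2 with a | a <;> rw [a]
    · exact .inr ⟨rfl, fun a => hτ1 (by simpa [mul_assoc] using a)⟩
    · refine .inl ⟨?_, fun a => hτ1 (by simpa using a)⟩
      rw [mul_assoc _ τ, ← hτ, mul_assoc, mul_assoc c, hτ2, mul_one, mul_assoc]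
  have h2 := ((CZ a).subgroupOf K).index_mul_card
  have h3 := card_map_mul_card_inf_ker (pB t) K
  rw [h1, Nat.card_congr (Subgroup.subgroupOfEquivOfLe fun x hx =>
    (hK x).2 (.inl (mem_CZ.1 hx))).toEquiv] at h2
  rw [Subgroup.map_comap_eq_self_of_surjective (QuotientGroup.mk'_surjective _),
    inf_eq_right.2 (Subgroup.ker_le_comap _ _), QuotientGroup.ker_mk', card_ZT ht] at h3
  omega

variable {F : Type} [Field F] [Good F]

theorem qq_GG (x : ℕ) : qq F x ∈ GG F [] := CZ_le_GG (mem_CZ.2 (qq_comm_z x))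
variable (F) in
/-- the 2A involution of `GG F []` -/
noncomputable def t0 : GG F [] := ⟨qq F 12288, qq_GG _⟩
variable (F) in
/-- the Baby Monster as `C(t)/<t>` -/
abbrev B0 : Type := BQ (t0 F)

theorem GG_TB_le (h : H75.BM.Ord F) : GG F H75.BM.TB ≤ GG F [] := h.centB ▸ inf_le_right
theorem mem_CZ_t0 (h : H75.BM.Ord F) {g : GG F []} : g ∈ CZ (t0 F) ↔ g.1 ∈ GG F H75.BM.TB := by
  rw [← h.centB, mem_CZ, Subgroup.mem_inf, and_iff_left g.2, Subgroup.mem_centralizer_singleton_iff,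
    Subtype.ext_iff]; rfl
theorem CZ_t0 (h : H75.BM.Ord F) : CZ (t0 F) = (GG F H75.BM.TB).subgroupOf (GG F []) :=
  Subgroup.ext fun _ => mem_CZ_t0 h
theorem card_CZ_t0 (h : H75.BM.Ord F) :
    Nat.card (CZ (t0 F)) = 2 * 4154781481226426191177580544000000 := by
  rw [CZ_t0 h, Nat.card_congr (Subgroup.subgroupOfEquivOfLe (GG_TB_le h)).toEquiv, h.cardB]

theorem baby0 (h : H75.BM.Ord F) : orderOf (t0 F) = 2 ∧ IsSimpleGroup (B0 F) ∧
    ¬ IsMulCommutative (B0 F) ∧ IsNonsplitDoubleCover (CZ (t0 F)) (B0 F) :=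
  haveI := finite0 h
  baby mt0 nwc0 (cl_qq cod_t) nm_t

/-- `C(t)/<t>` is simple of the order of the Baby Monster -/
theorem isB0 (h : H75.BM.Ord F) : IsB (B0 F) := by
  refine ⟨(baby0 h).2.1, ?_⟩
  have := Subgroup.card_eq_card_quotient_mul_card_subgroup (ZT (t0 F))
  rw [card_CZ_t0 h, card_ZT (baby0 h).1] at this
  exact Nat.eq_of_mul_eq_mul_right two_pos (this.symm.trans (mul_comm _ _))

theorem card_conj_t0 (h : H75.BM.Ord F) :
    Nat.card (conjugatesOf (t0 F)) = 97239461142009186000 := by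
  have := (CZ (t0 F)).index_mul_card
  rw [card_CZ_t0 h, h.cardM] at this
  rw [H71.card_conjugatesOf]
  change (CZ (t0 F)).index = _
  omega

theorem S0468_of (h : H75.BM.Ord F)
    (h6 : ∀ g ∈ GG F [], orderOf (qq F 12288 * (g * qq F 12288 * g⁻¹)) ≤ 6) :
    ∃ (G : Type) (_ : Group G) (_ : Finite G), IsM G ∧ ∃ D : Set G, (∃ d ∈ D, D = conjugatesOf d) ∧
      Nat.card D = 97239461142009186000 ∧ (∀ d ∈ D, orderOf d = 2) ∧
      (∀ d ∈ D, ∀ e ∈ D, orderOf (d * e) ≤ 6) ∧ ∀ d ∈ D, ∃ (K : Type) (_ : Group K), IsB K ∧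
        IsNonsplitDoubleCover (Subgroup.centralizer ({d} : Set G)) K := by
  refine ⟨GG F [], inferInstance, finite0 h, isM0 h, _, ⟨t0 F, IsConj.refl _, rfl⟩, card_conj_t0 h,
    fun d hd => ?_, fun d hd e he => ?_, fun d hd => ?_⟩ <;> obtain ⟨g, rfl⟩ := isConj_iff.1 hd
  · exact ((MulAut.conj g).orderOf_eq _).trans (baby0 h).1
  · obtain ⟨k, rfl⟩ := isConj_iff.1 he
    rw [show g * t0 F * g⁻¹ * (k * t0 F * k⁻¹) =
      MulAut.conj g (t0 F * (g⁻¹ * k * t0 F * (g⁻¹ * k)⁻¹)) by simp [mul_assoc],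
      MulEquiv.orderOf_eq, ← Subgroup.orderOf_coe]
    exact h6 _ (g⁻¹ * k).2
  · exact ⟨B0 F, inferInstance, isB0 h,
      H71.nonsplit_congr (baby0 h).2.2.2 (czConj g _) (MulEquiv.refl _)⟩

theorem exists_swap : ∃ c ∈ PP F H75.BM.TB, Cj c 20480 24576 := by
  have hn : nm (lA 0 1 0 1 - lA 0 2 0 1) = 32 := by
    rw [sub_eq_add_neg, H77.nm_add, H77.nm_neg, H77.dt_neg_right, nm_t, nm_t', dt_tt']; rfl
  obtain ⟨g1, a1, b1⟩ := H77.exists_UX nm_t nm_t' dt_tt'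
  obtain ⟨g2, a2, b2⟩ := H77.exists_UX nm_t hn (by
    rw [sub_eq_add_neg, H77.dt_add_right, H77.dt_neg_right, H77.dt_self, nm_t, dt_tt']; rfl)
  have a : (g2 * g1⁻¹) • lA 0 1 0 1 = lA 0 1 0 1 := by rw [mul_smul, inv_smul_eq_iff.2 a1.symm, a2]
  have b : (g2 * g1⁻¹) • lA 0 2 0 1 = lA 0 1 0 1 - lA 0 2 0 1 := by
    rw [mul_smul, inv_smul_eq_iff.2 b1.symm, b2]
  have h1 : clM F (qq F 24576) (lA 0 1 0 1 - lA 0 2 0 1) :=
    cl_qq (((cod_t'.mul cod_t).congr (by decide)).of_cg ⟨-lA 0 2 0 1, by abel⟩)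
  have h2 := mt_Mon.ne_of_norm h1 (hn.ge.trans_lt' (by norm_num)) (hn.le.trans (by norm_num))
  obtain ⟨c, hc, e⟩ := mt_Mon.conj_of_smul _ (cl_qq cod_t') (b ▸ h1) h2.1 h2.2
  have h3 := mt_Mon.act c _ hc.symm (cl_qq (F := F) cod_t)
  rw [a] at h3
  rcases (mt_Mon.eq_iff h3 (cl_qq cod_t)).2 (Cg.refl _) with k | k
  · exact ⟨c, mem_PP.2 ⟨mem_CZ.1 c.2, by simpa [Cj] using k⟩, e⟩
  · replace k := k.trans ((congrArg _ qq_z.symm).trans (qq_mul _ _))
    have k1 : cjc 1 (mul 12288 ZC) = 12288 := by decide +kernel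
    have k2 : cjc 1 24576 = 24576 := by decide +kernel
    refine ⟨qq F 1 * c, mem_PP.2 ⟨mem_CZ.1 (mul_mem (mem_CZ.2 (qq_comm_z 1)) c.2), ?_⟩,
      (k2 ▸ cj_qq 1 24576).comp e⟩
    simpa using (k1 ▸ cj_qq (F := F) 1 (mul 12288 ZC)).comp k

theorem t'_mem : (⟨qq F 20480, qq_GG _⟩ : GG F []) ∈ CZ (t0 F) :=
  mem_CZ.2 (Subtype.ext ((qq_mul _ _).trans ((qq_congr (by decide)).trans (qq_mul _ _).symm)))
variable (F) in
/-- the second 2A involution, as an element of `C(t)` -/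
noncomputable def t1 : CZ (t0 F) := ⟨_, t'_mem⟩
variable (F) in
/-- the 2A involution of the Baby Monster -/
noncomputable def d0 : B0 F := pB _ (t1 F)

theorem t0_sq : t0 F * t0 F = 1 :=
  Subtype.ext ((qq_mul _ _).trans ((qq_congr (by decide)).trans qq_zero))

theorem orderOf_d0 : orderOf (d0 F) = 2 := by
  refine orderOf_eq_two (fun e => ?_) ?_
  · rw [d0, ← map_one (pB _), pB_eq t0_sq] at e
    rcases e with e | e
    · exact absurd (qq_inj ((congrArg Subtype.val e).trans qq_zero.symm)) (by decide)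
    · exact absurd (qq_inj ((congrArg Subtype.val e).trans (one_mul _))) (by decide)
  · rw [d0, ← map_mul, show t1 F * t1 F = 1 from Subtype.ext (Subtype.ext
      ((qq_mul _ _).trans ((qq_congr (by decide)).trans qq_zero))), map_one]

theorem card_CZ_t1 (h : H75.BM.Ord F) : Nat.card (CZ (t1 F)) = 4 * 76532479683774853939200 := by
  rw [← h.cardK]
  refine Nat.card_congr (Equiv.ofBijective (fun c => ⟨c.1.1.1, h.centK ▸
    ⟨Subgroup.mem_centralizer_singleton_iff.2 (congrArg (·.1.1) (mem_CZ.1 c.2)),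
      (mem_CZ_t0 h).1 c.1.2⟩⟩) ⟨fun a b e => Subtype.ext (Subtype.ext (Subtype.ext
        (Subtype.mk.inj e))), fun ⟨c, hc⟩ => ?_⟩)
  rw [← h.centK] at hc
  exact ⟨⟨⟨⟨c, GG_TB_le h hc.2⟩, (mem_CZ_t0 h).2 hc.2⟩, mem_CZ.2 (Subtype.ext (Subtype.ext
    (Subgroup.mem_centralizer_singleton_iff.1 hc.1)))⟩, rfl⟩

theorem card_CZ_d0 (h : H75.BM.Ord F) : Nat.card (CZ (d0 F)) = 306129918735099415756800 := by
  have := finite0 h
  obtain ⟨c, hc, e⟩ := exists_swap (F := F)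
  have e' : c * qq F 20480 = qq F 20480 * c * qq F 12288 := by
    rw [e.comm, mul_assoc, (mem_PP.1 hc).2 12288 (by simp) |>.comm, ← mul_assoc, qq_mul]
    exact congrArg (· * c) (qq_congr (by decide))
  exact (card_CZ_pB (baby0 h).1 (a := t1 F) (c := ⟨⟨c, GG_TB_le h (PP_le_GG hc)⟩,
    (mem_CZ_t0 h).2 (PP_le_GG hc)⟩) (Subtype.ext e')).trans (card_CZ_t1 h)

theorem S0466_of (h : H75.BM.Ord F)
    (h4 : ∀ g ∈ GG F H75.BM.TB, ∃ n, 0 < n ∧ n ≤ 4 ∧
      ((qq F 20480 * (g * qq F 20480 * g⁻¹)) ^ n = 1 ∨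
        (qq F 20480 * (g * qq F 20480 * g⁻¹)) ^ n = qq F 12288)) :
    ∃ (G : Type) (_ : Group G) (_ : Finite G), IsB G ∧ ∃ D : Set G, (∃ d ∈ D, D = conjugatesOf d) ∧
      Nat.card D = 13571955000 ∧ (∀ d ∈ D, orderOf d = 2) ∧
      (∀ d ∈ D, ∀ e ∈ D, orderOf (d * e) ≤ 4) ∧
      ∀ d ∈ D, Nat.card (Subgroup.centralizer ({d} : Set G)) = 306129918735099415756800 := by
  have := finite0 h
  refine ⟨B0 F, inferInstance, inferInstance, isB0 h, _, ⟨d0 F, IsConj.refl _, rfl⟩, ?_,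
    fun d hd => ?_, fun d hd e he => ?_, fun d hd => ?_⟩
  · have := (CZ (d0 F)).index_mul_card
    rw [card_CZ_d0 h, (isB0 h).2] at this
    rw [H71.card_conjugatesOf]
    change (CZ (d0 F)).index = _
    omega
  all_goals obtain ⟨g, rfl⟩ := isConj_iff.1 hd
  · exact ((MulAut.conj g).orderOf_eq _).trans orderOf_d0
  · obtain ⟨k, rfl⟩ := isConj_iff.1 he
    rw [show g * d0 F * g⁻¹ * (k * d0 F * k⁻¹) =
      MulAut.conj g (d0 F * (g⁻¹ * k * d0 F * (g⁻¹ * k)⁻¹)) by simp [mul_assoc],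
      MulEquiv.orderOf_eq]
    generalize g⁻¹ * k = l
    obtain ⟨x, rfl⟩ := QuotientGroup.mk'_surjective (ZT (t0 F)) l
    have hx : x.1.1 ∈ GG F H75.BM.TB := (mem_CZ_t0 h).1 x.2
    refine (h4 x.1.1 hx).elim fun n h2 => ?_
    refine (orderOf_le_of_pow_eq_one h2.1 (pow_pB t0_sq (t1 F) x ?_)).trans h2.2.1
    simp only [Subtype.ext_iff (p := (· ∈ GG F [])), Subgroup.coe_pow, Subgroup.coe_mul,
      Subgroup.coe_inv, Subgroup.coe_one]
    exact h2.2.2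
  · exact (Nat.card_congr (czConj g _).toEquiv).symm.trans (card_CZ_d0 h)

end H23.Om
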