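import Cfsg.Agent.H7.HKSSpec3
import Cfsg.Agent.H7.SylowIn
import Cfsg.Agent.H72.HKS1
import Cfsg.Agent.H3.HkKit2
import Cfsg.Agent.H69.FieldAut

/-! HKS, chapter III-2: calculus in the centraliser of an involution in the four-group case. -/

set_option autoImplicit false
set_option linter.unusedSectionVars false

namespace H23.HK

open MulAction Cfsg Subgroup H89.K H65 H7.HKS
open H72.HKS (kit1)
open H3.HK2 (kit2)

universe u

theorem ringEquiv_eq_one {F : Type} [Field F] [Fintype F] (h : Fintype.card F % 4 = 3) {σ : F ≃+* F}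
    {j : ℕ} (hσ : σ ^ 2 ^ j = 1) : σ = 1 := by
  obtain ⟨p, hc⟩ := CharP.exists F
  have : Fact p.Prime := ⟨CharP.char_is_prime F p⟩
  let _ : Algebra (ZMod p) F := ZMod.algebra F p
  have e := Module.card_eq_pow_finrank (K := ZMod p) (V := F)
  rw [ZMod.card] at e
  have ho : Odd (Module.finrank (ZMod p) F) := by
    refine Nat.not_even_iff_odd.1 ?_
    rintro ⟨m, hm⟩
    rw [e, hm, pow_add] at h
    generalize p ^ m = r at h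
    have : r % 4 = 0 ∨ r % 4 = 1 ∨ r % 4 = 2 ∨ r % 4 = 3 := by omega
    rcases this with h' | h' | h' | h' <;> simp [Nat.mul_mod, h'] at h
  rw [← H69.card_ringEquiv p] at ho
  exact orderOf_eq_one_iff.1 (Nat.Coprime.eq_one_of_dvd (Nat.Coprime.pow_right j
    (Nat.coprime_two_right.2 (ho.of_dvd_nat (orderOf_dvd_natCard σ)))) (orderOf_dvd_of_pow_eq_one hσ))

section Gen
variable {G : Type*} [Group G] {t g : G}

/-- `C(t)` -/
abbrev Cz (t : G) : Subgroup G := centralizer {t}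

theorem mem_Cz : g ∈ Cz t ↔ g * t = t * g := mem_centralizer_singleton_iff

theorem nor_sing : g ∈ normalizer ({t} : Set G) ↔ g ∈ Cz t := by
  rw [mem_Cz, mem_set_normalizer_iff]
  constructor
  · intro h
    exact mul_inv_eq_iff_eq_mul.1 ((h t).1 rfl)
  · intro h n
    rw [Set.mem_singleton_iff, Set.mem_singleton_iff, mul_inv_eq_iff_eq_mul, ← h, mul_right_inj]

theorem sq_of_ord (h : orderOf t = 2) : t * t = 1 := by rw [← pow_two, ← h, pow_orderOf_eq_one]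
theorem ne_of_ord (h : orderOf t = 2) : t ≠ 1 := fun e => by simp [e] at h
theorem ord_of (h : t * t = 1) (h1 : t ≠ 1) : orderOf t = 2 := orderOf_eq_prime (by rwa [pow_two]) h1

theorem cj_sq {x y : G} (h : x * x = y) (g : G) : g * x * g⁻¹ * (g * x * g⁻¹) = g * y * g⁻¹ := by
  rw [← h]; group

theorem isConj_of {x y : G} (g : G) (h : g * x * g⁻¹ = y) : IsConj x y := isConj_iff.2 ⟨g, h⟩

theorem two_zp {x : G} {k : ℕ} (h : x ^ 2 ^ k = 1) : IsPGroup 2 (zpowers x) := by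
  rintro ⟨_, j, rfl⟩
  refine ⟨k, Subtype.ext ?_⟩
  change (x ^ j) ^ 2 ^ k = 1
  rw [← zpow_natCast, ← zpow_mul, mul_comm, zpow_mul, zpow_natCast, h, one_zpow]

theorem two_of_mem {P : Subgroup G} (hP : IsPGroup 2 P) {x : G} (hx : x ∈ P) : Two x :=
  (hP ⟨x, hx⟩).imp fun _ h => congrArg Subtype.val h

theorem mem_sup_zp {N : Subgroup G} {s : G} (hn : s ∈ normalizer (N : Set G)) (h2 : s * s ∈ N)
    (h : g ∈ N ⊔ zpowers s) : g ∈ N ∨ g * s⁻¹ ∈ N := by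
  obtain ⟨n, hn', _, ⟨k, rfl⟩, rfl⟩ := (H7.mem_sup_iff_of_le_normalizer (zpowers_le.2 hn)).1 h
  have h3 : ∀ j : ℤ, s ^ (2 * j) ∈ N := fun j => by rw [zpow_mul, zpow_two]; exact zpow_mem h2 j
  rcases Int.even_or_odd' k with ⟨j, rfl | rfl⟩
  · exact Or.inl (mul_mem hn' (h3 j))
  · right
    change n * s ^ (2 * j + 1) * s⁻¹ ∈ N
    rw [zpow_add, zpow_one, mul_assoc, mul_inv_cancel_right]
    exact mul_mem hn' (h3 j)

theorem nor_zp [Finite G] {x : G} (h : g * x * g⁻¹ ∈ zpowers x) : g ∈ normalizer (zpowers x : Set G) :=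
  H7.mem_normalizer_of_forall (by
    rintro _ ⟨k, rfl⟩
    rw [← conj_zpow]
    exact zpow_mem h k)

end Gen

variable {G Ω : Type u} [Group G] [Finite G] [MulAction G Ω] {U : Ω → Subgroup G} {a b : Ω} {t g : G}

theorem mem_Fx1 {c : Ω} : c ∈ Fx Ω {t} ↔ t • c = c := by simp [Fx]
theorem mem_Fx2 {c : Ω} {w : G} : c ∈ Fx Ω {w, t} ↔ w • c = c ∧ t • c = c := by simp [Fx]

theorem mem_Kh {k : G} : k ∈ Kh Ω {t} ↔ (∀ c ∈ Fx Ω {t}, k • c = c) ∧ k * t = t * k :=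
  and_congr (mem_fixingSubgroup_iff G) mem_Cz

theorem Kh_cj {k : G} (hk : k ∈ Kh Ω {t}) (g : G) : g * k * g⁻¹ ∈ Kh Ω {g * t * g⁻¹} := by
  obtain ⟨h1, h2⟩ := mem_Kh.1 hk
  refine mem_Kh.2 ⟨fun c hc => ?_, by
    calc g * k * g⁻¹ * (g * t * g⁻¹) = g * (k * t) * g⁻¹ := by group
      _ = _ := by rw [h2]; group⟩
  rw [mem_Fx1, mul_smul, mul_smul, ← eq_inv_smul_iff] at hc
  rw [mul_smul, mul_smul, h1 _ (mem_Fx1.2 hc), smul_inv_smul]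

theorem nK (hg : g ∈ Cz t) : g ∈ normalizer (Kh Ω {t} : Set G) :=
  H7.mem_normalizer_of_forall fun k hk => by
    have := Kh_cj hk g
    rwa [mem_Cz.1 hg, mul_inv_cancel_right] at this

theorem hasQ_cj {t' : G} (h : HasQ Ω t) (hc : IsConj t t') : HasQ Ω t' := by
  obtain ⟨g, rfl⟩ := isConj_iff.1 hc
  obtain ⟨k, hk, k', hk', e1, e2, e3⟩ := h
  refine ⟨_, Kh_cj hk g, _, Kh_cj hk' g, cj_sq e1 g, cj_sq e2 g, ?_⟩
  calc _ = g * (k' * k * k'⁻¹) * g⁻¹ := by group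
    _ = _ := by rw [e3]; group

theorem t_mem_Kh : t ∈ Kh Ω {t} := mem_Kh.2 ⟨fun _ hc => mem_Fx1.1 hc, rfl⟩

/-- the inner elements of `C(t)` -/
abbrev IK (U : Ω → Subgroup G) (t : G) : Subgroup G := LX U {t} ⊔ Kh Ω {t}

/-- an involution fixing `a`, `b` in the four-group case -/
structure I4 (U : Ω → Subgroup G) (a b : Ω) (t : G) : Prop where
  c4 : C4 U
  ne : a ≠ b
  iv : Iv t a b

namespace I4
variable (h : I4 U a b t)
include h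

theorem rg : Rg U := h.c4.toRg
theorem pre : Pre U := h.c4.toCore.pre
theorem sub : ({t} : Set G) ⊆ St G a b := Set.singleton_subset_iff.2 h.iv.1
theorem sq : t * t = 1 := sq_of_ord h.iv.2
theorem t1 : t ≠ 1 := ne_of_ord h.iv.2
theorem tinv : t⁻¹ = t := inv_eq_of_mul_eq_one_right h.sq
theorem LC : LX U {t} ≤ Cz t := (kit1.fx h.rg h.ne h.sub).2.2.2.1
theorem nL (hg : g ∈ Cz t) : g ∈ normalizer (LX U {t} : Set G) :=
  (kit1.fx h.rg h.ne h.sub).2.2.2.2.1 (nor_sing.2 hg)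
theorem cjL (hg : g ∈ Cz t) {l : G} (hl : l ∈ LX U {t}) : g * l * g⁻¹ ∈ LX U {t} :=
  H7.conj_mem_of_mem_normalizer (h.nL hg) hl
theorem KL {k l : G} (hk : k ∈ Kh Ω {t}) (hl : l ∈ LX U {t}) : k * l = l * k :=
  (kit1.fx h.rg h.ne h.sub).2.2.2.2.2.1 k (mem_Kh.1 hk).1 l hl
theorem aF : a ∈ Fx Ω {t} := mem_Fx1.2 h.iv.1.1
theorem bF : b ∈ Fx Ω {t} := mem_Fx1.2 h.iv.1.2
theorem KS {k : G} (hk : k ∈ Kh Ω {t}) : k ∈ St G a b := ⟨(mem_Kh.1 hk).1 a h.aF, (mem_Kh.1 hk).1 b h.bF⟩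
theorem IKC : IK U t ≤ Cz t := sup_le h.LC inf_le_right

theorem Kinv {k : G} (hk : k ∈ Kh Ω {t}) (h2 : k * k = 1) : k = 1 ∨ k = t := by
  refine h.c4.nof h.ne h.iv k h2 (mem_Kh.1 hk).2 ?_
  have e : Fx Ω {k, t} = Fx Ω {t} := Set.ext fun c => by
    rw [mem_Fx2, mem_Fx1]
    exact ⟨fun h => h.2, fun h => ⟨(mem_Kh.1 hk).1 c (mem_Fx1.2 h), h⟩⟩
  rw [e, (kit1.fx h.rg h.ne h.sub).2.1]
  have := (one_lt_card_iff_ne_bot _).2 (h.c4.fx3 h.ne h.iv)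
  omega

theorem mem_IK : g ∈ IK U t ↔ ∃ l ∈ LX U {t}, ∃ k ∈ Kh Ω {t}, g = l * k :=
  H7.mem_sup_iff_of_le_normalizer fun _ hk => h.nL (mem_Cz.2 (mem_Kh.1 hk).2)

theorem inn_iff (hg : g ∈ Cz t) : Inn U {t} g ↔ g ∈ IK U t := by
  rw [h.mem_IK]
  constructor
  · rintro ⟨l, hl, e⟩
    refine ⟨l, hl, l⁻¹ * g, mem_Kh.2 ⟨fun c hc => by rw [mul_smul, e c hc, inv_smul_smul],
      mem_Cz.1 (mul_mem (inv_mem (h.LC hl)) hg)⟩, by group⟩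
  · rintro ⟨l, hl, k, hk, rfl⟩
    exact ⟨l, hl, fun c hc => by rw [mul_smul, (mem_Kh.1 hk).1 c hc]⟩

theorem cjI (hg : g ∈ Cz t) {x : G} (hx : x ∈ IK U t) : g * x * g⁻¹ ∈ IK U t := by
  obtain ⟨l, hl, k, hk, rfl⟩ := h.mem_IK.1 hx
  exact h.mem_IK.2 ⟨_, h.cjL hg hl, _, H7.conj_mem_of_mem_normalizer (nK hg) hk, by group⟩

theorem le2 {w : G} (h2 : w * w = 1) (hc : w ∈ Cz t) (h1 : w ≠ 1) (ht : w ≠ t) :
    (Fx Ω {w, t}).ncard ≤ 2 := by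
  by_contra h3
  rcases h.c4.nof h.ne h.iv w h2 (mem_Cz.1 hc) (by omega) with e | e
  exacts [h1 e, ht e]

theorem outd (k3 : Kit3.{u}) : ∃ (P : Type) (_ : Group P) (d : normalizer ({t} : Set G) →* ℤˣ)
    (φ : normalizer ({t} : Set G) →* P),
    (∀ g : normalizer ({t} : Set G), (d g = 1 ∧ φ g = 1) ↔ (g : G) ∈ IK U t) ∧
    (∀ g : normalizer ({t} : Set G), Nat.card (U a) % 4 = 3 → Two (g : G) → φ g = 1) ∧
    ∀ g : normalizer ({t} : Set G), (g : G) * g = 1 → (g : G) ≠ 1 → (g : G) ≠ t → φ g = 1 ∧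
      (((Fx Ω {(g : G), t}).ncard = 2 ∧ (d g = 1 ↔ Nat.card (U a) % 4 = 1)) ∨
        (Fx Ω {(g : G), t} = ∅ ∧ (d g = 1 ↔ Nat.card (U a) % 4 = 3))) := by
  obtain ⟨⟨F, _, _, x, y, ld⟩, h4⟩ := h.c4.tl h.ne h.iv
  rw [(kit2.bas h.rg.sr h.ne inf_le_left inf_le_left ld).2.1] at h4
  obtain ⟨d, φ, h1, -, h3⟩ := k3.out h.rg h.ne h.sub ld
  refine ⟨_, _, d, φ, fun g => (h1 g).trans (h.inn_iff (nor_sing.1 g.2)), fun g e ⟨j, hj⟩ => ?_,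
    fun g e1 e2 e3 => ?_⟩
  · refine ringEquiv_eq_one (h4.trans e) (j := j) ?_
    rw [← map_pow, ← map_one φ]
    exact congrArg φ (Subtype.ext hj)
  · have hle := h.le2 e1 (nor_sing.1 g.2) e2 e3
    rw [← h4]
    rcases h3 g (fun c _ => by rw [e1, one_smul]) (fun ht => (h.Kinv (mem_Kh.2 ⟨ht, mem_Cz.1 (nor_sing.1 g.2)⟩) e1).elim e2 e3)
      with h5 | h5 | h5
    · exact absurd h5.2.1 (by omega)
    · exact ⟨h5.1, Or.inl h5.2⟩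
    · exact ⟨h5.1, Or.inr h5.2⟩

theorem dich (k3 : Kit3.{u}) {w : G} (h2 : w * w = 1) (hc : w ∈ Cz t) (h1 : w ≠ 1) (ht : w ≠ t) :
    ((Fx Ω {w, t}).ncard = 2 ∧ (w ∈ IK U t ↔ Nat.card (U a) % 4 = 1)) ∨
      (Fx Ω {w, t} = ∅ ∧ (w ∈ IK U t ↔ Nat.card (U a) % 4 = 3)) := by
  obtain ⟨P, _, d, φ, e1, -, e3⟩ := h.outd k3
  obtain ⟨e4, e5⟩ := e3 ⟨w, nor_sing.2 hc⟩ h2 h1 ht
  have := e1 ⟨w, nor_sing.2 hc⟩
  rw [and_iff_left e4] at this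
  rwa [this] at e5

/-- the product of two outer involutions, or outer `2`-elements if `q ≡ 3 (mod 4)`, is inner -/
theorem mul_in (k3 : Kit3.{u}) {g g' : G} (hg : g ∈ Cz t) (hg' : g' ∈ Cz t)
    (p : g * g = 1 ∨ (Nat.card (U a) % 4 = 3 ∧ Two g))
    (p' : g' * g' = 1 ∨ (Nat.card (U a) % 4 = 3 ∧ Two g')) (n : g ∉ IK U t) (n' : g' ∉ IK U t) :
    g * g' ∈ IK U t := by
  obtain ⟨P, _, d, φ, e1, e2, e3⟩ := h.outd k3
  have key : ∀ x : normalizer ({t} : Set G), ((x : G) * x = 1 ∨ (Nat.card (U a) % 4 = 3 ∧ Two (x : G))) →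
      (x : G) ∉ IK U t → φ x = 1 ∧ d x = -1 := fun x p n => by
    have h1 : φ x = 1 := p.elim (fun p => (e3 x p (fun e => n (e ▸ one_mem _))
      fun e => n (by rw [e]; exact mem_sup_right t_mem_Kh)).1) fun p => e2 x p.1 p.2
    exact ⟨h1, (Int.units_eq_one_or _).resolve_left fun e => n ((e1 x).1 ⟨e, h1⟩)⟩
  obtain ⟨a1, a2⟩ := key ⟨g, nor_sing.2 hg⟩ p n
  obtain ⟨b1, b2⟩ := key ⟨g', nor_sing.2 hg'⟩ p' n'
  exact (e1 (⟨g, nor_sing.2 hg⟩ * ⟨g', nor_sing.2 hg'⟩)).1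
    ⟨by rw [map_mul, a2, b2]; simp, by rw [map_mul, a1, b1, mul_one]⟩

/-- an involution with a fixed point on `Fix t` is inner iff `q ≡ 1 (mod 4)` -/
theorem in_iff_of_fix (k3 : Kit3.{u}) {w : G} (h2 : w * w = 1) (hc : w ∈ Cz t) (h1 : w ≠ 1) (ht : w ≠ t)
    (ha : w • a = a) : w ∈ IK U t ↔ Nat.card (U a) % 4 = 1 :=
  ((h.dich k3 h2 hc h1 ht).resolve_right fun e =>
    (e.1 ▸ mem_Fx2.2 ⟨ha, h.iv.1.1⟩ : a ∈ (∅ : Set Ω))).2

theorem move {w : G} (h2 : (Fx Ω {w, t}).ncard = 2) : ∃ l ∈ LX U {t}, l * w * l⁻¹ ∈ St G a b := by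
  obtain ⟨c, e, hce, h3⟩ := Set.ncard_eq_two.1 h2
  have hc := mem_Fx2.1 (h3 ▸ Or.inl rfl : c ∈ Fx Ω {w, t})
  have he := mem_Fx2.1 (h3 ▸ Or.inr rfl : e ∈ Fx Ω {w, t})
  obtain ⟨l, hl, rfl, rfl⟩ := (kit1.fx h.rg h.ne h.sub).2.2.2.2.2.2.2 (h.c4.fx3 h.ne h.iv) c
    (mem_Fx1.2 hc.2) e (mem_Fx1.2 he.2) hce
  refine ⟨l⁻¹, inv_mem hl, ?_, ?_⟩
  · change (l⁻¹ * w * l⁻¹⁻¹) • a = a
    rw [inv_inv, mul_smul, mul_smul, hc.1, inv_smul_smul]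
  · change (l⁻¹ * w * l⁻¹⁻¹) • b = b
    rw [inv_inv, mul_smul, mul_smul, he.1, inv_smul_smul]

theorem lc {w l : G} (hw : w ∈ Cz t) (hl : l ∈ LX U {t}) (h2 : w * w = 1) (h2' : l * w * (l * w) = 1)
    (h1 : w ≠ 1) (ht : w ≠ t) (h1' : l * w ≠ 1) (ht' : l * w ≠ t) : IsConj w (l * w) := by
  have e : w * (w⁻¹ * l * w⁻¹⁻¹) = l * w := by group
  obtain ⟨g, -, hg⟩ := kit2.lc h.rg h.ne h.sub (h.c4.tl h.ne h.iv).1 w hw _ (h.cjL (inv_mem hw) hl) h2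
    (by rw [e, h2']) (h.le2 h2 hw h1 ht) (by rw [e]; exact h.le2 h2' (mul_mem (h.LC hl) hw) h1' ht')
  exact isConj_of g (e ▸ hg)

theorem lc_out {w l : G} (hw : w ∈ Cz t) (hl : l ∈ LX U {t}) (h2 : w * w = 1)
    (h2' : l * w * (l * w) = 1) (hn : w ∉ IK U t) : IsConj w (l * w) :=
  have hn' : l * w ∉ IK U t := fun e => hn ((mul_mem_cancel_left (mem_sup_left hl)).1 e)
  h.lc hw hl h2 h2' (fun e => hn (e ▸ one_mem _)) (fun e => hn (e ▸ mem_sup_right t_mem_Kh))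
    (fun e => hn' (e ▸ one_mem _)) fun e => hn' (e ▸ mem_sup_right t_mem_Kh)

/-- a `2`-subgroup of the kernel is abelian unless the kernel contains a quaternion group -/
theorem cyc (k3 : Kit3.{u}) (hq : ¬ HasQ Ω t) {R : Subgroup G} (hR : IsPGroup 2 R) (hK : R ≤ Kh Ω {t})
    (ht : t ∈ R) : IsCyclic R := by
  refine (k3.quat R t hR ht h.iv.2 fun g hg => h.Kinv (hK hg)).resolve_right ?_
  rintro ⟨ρ, κ, r, hr, -, e1, e2, e3, -, e4⟩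
  refine hq ⟨ρ ^ 2 ^ (r - 2), hK ((e4 _).2 ⟨_, Or.inl rfl⟩), κ, hK ((e4 _).2 ⟨0, Or.inr (by simp)⟩), ?_,
    e2, by rw [← conj_pow, e3, inv_pow]⟩
  rw [← pow_two, ← pow_mul, ← pow_succ, show r - 2 + 1 = r - 1 by omega, e1]

theorem sq_eq {k k' : G} (hk : k ∈ Kh Ω {t}) (hk' : k' ∈ Kh Ω {t}) (e : k * k = t) (e' : k' * k' = t)
    (hc : k * k' = k' * k) : k' = k ∨ k' = t * k := by
  have hc' : Commute k' k⁻¹ := (show Commute k' k from hc.symm).inv_right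
  rcases h.Kinv (mul_mem hk' (inv_mem hk)) (by
    rw [← pow_two, hc'.mul_pow, inv_pow, pow_two, pow_two, e, e', mul_inv_cancel]) with e1 | e1
  exacts [Or.inl (mul_inv_eq_one.1 e1), Or.inr (mul_inv_eq_iff_eq_mul.1 e1)]

theorem swap : I4 U b a t := ⟨h.c4, h.ne.symm, ⟨h.iv.1.2, h.iv.1.1⟩, h.iv.2⟩

end I4

/-- an involution of type SL -/
structure S4 (U : Ω → Subgroup G) (a b : Ω) (t : G) : Prop extends I4 U a b t where
  sl : SLt U t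

namespace S4
variable (h : S4 U a b t)
include h

theorem data : ∃ (F : Type) (_ : Field F) (_ : Fintype F) (x y : F → G),
    LD x y (CU U {t} a) (CU U {t} b) a b ∧ sl2h x y (-1) = t ∧ LX U {t} = CU U {t} a ⊔ CU U {t} b ∧
      Nat.card (CU U {t} a) = Fintype.card F ∧ Fintype.card F % 4 = Nat.card (U a) % 4 := by
  obtain ⟨⟨F, _, _, x, y, ld⟩, h4⟩ := h.c4.tl h.ne h.iv
  have e := (kit2.bas h.rg.sr h.ne inf_le_left inf_le_left ld).2.1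
  exact ⟨F, _, _, x, y, ld, ((h.c4.sl h.ne h.iv ld).resolve_right fun e => e.1 h.sl).2,
    kit2.lx h.rg h.ne h.sub ld, e, e ▸ h4⟩

theorem Linv {l : G} (hl : l ∈ LX U {t}) (h2 : l * l = 1) : l = 1 ∨ l = t := by
  obtain ⟨F, _, _, x, y, ld, e, eL, -⟩ := h.data
  have := ((kit2.grp h.rg.sr h.ne inf_le_left inf_le_left ld).1 (e ▸ h.t1)).2 l (eL ▸ hl) h2
  rwa [e] at this

theorem LK {l : G} (hl : l ∈ LX U {t}) (hk : l ∈ Kh Ω {t}) : l = 1 ∨ l = t := by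
  obtain ⟨F, _, _, x, y, ld, e, eL, -⟩ := h.data
  have := (kit2.grp h.rg.sr h.ne inf_le_left inf_le_left ld).2.2.1 l (eL ▸ hl)
    fun g hg => h.KL hk (eL ▸ hg)
  rwa [e] at this

theorem L4 (k3 : Kit3.{u}) {l l' : G} (hl : l ∈ LX U {t}) (hl' : l' ∈ LX U {t}) (h2 : l * l = t)
    (h2' : l' * l' = t) : ∃ g ∈ LX U {t}, g * l * g⁻¹ = l' := by
  obtain ⟨F, _, _, x, y, ld, e, -, -⟩ := h.data
  have := (k3.slc h.rg h.ne h.sub ld (e ▸ h.t1)).2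
  obtain ⟨g, hg, e1⟩ := this l hl (e ▸ h2)
  obtain ⟨g', hg', e2⟩ := this l' hl' (e ▸ h2')
  refine ⟨g'⁻¹ * g, mul_mem (inv_mem hg') hg, ?_⟩
  calc g'⁻¹ * g * l * (g'⁻¹ * g)⁻¹ = g'⁻¹ * (g * l * g⁻¹) * g' := by group
    _ = l' := by rw [e1, ← e2]; group

theorem L4K (k3 : Kit3.{u}) {l l' k : G} (hl : l ∈ LX U {t}) (hl' : l' ∈ LX U {t}) (h2 : l * l = t)
    (h2' : l' * l' = t) (hk : k ∈ Kh Ω {t}) : IsConj (l * k) (l' * k) := by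
  obtain ⟨g, hg, e⟩ := h.L4 k3 hl hl' h2 h2'
  refine isConj_of g ?_
  rw [← e, mul_assoc g, mul_assoc l, h.KL hk (inv_mem hg)]; group

theorem lk_sq {l k : G} (hl : l ∈ LX U {t}) (hk : k ∈ Kh Ω {t}) (h2 : l * k * (l * k) = 1)
    (h1 : l * k ≠ 1) (ht : l * k ≠ t) : l * l = t ∧ k * k = t := by
  have e : l * l * (k * k) = 1 := by rw [← h2, mul_assoc l k, ← mul_assoc k, h.KL hk hl]; group
  have e' : l * l = (k * k)⁻¹ := eq_inv_of_mul_eq_one_left e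
  rcases h.LK (mul_mem hl hl) (e' ▸ inv_mem (mul_mem hk hk)) with e1 | e1
  · exfalso
    rw [e1, one_mul] at e
    rcases h.Linv hl e1 with rfl | rfl <;> rcases h.Kinv hk e with rfl | rfl
    exacts [h1 (mul_one _), ht (one_mul _), ht (mul_one _), h1 h.sq]
  · refine ⟨e1, ?_⟩
    rw [e1] at e
    rw [eq_inv_of_mul_eq_one_right e, h.tinv]

theorem inv_dec {w : G} (hw : w ∈ IK U t) (h2 : w * w = 1) (h1 : w ≠ 1) (ht : w ≠ t) :
    ∃ l ∈ LX U {t}, ∃ k ∈ Kh Ω {t}, w = l * k ∧ l * l = t ∧ k * k = t := by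
  obtain ⟨l, hl, k, hk, rfl⟩ := h.mem_IK.1 hw
  exact ⟨l, hl, k, hk, rfl, h.lk_sq hl hk h2 h1 ht⟩

theorem of_conj {v : G} (hv : Iv v a b) (hc : IsConj t v) : S4 U a b v := by
  obtain ⟨g, rfl⟩ := isConj_iff.1 hc
  exact ⟨⟨h.c4, h.ne, hv⟩, h.c4.slJ g t h.sl⟩

theorem oddC : Odd (Cz t).index := (h.c4.slc h.ne h.iv h.sl).1

/-- a `2`-subgroup is conjugate into `C(t)` -/
theorem into {A : Subgroup G} (hA : IsPGroup 2 A) : ∃ g : G, ∀ x ∈ A, g * x * g⁻¹ ∈ Cz t := by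
  have : Fact (Nat.Prime 2) := ⟨Nat.prime_two⟩
  obtain ⟨S, hS⟩ := H7.exists_isSylowIn (p := 2) (Cz t)
  obtain ⟨g, -, hg⟩ := (hS.trans_not_dvd le_top (by
    rw [relIndex_top_right]; exact h.oddC.not_two_dvd_nat)).exists_conj_le hA le_top
  exact ⟨g, fun x hx => hS.le (H7.conj_smul_le_iff.1 hg x hx)⟩

/-- an outer conjugate of `t` for `q ≡ 3 (mod 4)` -/
theorem ex_fr (k3 : Kit3.{u}) (h3 : Nat.card (U a) % 4 = 3)
    (hn : ∀ w ∈ IK U t, w * w = 1 → w ≠ t → ¬ IsConj t w) : ∃ v, Fr t v a b ∧ IsConj t v := by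
  obtain ⟨w, hw, h1, h2⟩ := kit1.zst h.pre t h.iv.2
  have ho : orderOf w = 2 := by
    obtain ⟨g, rfl⟩ := isConj_iff.1 hw
    rw [← MulAut.conj_apply, MulEquiv.orderOf_eq, h.iv.2]
  obtain ⟨l, hl, e⟩ := h.move (((h.dich k3 (sq_of_ord ho) (mem_Cz.2 h2) (ne_of_ord ho) h1).resolve_right
    fun e => hn w (e.2.2 h3) (sq_of_ord ho) h1 hw).1)
  have hlt := mem_Cz.1 (h.LC hl)
  refine ⟨_, ⟨h.iv, ⟨e, by rw [← MulAut.conj_apply, MulEquiv.orderOf_eq, ho]⟩, fun e' => h1 ?_,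
    (mem_Cz.1 (mul_mem (mul_mem (h.LC hl) (mem_Cz.2 h2)) (inv_mem (h.LC hl)))).symm⟩,
    hw.trans (isConj_of l rfl)⟩
  rw [eq_mul_inv_iff_mul_eq, ← hlt] at e'
  exact (mul_left_cancel e').symm

end S4

/-- the Sylow `2`-subgroup of `C(z)` for `q ≡ 3 (mod 4)` -/
structure Sy (U : Ω → Subgroup G) (a b : Ω) (z v : G) (S Q : Subgroup G) (c n : G) (s : ℕ) : Prop where
  syl : H7.IsSylowIn 2 S (Cz z)
  odd : Odd S.index
  QS : Q ≤ S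
  QL : Q ≤ LX U {z}
  nQ : S ≤ normalizer (Q : Set G)
  zQ : z ∈ Q
  cQ : c ∈ Q
  vS : v ∈ S
  s2 : 2 ≤ s
  hn : c ^ 2 ^ (s - 2) = n
  nn : n * n = z
  sw : Sw n a b
  vn : v * n * v⁻¹ = n⁻¹
  nd : ¬ 2 ^ (s + 1) ∣ Nat.card (CU U {z} a) + 1
  sylR : H7.IsSylowIn 2 (S ⊓ Kh Ω {z}) (Kh Ω {z})
  dec : ∀ g ∈ S, ∃ q ∈ Q, ∃ r ∈ S ⊓ Kh Ω {z}, g = q * r ∨ g = q * r * v
  cv : ∀ r ∈ S ⊓ Kh Ω {z}, v * r * v⁻¹ = r → r = 1 ∨ r = z
  vout : v ∉ IK U z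

theorem S4.sy {z v : G} (h : S4 U a b z) (k3 : Kit3.{u}) (h3 : Nat.card (U a) % 4 = 3) (hv : Fr z v a b) :
    ∃ S Q c n s, Sy U a b z v S Q c n s := by
  have : Fact (Nat.Prime 2) := ⟨Nat.prime_two⟩
  obtain ⟨F, _, _, x, y, ld, e, eL, ec, e4⟩ := h.data
  obtain ⟨c, d, s, s2, -, nd, hc, hd, hn, dc, dd, -, hodd, hv'⟩ :=
    kit2.syl h.rg.sr h.ne inf_le_left inf_le_left ld (e4.trans h3)
  rw [← eL] at hc hd hodd
  have vv := sq_of_ord hv.2.1.2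
  have vi : v⁻¹ = v := inv_eq_of_mul_eq_one_right vv
  have hvC : v ∈ Cz z := mem_Cz.2 hv.2.2.2.symm
  obtain ⟨vc, vd⟩ := hv' v hv.2.1.1 (fun e => by
      rw [vi, h.c4.neg h.ne hv _ ((ld.rx _).2 ⟨e, rfl⟩)]
      exact inv_eq_of_mul_eq_one_right (by rw [ld.rel.x_add, add_neg_cancel, ld.rel.x_zero]))
    fun e => by
      rw [vi, h.c4.neg h.ne.symm ⟨h.swap.iv, ⟨⟨hv.2.1.1.2, hv.2.1.1.1⟩, hv.2.1.2⟩, hv.2.2⟩ _
        ((ld.ry _).2 ⟨e, rfl⟩)]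
      exact inv_eq_of_mul_eq_one_right (by rw [ld.rel.y_add, add_neg_cancel, ld.rel.y_zero])
  have nn : sl2n x y 1 * sl2n x y 1 = z := ld.rel.n_one_sq.trans e
  have vout : v ∉ IK U z := fun e => by
    have := (h.in_iff_of_fix k3 vv hvC (ne_of_ord hv.2.1.2) hv.2.2.1.symm hv.2.1.1.1).1 e
    omega
  have hQL : closure {c, d} ≤ LX U {z} := (closure_le _).2 (by rintro _ (rfl | rfl); exacts [hc, hd])
  have cQ : c ∈ closure {c, d} := subset_closure (Or.inl rfl)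
  have dQ : d ∈ closure {c, d} := subset_closure (Or.inr rfl)
  have hQ2 : IsPGroup 2 (closure {c, d}) := by
    have : closure {c, d} = zpowers c ⊔ zpowers d := by
      rw [zpowers_eq_closure, zpowers_eq_closure, ← Subgroup.closure_union]; rfl
    rw [this]
    refine IsPGroup.to_sup_of_normal_left' (two_zp (k := s - 2 + 2) ?_) (two_zp (k := 2) ?_)
      (zpowers_le.2 (nor_zp (dc ▸ inv_mem (mem_zpowers c))))
    · rw [pow_add, pow_mul, hn, show 2 ^ 2 = 2 * 2 from rfl, pow_mul, pow_two (sl2n x y 1), nn, pow_two, h.sq]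
    · rw [show 2 ^ 2 = 2 * 2 from rfl, pow_mul, pow_two d, dd, e, pow_two, h.sq]
  have hvQ : v ∈ normalizer (closure {c, d} : Set G) := H7.mem_normalizer_of_forall fun g hg => by
    have : closure {c, d} ≤ (closure {c, d}).comap (MulAut.conj v).toMonoidHom := (closure_le _).2 (by
      rintro _ (rfl | rfl)
      · exact (show v * _ * v⁻¹ ∈ _ from vc ▸ inv_mem cQ)
      · exact (show v * _ * v⁻¹ ∈ _ from vd ▸ mul_mem dQ cQ))
    exact this hg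
  obtain ⟨⟨S, hPS, hSC, hS2, hSo⟩, hsy⟩ := k3.syl (Cz z) (Kh Ω {z}) (closure {c, d} ⊔ zpowers v)
    (sup_le (hQL.trans h.LC) (zpowers_le.2 hvC))
    (hQ2.to_sup_of_normal_left' (two_zp (k := 1) (by rw [pow_one, pow_two, vv])) (zpowers_le.2 hvQ))
    (fun g hg => nK hg) inf_le_right
  obtain ⟨hRo, hsup⟩ := hsy S hSC hS2 hSo
  have hQS : closure {c, d} ≤ S := le_sup_left.trans hPS
  have vS : v ∈ S := hPS (mem_sup_right (mem_zpowers v))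
  have eQ : S ⊓ LX U {z} = closure {c, d} := (H7.IsSylowIn.mk hQL hQ2 hodd.not_two_dvd_nat).eq_of_le
    hS2.to_inf_left (le_inf hQS hQL) inf_le_right
  have dec0 : ∀ g ∈ S, g ∈ IK U z → ∃ q ∈ closure {c, d}, ∃ r ∈ S ⊓ Kh Ω {z}, g = q * r := fun g hg hi => by
    have := (hsup _ h.LC fun g hg => h.nL hg).le ⟨hg, by rwa [sup_comm]⟩
    rw [eQ, sup_comm] at this
    exact (H7.mem_sup_iff_of_le_normalizer fun r hr => H7.mem_normalizer_of_forall fun q hq => by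
      rwa [h.KL hr.2 (hQL hq), mul_inv_cancel_right]).1 this
  refine ⟨S, closure {c, d}, c, _, s, ⟨hSC, hS2, hSo.not_two_dvd_nat⟩, ?_, hQS, hQL, fun g hg => ?_,
    e ▸ dd ▸ mul_mem dQ dQ, cQ, vS, s2, hn, nn, ld.sw 1 one_ne_zero, by rw [← hn, ← conj_pow, vc, inv_pow],
    ec ▸ nd, ⟨inf_le_right, hS2.to_inf_left, hRo.not_two_dvd_nat⟩, fun g hg => ?_, fun r hr e1 => ?_, vout⟩
  · rw [← relIndex_mul_index hSC]
    exact hSo.mul h.oddC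
  · rw [← eQ]
    exact H7.mem_normalizer_of_forall fun q hq =>
      mem_inf.2 ⟨mul_mem (mul_mem hg (mem_inf.1 hq).1) (inv_mem hg), h.cjL (hSC hg) hq.2⟩
  · by_cases hi : g ∈ IK U z
    · obtain ⟨q, hq, r, hr, e⟩ := dec0 g hg hi
      exact ⟨q, hq, r, hr, Or.inl e⟩
    · obtain ⟨q, hq, r, hr, e⟩ := dec0 (g * v) (mul_mem hg vS)
        (h.mul_in k3 (hSC hg) hvC (Or.inr ⟨h3, two_of_mem hS2 hg⟩) (Or.inl vv) hi vout)
      exact ⟨q, hq, r, hr, Or.inr (by rw [← e, mul_assoc, vv, mul_one])⟩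
  · rcases h.c4.m1 h.ne hv h3 r (h.KS hr.2) (two_of_mem hS2 hr.1) (mem_Kh.1 hr.2).2
      (mul_inv_eq_iff_eq_mul.1 e1).symm with e2 | e2 | e2 | e2
    · exact Or.inl e2
    · exact Or.inr e2
    · exact absurd (mem_sup_right (e2 ▸ hr.2)) vout
    · exact absurd (mem_sup_right ((mul_mem_cancel_left t_mem_Kh).1 (e2 ▸ hr.2))) vout

end H23.HK
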