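/- Relative character degrees: the conjugation module (blueprints/GARR.md, Lemma A). -/
import Cfsg.Agent.H44.CD4
import Cfsg.Agent.H38.Ito
import Cfsg.Agent.H32.McE

set_option autoImplicit false
set_option linter.style.haveILetI false

open Cfsg H28 H32 H33 H44
open scoped ComplexConjugate commutatorElement

namespace H23.Garr

variable {G : Type*} [Group G]

/-- An invariant irreducible character `θ`: the character `θ θ̄` extends. -/
theorem exists_conjChar [Finite G] {N : Subgroup G} [hN : N.Normal] {θ : N → ℂ}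
    (hθ : IsIrrCharacter N θ) (hi : inertia θ = ⊤) :
    ∃ Ξ : G → ℂ, IsCharacter G Ξ ∧ ∀ n : N, Ξ n = θ n * conj (θ n) := by
  obtain ⟨d, ρ, hρ, rfl⟩ := id hθ
  have hs := projPi_surjective (ρ := ρ) (inertia_eq_top_iff.1 hi)
  have hk : (projPi N ρ).ker ≤ MonoidHom.ker ((projRep N ρ).linHom (projRep N ρ)) := fun γ hγ => by
    obtain ⟨c, rfl⟩ := exists_projIota_eq_of_mem_ker γ hγ
    rw [MonoidHom.mem_ker]
    refine LinearMap.ext fun X => LinearMap.ext fun v => ?_
    rw [Representation.linHom_apply, ← map_inv, projRep_projIota, projRep_projIota]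
    simp [smul_smul]
  let σ : Representation ℂ G ((Fin d → ℂ) →ₗ[ℂ] (Fin d → ℂ)) :=
    (QuotientGroup.lift _ _ hk).comp
      (QuotientGroup.quotientKerEquivOfSurjective _ hs).symm.toMonoidHom
  have hσ : ∀ γ, σ (projPi N ρ γ) = (projRep N ρ).linHom (projRep N ρ) γ := fun γ => by
    have : (QuotientGroup.quotientKerEquivOfSurjective _ hs).symm (projPi N ρ γ) = γ :=
      (MulEquiv.symm_apply_eq _).2 rfl
    change QuotientGroup.lift _ _ hk ((QuotientGroup.quotientKerEquivOfSurjective _ hs).symm _) = _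
    rw [this]; rfl
  refine ⟨σ.character, isCharacter_rep σ, fun n => ?_⟩
  have h1 : σ.character n = ((projRep N ρ).linHom (projRep N ρ)).character (projNu N ρ n) := by
    unfold Representation.character
    rw [← hσ, projPi_projNu]
  have h2 : ∀ n, (projRep N ρ).character (projNu N ρ n) = ρ.character n := fun n => by
    unfold Representation.character
    rw [projRep_projNu]
  rw [h1, Representation.char_linHom, ← map_inv, h2, h2, hθ.isCharacter.apply_inv, mul_comm]

theorem dvd_deg [Fintype G] {Φ : G → ℂ} (hΦ : IsCharacter G Φ) {c : ℕ}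
    (h : ∀ ξ, IsIrrCharacter G ξ → classInner Φ ξ ≠ 0 → c ∣ charDegree ξ) : c ∣ charDegree Φ := by
  classical
  obtain ⟨a, ha, e⟩ := hΦ.exists_nat_coeffs
  have h1 : charDegree Φ = ∑ ξ : IrrCharacter G, a ξ * charDegree ξ.1 := charDegree_eq (by
    rw [e]
    simp only [Finset.sum_apply, Pi.smul_apply, smul_eq_mul, Nat.cast_sum, Nat.cast_mul]
    exact Finset.sum_congr rfl fun ξ _ => by rw [ξ.2.cast_charDegree])
  rw [h1]
  refine Finset.dvd_sum fun ξ _ => ?_
  by_cases h0 : a ξ = 0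
  · simp [h0]
  · exact (h _ ξ.2 (by rw [ha]; exact_mod_cast h0)).mul_left _

/-- the part of a character with `N` outside the kernels -/
theorem dvd_deg_sub [Fintype G] {N : Subgroup G} [N.Normal] [Fintype N] {Φ : G → ℂ}
    (hΦ : IsCharacter G Φ) {c t k : ℕ} (hk : classInner (fun n : N => Φ n) (fun _ => 1) = k)
    (h : ∀ ξ, IsIrrCharacter G ξ → ¬ N ≤ charKer ξ → c ∣ t * charDegree ξ) :
    ∃ l, charDegree Φ = k + l ∧ c ∣ t * l := by
  classical
  revert k
  refine hΦ.induction (P := fun Φ : G → ℂ => ∀ {k : ℕ}, classInner (fun n : N => Φ n) (fun _ => 1) = k →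
    ∃ l, charDegree Φ = k + l ∧ c ∣ t * l) (fun {k} hk => ⟨0, ?_, by simp⟩)
    fun φ θ hφ hθ ih k hk => ?_
  · rw [show (fun n : N => (0 : G → ℂ) n) = 0 from rfl, classInner_zero_left] at hk
    rw [charDegree_zero, show k = 0 by exact_mod_cast hk.symm]
  obtain ⟨j, hj⟩ := (hθ.restrict N).classInner_nat isCharacter_one
  obtain ⟨l, e, hl⟩ := ih hj
  rw [show (fun n : N => (φ + θ) n) = (fun n : N => φ n) + fun n : N => θ n from rfl,
    classInner_add_left, hj] at hk
  rw [hφ.isCharacter.charDegree_add hθ, e]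
  by_cases h1 : N ≤ charKer φ
  · rw [classInner_restrict_one_of_le_charKer h1, ← hφ.cast_charDegree] at hk
    exact ⟨l, by rw [show k = charDegree φ + j by exact_mod_cast hk.symm]; ring, hl⟩
  · have h0 : classInner (fun n : N => φ n) (fun _ => 1) = 0 :=
      by_contra fun h0 => h1 (hφ.le_charKer_of_classInner_ne_zero N h0)
    rw [h0, zero_add] at hk
    exact ⟨charDegree φ + l, by rw [show k = j by exact_mod_cast hk.symm]; ring,
      by rw [mul_add]; exact dvd_add (h φ hφ h1) hl⟩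

variable [Finite G]

theorem dvd_ind {N T : Subgroup G} {c : ℕ}
    (h : ∀ ξ, IsIrrCharacter G ξ → ¬ N ≤ charKer ξ → c ∣ charDegree ξ) {φ : T → ℂ}
    (hφ : IsIrrCharacter T φ) (hk : ¬ N.subgroupOf T ≤ charKer φ) : c ∣ T.index * charDegree φ := by
  haveI := Fintype.ofFinite G
  haveI := Fintype.ofFinite T
  rw [← hφ.isCharacter.charDegree_indFun]
  refine dvd_deg hφ.isCharacter.indFun fun ξ hξ h0 => h ξ hξ fun h1 => hk ?_
  rw [classInner_indFun_left _ _ hξ.isClassFunction] at h0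
  refine le_trans ?_ ((hξ.isCharacter.restrict T).charKer_le_of_constituent hφ
    fun e => h0 ((classInner_eq_zero_comm _ _).1 e))
  rw [hξ.isCharacter.charKer_restrict]
  exact Subgroup.comap_mono h1

theorem lemA0 {N : Subgroup G} [N.Normal] {θ : N → ℂ} (hθ : IsIrrCharacter N θ) {c : ℕ}
    (h : ∀ ξ, IsIrrCharacter G ξ → ¬ N ≤ charKer ξ → c ∣ charDegree ξ) :
    ∃ l, charDegree θ * charDegree θ = 1 + l ∧ c ∣ (inertia θ).index * l := by
  have hNT := le_inertia hθ.isClassFunction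
  haveI := Fintype.ofFinite (inertia θ)
  haveI := Fintype.ofFinite (N.subgroupOf (inertia θ))
  have h1 := isIrrCharacter_subgroupOf hNT hθ
  obtain ⟨Ξ, hΞ, e⟩ := exists_conjChar h1 (by rw [inertia_subgroupOf hNT, Subgroup.subgroupOf_self])
  obtain ⟨l, h2, h3⟩ := dvd_deg_sub (N := N.subgroupOf (inertia θ)) hΞ (k := 1) (by
    rw [funext e, Nat.cast_one]
    exact (classInner_eq_mul_one _ _).symm.trans h1.classInner_self) fun ξ hξ hk => dvd_ind h hξ hk
  refine ⟨l, ?_, h3⟩
  rw [← h2]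
  refine (charDegree_eq ?_).symm
  have := e 1
  rw [h1.isCharacter.conj_apply_one] at this
  rw [Nat.cast_mul, hθ.cast_charDegree]
  exact this

/-- the `q`-part of `a` exceeds that of `b` -/
def Pq (q a b : ℕ) : Prop := ∃ k, q ^ k ∣ a ∧ ¬ q ^ k ∣ b

theorem Pq.asymm {q a b : ℕ} (h : Pq q a b) : ¬ Pq q b a := by
  rintro ⟨l, h3, h4⟩
  obtain ⟨k, h1, h2⟩ := h
  rcases le_total k l with e | e
  exacts [h2 ((pow_dvd_pow q e).trans h3), h4 ((pow_dvd_pow q e).trans h1)]

theorem Pq.not_dvd {q a b : ℕ} (h : Pq q a b) : ¬ a ∣ b := fun e =>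
  let ⟨_, h1, h2⟩ := h; h2 (h1.trans e)

/-- the degrees of `Irr(G | N)` are among `a, b` -/
def RD (N : Subgroup G) (a b : ℕ) : Prop :=
  ∀ χ, IsIrrCharacter G χ → ¬ N ≤ charKer χ → charDegree χ = a ∨ charDegree χ = b

omit [Finite G] in
theorem RD.symm {N : Subgroup G} {a b : ℕ} (h : RD N a b) : RD N b a :=
  fun χ h1 h2 => (h χ h1 h2).symm

omit [Finite G] in
theorem RD.mono {M N : Subgroup G} {a b : ℕ} (h : RD N a b) (hM : M ≤ N) : RD M a b :=
  fun χ h1 h2 => h χ h1 fun e => h2 (hM.trans e)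

omit [Finite G] in
theorem RD.map {N : Subgroup G} {a b : ℕ} (h : RD N a b) {H : Type*} [Group H] (f : G →* H)
    (hf : Function.Surjective f) : RD (N.map f) a b := fun χ h1 h2 => by
  rw [← charDegree_comp χ f]
  refine h _ (h1.comp_surjective f hf) fun e => h2 ?_
  rintro _ ⟨x, hx, rfl⟩ y
  obtain ⟨y, rfl⟩ := hf y
  rw [← map_mul]; exact e hx y

theorem lemA {N : Subgroup G} [N.Normal] [Fintype N] {a b : ℕ} (h : RD N a b) {χ : G → ℂ}
    (hχ : IsIrrCharacter G χ) (ha : charDegree χ = a) {θ : N → ℂ} (hθ : IsIrrCharacter N θ)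
    (ho : classInner (fun n : N => χ n) θ ≠ 0) {q : ℕ} (hq : q.Prime) (hd : q ∣ charDegree θ) :
    Pq q a b := by
  have ha0 : a ≠ 0 := ha ▸ hχ.charDegree_pos.ne'
  refine ⟨a.factorization q, Nat.ordProj_dvd a q, fun hb => ?_⟩
  obtain ⟨l, h1, h2⟩ := lemA0 hθ (c := q ^ a.factorization q) fun ξ hξ hk => by
    rcases h ξ hξ hk with e | e <;> rw [e]
    exacts [Nat.ordProj_dvd a q, hb]
  have h3 : ¬ q ∣ l := fun e => hq.one_lt.ne' (Nat.dvd_one.1
    ((Nat.dvd_add_left e).1 (h1 ▸ hd.mul_right _)))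
  have h4 := (((Nat.Prime.coprime_iff_not_dvd hq).2 h3).pow_left _).dvd_of_dvd_mul_right h2
  refine Nat.pow_succ_factorization_not_dvd ha0 hq ?_
  rw [pow_succ]
  exact (mul_dvd_mul h4 hd).trans (ha ▸ H38.charDegree_dvd_of_over hχ hθ ho)

theorem le_ker_of_over {M N : Subgroup G} [M.Normal] [N.Normal] [Fintype N] (hM : M ≤ N)
    {χ : G → ℂ} (hχ : IsIrrCharacter G χ) {θ : N → ℂ} (hθ : IsIrrCharacter N θ)
    (ho : classInner (fun n : N => χ n) θ ≠ 0) : M ≤ charKer χ ↔ M.subgroupOf N ≤ charKer θ := by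
  haveI := Fintype.ofFinite G
  refine ⟨fun h => le_trans ?_ ((hχ.isCharacter.restrict N).charKer_le_of_constituent hθ ho),
    fun h m hm => hχ.mem_charKer.2 ?_⟩
  · rw [hχ.isCharacter.charKer_restrict]; exact Subgroup.comap_mono h
  · have e := clifford hχ hθ ho
    have e1 := congrFun e ⟨m, hM hm⟩
    have e2 := congrFun e 1
    simp only [Pi.smul_apply, Finset.sum_apply, OneMemClass.coe_one] at e1 e2
    rw [e1, e2]
    congr 1
    refine Finset.sum_congr rfl fun φ hφ => ?_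
    obtain ⟨g, rfl⟩ := mem_conjSet.1 hφ
    rw [cj_apply_one, cj_apply]
    exact apply_of_mem_charKer (h (Subgroup.Normal.conj_mem inferInstance m hm g))

omit [Finite G] in
theorem comm_subgroupOf (N : Subgroup G) : (⁅N, N⁆ : Subgroup G).subgroupOf N = commutator N := by
  rw [← Subgroup.map_subtype_commutator, Subgroup.subgroupOf,
    Subgroup.comap_map_eq_self_of_injective N.subtype_injective]

theorem deg_ne_one {N : Subgroup G} [N.Normal] [Fintype N] {χ : G → ℂ} (hχ : IsIrrCharacter G χ)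
    {θ : N → ℂ} (hθ : IsIrrCharacter N θ) (ho : classInner (fun n : N => χ n) θ ≠ 0) :
    ⁅N, N⁆ ≤ charKer χ ↔ charDegree θ = 1 := by
  rw [le_ker_of_over (Subgroup.commutator_le_left N N) hχ hθ ho, comm_subgroupOf,
    hθ.charDegree_eq_one_iff]

/-- a character with `N'` outside its kernel -/
theorem exists_Pq {N : Subgroup G} [N.Normal] {a b : ℕ} (h : RD N a b) {χ : G → ℂ}
    (hχ : IsIrrCharacter G χ) (ha : charDegree χ = a) (hk : ¬ ⁅N, N⁆ ≤ charKer χ) :
    ∃ q, q.Prime ∧ q ∣ Nat.card N ∧ Pq q a b := by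
  haveI := Fintype.ofFinite G
  haveI := Fintype.ofFinite N
  obtain ⟨θ, hθ, ho⟩ := exists_constituent_res (H := N) hχ.isCharacter hχ.apply_one_ne_zero
  obtain ⟨q, hq, hd⟩ := Nat.exists_prime_and_dvd (mt (deg_ne_one hχ hθ ho).2 hk)
  exact ⟨q, hq, hd.trans hθ.charDegree_dvd_card, lemA h hχ ha hθ ho hq hd⟩

theorem eq_bot_of_le_ker {M : Subgroup G} (h : ∀ χ, IsIrrCharacter G χ → M ≤ charKer χ) : M = ⊥ :=
  eq_bot_iff.2 fun _ hg => by_contra fun h1 =>
    let ⟨χ, hχ, e⟩ := exists_irr_not_mem_charKer h1; e (h χ hχ hg)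

/-- one degree: `N` is abelian -/
theorem comm_of_one {N : Subgroup G} [N.Normal] {a : ℕ} (h : RD N a a) : ⁅N, N⁆ = ⊥ :=
  eq_bot_of_le_ker fun χ hχ => by_contra fun hk => by
    obtain ⟨q, -, -, h1⟩ := exists_Pq h hχ ((h χ hχ fun e =>
      hk ((Subgroup.commutator_le_left N N).trans e)).elim id id) hk
    exact h1.asymm h1

end H23.Garr
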