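/- Relative character degrees: linear characters of a complemented normal subgroup
(blueprints/GARR.md, Lemma S). -/
import Cfsg.Agent.H23.GarrA
import Cfsg.Agent.H38.HZero
import Cfsg.Agent.H93.DGLin
import Cfsg.Agent.H73.RealD
import Cfsg.Agent.H98.Coprime
import Cfsg.Agent.H19.Regular

set_option autoImplicit false
set_option linter.style.haveILetI false

open Cfsg H28 H32 H33 H44 H93.DG MulAction
open scoped commutatorElement

namespace H23.Garr

variable {G : Type*} [Group G]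

theorem le_stab {Y : Subgroup G} [Y.Normal] [Finite G] (l : Lin Y) : Y ≤ stabilizer G l :=
  fun _ hg => smul_of_mem hg l

theorem hom_conj {Y : Subgroup G} [hY : Y.Normal] {l : Lin Y} {g : G} (hg : g ∈ stabilizer G l) (y : Y) :
    l.hom ⟨g * y * g⁻¹, hY.conj_mem _ y.2 g⟩ = l.hom y := by
  have := smul_hom g⁻¹ l y
  rw [mem_stabilizer_iff.1 (inv_mem hg)] at this
  simpa only [inv_inv] using this.symm

/-- extension to the inertia group -/
theorem exists_ext {Y J : Subgroup G} [hY : Y.Normal] [Finite G] (h : Y ⊔ J = ⊤) {l : Lin Y}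
    (hl : ∀ y : Y, (y : G) ∈ J → l.hom y = 1) :
    ∃ μ : Lin (stabilizer G l), ∀ y : Y, μ.hom ⟨y, le_stab l y.2⟩ = l.hom y := by
  have k : ∀ g : G, ∃ y : Y, (y : G)⁻¹ * g ∈ J := fun g => by
    obtain ⟨y, hy, j, hj, rfl⟩ := Subgroup.mem_sup_of_normal_left.1 (h.ge (Subgroup.mem_top g))
    exact ⟨⟨y, hy⟩, by simpa using hj⟩
  choose f hf using k
  have u : ∀ g (y : Y), (y : G)⁻¹ * g ∈ J → l.hom (f g) = l.hom y := fun g y hy => by
    have := hl (y⁻¹ * f g) (by simpa using J.mul_mem hy (J.inv_mem (hf g)))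
    rw [map_mul, map_inv, inv_mul_eq_one] at this
    exact this.symm
  refine ⟨MonoidHom.mk' (fun t => l.hom (f t)) fun a b => ?_, fun y => u _ y (by simp)⟩
  have h1 : ((f a : G)⁻¹ * a) ∈ stabilizer G l := mul_mem (inv_mem (le_stab l (f a).2)) a.2
  rw [← hom_conj h1 (f b), ← map_mul]
  refine u _ _ ?_
  convert J.mul_mem (hf a) (hf b) using 1
  simp only [Subgroup.coe_mul]
  group

variable [Finite G]

theorem dg_of_ext {Y : Subgroup G} [Y.Normal] [Fintype Y] {l : Lin Y} {μ : Lin (stabilizer G l)}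
    (he : ∀ y : Y, μ.hom ⟨y, le_stab l y.2⟩ = l.hom y) {β : stabilizer G l → ℂ}
    (hβ : IsIrrCharacter _ β) (hk : Y.subgroupOf _ ≤ charKer β) :
    Dg (ch l) ((stabilizer G l).index * charDegree β) := by
  haveI := Fintype.ofFinite G
  haveI := Fintype.ofFinite (stabilizer G l)
  have h2 := isIrr_mul_ch hβ μ
  have h4 : classInner (fun n : Y => (β * ch μ) ⟨n, le_stab l n.2⟩) (ch l) ≠ 0 := by
    rw [show (fun n : Y => (β * ch μ) ⟨n, le_stab l n.2⟩) = β 1 • ch l from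
      funext fun n => by
        rw [Pi.mul_apply, apply_of_mem_charKer (hk (show _ ∈ Y.subgroupOf _ from n.2))]
        exact congrArg (fun u : ℂˣ => β 1 * u) (he n),
      classInner_smul_left, (isIrr_ch l).classInner_self, mul_one]
    exact hβ.apply_one_ne_zero
  obtain ⟨h3, h5⟩ := cliffordCorr_irr (isIrr_ch l) (inertia_ch l).symm (le_stab l) h2 h4
  exact ⟨_, h3, h5 ▸ h4, by rw [h2.isCharacter.charDegree_indFun, charDegree_mul_ch]⟩

/-- an abelian section of index `t` which meets a normal subgroup trivially -/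
theorem deg_ne_index {K T A : Subgroup G} [A.Normal] (hT : ⁅T, T⁆ ≤ K) (hA : A ⊓ T ≤ K)
    (hn : ¬ A ≤ K) [K.Normal] {χ : G → ℂ} (hχ : IsIrrCharacter G χ) (hk : K ≤ charKer χ) :
    charDegree χ ≠ T.index := fun e => by
  classical
  haveI := Fintype.ofFinite G
  haveI := Fintype.ofFinite T
  haveI := Fintype.ofFinite A
  obtain ⟨μ, hμ, ho⟩ := exists_constituent_res (H := T) hχ.isCharacter hχ.apply_one_ne_zero
  have h1 : charDegree μ = 1 := hμ.charDegree_eq_one_iff.2 (le_trans (by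
    rw [hχ.isCharacter.charKer_restrict, ← comm_subgroupOf]
    exact Subgroup.comap_mono (hT.trans hk))
    ((hχ.isCharacter.restrict T).charKer_le_of_constituent hμ ho))
  have h2 : indFun T μ = χ := hμ.isCharacter.indFun.eq_irr_of_degree_eq hχ (by
    rw [classInner_indFun_left _ _ hχ.isClassFunction]
    exact fun a => ho ((classInner_eq_zero_comm _ _).1 a)) (by
    rw [← hμ.isCharacter.indFun.cast_charDegree, hμ.isCharacter.charDegree_indFun, h1, mul_one, ← e,
      hχ.cast_charDegree])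
  refine hn fun a ha => hA ⟨ha, charKer_indFun_le hμ.isCharacter hμ.apply_one_ne_zero ?_⟩
  rw [h2]
  refine (by_contra fun h3 => ?_ : A ≤ charKer χ) ha
  have h4 := H32.sum_coset_eq_zero hχ h3 1
  rw [Finset.sum_congr rfl (g := fun n : A => if (n : G) ∈ K then χ 1 else 0) fun n _ => ?_,
    ← Finset.sum_filter, Finset.sum_const, nsmul_eq_mul] at h4
  · exact mul_ne_zero (Nat.cast_ne_zero.2 (Finset.card_ne_zero.2 ⟨1, by simp⟩)) hχ.apply_one_ne_zero h4
  rw [mul_one]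
  split_ifs with h5
  · exact apply_of_mem_charKer (hk h5)
  · rw [← h2]
    refine indFun_eq_zero_of _ _ _ fun y hy => absurd ?_ h5
    obtain ⟨g, e⟩ := isConj_iff.1 hy
    have := hA ⟨e ▸ Subgroup.Normal.conj_mem inferInstance _ n.2 g, y.2⟩
    rw [← e] at this
    simpa [mul_assoc] using Subgroup.Normal.conj_mem' inferInstance _ this g

omit [Finite G] in
/-- a regular orbit inside an invariant subgroup -/
theorem reg {W : Type*} [CommGroup W] [Finite W] [MulDistribMulAction G W] (M : Subgroup W)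
    {Q : Subgroup G} (hM : ∀ x ∈ Q, ∀ m ∈ M, x • m ∈ M) (hc : ∀ x ∈ Q, ∀ y ∈ Q, x * y = y * x)
    (ho : ∀ x ∈ Q, (orderOf x).Coprime (Nat.card W)) :
    ∃ w ∈ M, ∀ x ∈ Q, x • w = w → ∀ m ∈ M, x • m = m := by
  let φ : Q →* MulAut M := MonoidHom.mk' (fun x =>
    { toFun := fun m => ⟨(x : G) • (m : W), hM x x.2 m m.2⟩
      invFun := fun m => ⟨(x : G)⁻¹ • (m : W), hM _ (inv_mem x.2) m m.2⟩
      left_inv := fun m => Subtype.ext (inv_smul_smul _ _)
      right_inv := fun m => Subtype.ext (smul_inv_smul _ _)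
      map_mul' := fun a b => Subtype.ext (smul_mul' _ _ _) })
    fun x y => MulEquiv.ext fun m => Subtype.ext (mul_smul (x : G) (y : G) (m : W))
  obtain ⟨w, hw⟩ := H73.RD.regOrb φ.range (by
    rintro _ ⟨x, rfl⟩ _ ⟨y, rfl⟩
    rw [← map_mul, ← map_mul, show x * y = y * x from Subtype.ext (hc x x.2 y y.2)]) (by
    rintro _ ⟨x, rfl⟩
    exact ((ho x x.2).coprime_dvd_left (Subgroup.orderOf_coe x ▸ orderOf_map_dvd φ x)).coprime_dvd_right
      M.card_subgroup_dvd_card)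
  exact ⟨w, w.2, fun x hx e m hm => congrArg Subtype.val
    (DFunLike.congr_fun (hw _ ⟨⟨x, hx⟩, rfl⟩ (Subtype.ext e)) (⟨m, hm⟩ : M))⟩

/-- a linear character with a regular orbit -/
theorem exists_reg {r q : ℕ} [Fact r.Prime] [hq : Fact q.Prime] (hne : q ≠ r) {Y Q : Subgroup G}
    [hY : Y.Normal] (h1 : IsPGroup r Y) (h2 : IsPGroup q Q) (hc : ∀ x ∈ Q, ∀ y ∈ Q, x * y = y * x)
    (hf : Q ⊓ Subgroup.centralizer (Y : Set G) = ⊥) :
    ∃ l : Lin Y, (∀ y : Y, (y : G) ∈ Subgroup.normalizer (Q : Set G) → l.hom y = 1) ∧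
      Q ⊓ stabilizer G l = ⊥ := by
  have hd : ¬ q ∣ Nat.card Y := H98.not_dvd_card_of_isPGroup_ne hq.out hne h1
  let M : Subgroup (Lin Y) :=
    { carrier := {l | ∀ y : Y, (y : G) ∈ Subgroup.normalizer (Q : Set G) → l.hom y = 1}
      one_mem' := fun _ _ => rfl
      mul_mem' := fun ha hb y hy => by rw [Lin.mul_hom, ha y hy, hb y hy, mul_one]
      inv_mem' := fun ha y hy => by rw [Lin.inv_hom, ha y hy, inv_one] }
  obtain ⟨l, hl, h⟩ := reg M (Q := Q) (fun x hx m hm y hy => hm _ (mul_mem (mul_mem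
    (inv_mem (Subgroup.le_normalizer hx)) hy) (inv_mem (inv_mem (Subgroup.le_normalizer hx))))) hc
    fun x hx => by
      obtain ⟨k, hk⟩ := H98.isPGroup_iff_forall.1 h2 x hx
      exact ((((Nat.Prime.coprime_iff_not_dvd hq.out).2 hd).pow_left k).coprime_dvd_left
        (orderOf_dvd_of_pow_eq_one hk)).coprime_dvd_right (card_lin (G := Y) ▸ Subgroup.index_dvd_card _)
  refine ⟨l, hl, eq_bot_iff.2 fun x hx => hf.le ⟨hx.1, ?_⟩⟩
  have hX : Subgroup.zpowers x ≤ Q := Subgroup.zpowers_le.2 hx.1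
  haveI := h1.isNilpotent
  have := H19.eq_top_of_sup_commutator (G := Y)
    (L := (Subgroup.centralizer (Subgroup.zpowers x : Set G)).subgroupOf Y) (eq_top_iff.2 fun a _ => ?_)
  · exact fun y hy => (this.ge (Subgroup.mem_top (⟨y, hy⟩ : Y)) x (Subgroup.mem_zpowers x)).symm
  by_contra ha
  haveI : ((Subgroup.centralizer (Subgroup.zpowers x : Set G)).subgroupOf Y ⊔ commutator Y).Normal :=
    Subgroup.Normal.of_commutator_le _ le_sup_right
  obtain ⟨μ, m1, m2⟩ := exists_hom_ne_one_of_commutator_le _ le_sup_right ha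
  have m3 : x ∈ stabilizer G (show Lin Y from μ) := h x hx.1 hx.2 _ fun y hy =>
    m1 y (Subgroup.mem_sup_left fun z hz => by
      have := (h1.disjoint_of_ne r q hne.symm _ _ h2).le_bot (show ⁅(y : G), z⁆ ∈ Y ⊓ Q from
        ⟨by simpa [commutatorElement_def, mul_assoc] using Y.mul_mem y.2 (hY.conj_mem _ (Y.inv_mem y.2) z),
          Q.mul_mem ((Subgroup.mem_normalizer_iff.1 hy z).1 (hX hz)) (Q.inv_mem (hX hz))⟩)
      exact (commutatorElement_eq_one_iff_mul_comm.1 this).symm)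
  obtain ⟨n, hn, c, hc, e⟩ := H98.exists_commutator_mul_centralizer (h2.to_le hX) hd
    Subgroup.le_normalizer_of_normal a.2
  obtain ⟨n, hn', rfl⟩ := (Subgroup.commutator_le.2 fun y hy z hz => ⟨⟨y, hy⟩ *
    ⟨z * (⟨y, hy⟩ : Y)⁻¹ * z⁻¹, hY.conj_mem _ (inv_mem hy) z⟩, by
      have := hom_conj (Subgroup.zpowers_le.2 m3 hz) (⟨y, hy⟩ : Y)⁻¹
      rw [SetLike.mem_coe, MonoidHom.mem_ker, map_mul]
      exact (congrArg _ this).trans (by rw [map_inv]; exact mul_inv_cancel _),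
      by simp [commutatorElement_def, mul_assoc]⟩ : ⁅Y, Subgroup.zpowers x⁆ ≤ μ.ker.map Y.subtype) hn
  refine m2 ?_
  rw [show a = n * ⟨c, hc.1⟩ from Subtype.ext e, map_mul, show μ n = 1 from hn',
    m1 ⟨c, hc.1⟩ (Subgroup.mem_sup_left hc.2), mul_one]

theorem not_le_of_dg {Y : Subgroup G} [Y.Normal] [Fintype Y] {l : Lin Y} (hl : l ≠ 1) {χ : G → ℂ}
    (hχ : IsIrrCharacter G χ) (ho : classInner (fun n : Y => χ n) (ch l) ≠ 0) : ¬ Y ≤ charKer χ := fun h =>
  ch_ne_one hl ((isIrr_ch l).charKer_eq_top_iff.1 (eq_top_iff.2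
    (Subgroup.subgroupOf_self Y ▸ (le_ker_of_over le_rfl hχ (isIrr_ch l) ho).1 h)))

/-- One of the two degrees does not occur in `G / Y`. -/
theorem SP {r q : ℕ} [Fact r.Prime] [hq : Fact q.Prime] (hne : q ≠ r) {Y Q : Subgroup G} [Y.Normal]
    [hW : (Y ⊔ Q).Normal] (h1 : IsPGroup r Y) (h2 : H98.IsSyl q Q (Y ⊔ Q))
    (hc : ∀ x ∈ Q, ∀ y ∈ Q, x * y = y * x) (h0 : Q ≠ ⊥)
    (hf : Q ⊓ Subgroup.centralizer (Y : Set G) = ⊥) {a b : ℕ} (h : RD (Y ⊔ Q) a b) (hab : ¬ a ∣ b)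
    (hba : ¬ b ∣ a) : ∃ t, (t = a ∨ t = b) ∧ (∀ c, RD (Y ⊔ Q) t c → Pq q t c) ∧
      ∀ χ, IsIrrCharacter G χ → Y ≤ charKer χ → charDegree χ ≠ t := by
  haveI := Fintype.ofFinite G
  haveI := Fintype.ofFinite Y
  haveI := Fintype.ofFinite (Y ⊔ Q : Subgroup G)
  obtain ⟨l, l1, l2⟩ := exists_reg hne h1 h2.isPGroup hc hf
  obtain ⟨μ, hμ⟩ := exists_ext (Y := Y) (J := Subgroup.normalizer (Q : Set G)) (eq_top_iff.2 fun g _ => by
    obtain ⟨u, hu, n, hn, rfl⟩ := h2.frattini_mem (g := g) (Subgroup.le_normalizer_of_normal (K := ⊤) trivial)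
    exact mul_mem (Subgroup.mem_sup_right hu) (sup_le_sup_left Subgroup.le_normalizer _ hn)) l1
  have hQ : ¬ Q ≤ stabilizer G l := fun e => h0 (l2 ▸ (inf_eq_left.2 e).symm)
  have hl : l ≠ 1 := fun e => hQ fun x _ => e ▸ smul_one x
  have k : ∀ β, IsIrrCharacter _ β → Y.subgroupOf (stabilizer G l) ≤ charKer β →
      (stabilizer G l).index * charDegree β = a ∨ (stabilizer G l).index * charDegree β = b :=
    fun β hβ hk => by
      obtain ⟨χ, c1, c2, c3⟩ := dg_of_ext hμ hβ hk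
      exact c3 ▸ h χ c1 fun e => not_le_of_dg hl c1 c2 (le_sup_left.trans e)
  have k1 := k _ isIrrCharacter_one (by rw [charKer_one]; exact le_top)
  rw [charDegree_one, mul_one] at k1
  refine ⟨_, k1, fun c hc => ?_, fun χ => deg_ne_index (A := Y ⊔ Q) ?_ (fun w hw => ?_)
    fun e => hQ ((le_sup_right.trans e).trans (le_stab l))⟩
  · obtain ⟨χ, c1, c2, c3⟩ := dg_of_ext hμ isIrrCharacter_one (by rw [charKer_one]; exact le_top)
    obtain ⟨ξ, x1, x2, x3⟩ := exists_irr_between (le_sup_left : Y ≤ Y ⊔ Q) c1.isClassFunction c2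
    refine lemA hc c1 (by rw [c3, charDegree_one, mul_one]) x1 x2 hq.out (dvd_trans ?_
      (H38.charDegree_dvd_of_over_le le_sup_left x1 (isIrr_ch l) x3))
    obtain ⟨n, hn⟩ := IsPGroup.iff_card.1 h2.isPGroup
    have := Subgroup.relIndex_dvd_of_le_left (Y ⊔ Q) (le_stab l)
    rw [Subgroup.relIndex_sup_left] at this
    obtain ⟨j, -, e⟩ := (Nat.dvd_prime_pow hq.out).1 (hn ▸ this.trans (Subgroup.index_dvd_card _))
    rw [inertia_ch, e]
    exact (dvd_pow_self q fun e0 => hQ (le_sup_right.trans (Subgroup.relIndex_eq_one.1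
      (e.trans (by rw [e0, pow_zero]))))).mul_right _
  · rw [← Subgroup.map_subtype_commutator]
    rintro _ ⟨x, hx, rfl⟩
    refine mem_of_forall_charKer (Y.subgroupOf (stabilizer G l)) fun β hβ hk =>
      hβ.charDegree_eq_one_iff.1 (Nat.eq_of_mul_eq_mul_left
        (Nat.pos_of_ne_zero (stabilizer G l).index_ne_zero_of_finite) ?_) hx
    rcases k1 with e | e <;> rcases k β hβ hk with e' | e'
    exacts [by rw [e', mul_one, e], absurd ⟨_, by rw [← e', e]⟩ hab, absurd ⟨_, by rw [← e', e]⟩ hba,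
      by rw [e', mul_one, e]]
  · obtain ⟨y, hy, x, hx, rfl⟩ := Subgroup.mem_sup_of_normal_left.1 hw.1
    rw [show x = 1 from l2.le ⟨hx, (mul_mem_cancel_left (le_stab l hy)).1 hw.2⟩, mul_one]
    exact hy

end H23.Garr
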