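import Cfsg.Agent.H55.NdC
import Cfsg.Agent.H44.CD4
import Cfsg.Agent.H23.GarrS
import Cfsg.Agent.H24.Comm

/-! Solvable groups without divisibility among the character degrees (S4780): definitions,
a small kit and the jobs. Proofs of the jobs: `blueprints/ND.md`. -/

set_option autoImplicit false
set_option linter.unusedSectionVars false
open Cfsg H28 H32 H44 H93.DG H55.Nd MulAction

namespace H23.ND

universe u

section defs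

variable {G : Type u} [Group G]

/-- The `N`-class of `x` contains the coset `x M`. -/
def Cl (N : Subgroup G) (x : G) (M : Subgroup G) : Prop :=
  ∀ y ∈ M, ∃ a ∈ N, a * x * a⁻¹ = x * y

/-- The elements centralising the section `A / B`. -/
def Ct (A B : Subgroup G) [hB : B.Normal] : Subgroup G where
  carrier := {g | ∀ a ∈ A, g * a * g⁻¹ * a⁻¹ ∈ B}
  one_mem' := fun a _ => by simp
  mul_mem' := fun {g h} hg hh a ha => by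
    have := mul_mem (hB.conj_mem _ (hh a ha) g) (hg a ha)
    convert this using 1
    group
  inv_mem' := fun {g} hg a ha => by
    have := hB.conj_mem' _ (inv_mem (hg a ha)) g
    convert this using 1
    group

theorem mem_Ct {A B : Subgroup G} [B.Normal] {g : G} :
    g ∈ Ct A B ↔ ∀ a ∈ A, g * a * g⁻¹ * a⁻¹ ∈ B := Iff.rfl

instance Ct_normal (A B : Subgroup G) [hA : A.Normal] [hB : B.Normal] : (Ct A B).Normal :=
  ⟨fun g hg x a ha => by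
    have := hB.conj_mem _ (hg _ (hA.conj_mem' a ha x)) x
    convert this using 1
    group⟩

theorem le_Ct {A B H : Subgroup G} [B.Normal] : H ≤ Ct A B ↔ ⁅H, A⁆ ≤ B :=
  Subgroup.commutator_le.symm

/-- The preimage in `N` of the fixed points of `G` on `N / N'`. -/
def CC (N : Subgroup G) [N.Normal] : Subgroup G := N ⊓ cY ⁅N, N⁆

theorem mem_CC {N : Subgroup G} [N.Normal] {x : G} :
    x ∈ CC N ↔ x ∈ N ∧ ∀ g, g * x * g⁻¹ * x⁻¹ ∈ ⁅N, N⁆ := and_congr_right fun _ => mem_cY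

instance CC_normal (N : Subgroup G) [N.Normal] : (CC N).Normal := by
  unfold CC cY
  infer_instance

theorem CC_le (N : Subgroup G) [N.Normal] : CC N ≤ N := inf_le_left

/-- The lower central series. -/
abbrev L2 (P : Subgroup G) : Subgroup G := ⁅P, P⁆
abbrev L3 (P : Subgroup G) : Subgroup G := ⁅L2 P, P⁆
abbrev L4 (P : Subgroup G) : Subgroup G := ⁅L3 P, P⁆
abbrev L5 (P : Subgroup G) : Subgroup G := ⁅L4 P, P⁆

/-- The centraliser of `h` in `P`. -/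
def C0 (P : Subgroup G) (h : G) : Subgroup G := P ⊓ Subgroup.centralizer {h}

theorem mem_C0 {P : Subgroup G} {h x : G} : x ∈ C0 P h ↔ x ∈ P ∧ h * x = x * h :=
  and_congr_right fun _ => Subgroup.mem_centralizer_singleton_iff.trans eq_comm

/-- `M` lies in the kernel of the character `θ` of `N`. -/
def Kr {N : Subgroup G} (M : Subgroup G) (θ : N → ℂ) : Prop := M.subgroupOf N ≤ charKer θ

/-- The degree of the characters of `G` over `θ`. -/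
noncomputable def DD {N : Subgroup G} [N.Normal] (θ : N → ℂ) : ℕ :=
  (inertia θ).index * charDegree θ

/-- A character vanishes on `x` if the class of `x` contains `x A` and `A` is not in the kernel. -/
theorem Cl.van [Finite G] {N A : Subgroup G} [hA : A.Normal] {x : G} (hx : x ∈ N)
    (h : Cl N x A) {θ : N → ℂ} (hθ : IsIrrCharacter N θ) (hk : ¬ Kr A θ) : θ ⟨x, hx⟩ = 0 := by
  classical
  cases nonempty_fintype N
  have s := sum_coset_eq_zero hθ hk ⟨x, hx⟩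
  rw [Finset.sum_congr rfl (g := fun _ => θ ⟨x, hx⟩) fun n _ => ?_] at s
  · simpa using s
  obtain ⟨a, ha, e⟩ := h _ (hA.conj_mem' _ n.2 x)
  refine (hθ.isClassFunction.eq_of_isConj (isConj_iff.2 ⟨⟨a, ha⟩, Subtype.ext ?_⟩)).symm
  simp only [Subgroup.coe_mul, Subgroup.coe_inv, e]
  simp [mul_assoc]

theorem Cl.mono {N A B : Subgroup G} {x : G} (h : Cl N x A) (hB : B ≤ A) : Cl N x B :=
  fun y hy => h y (hB hy)

theorem ix_eq {M Γ T : Subgroup G} [M.Normal] (h : Γ ⊔ M = ⊤) (hT : M ≤ T) :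
    (T.subgroupOf Γ).index = T.index := by
  refine Nat.card_congr (Equiv.ofBijective (Quotient.map' Subtype.val fun a b k => ?_) ⟨?_, ?_⟩)
  · rw [QuotientGroup.leftRel_apply] at k ⊢
    exact k
  · rintro ⟨a⟩ ⟨b⟩ e
    exact QuotientGroup.eq.2 (QuotientGroup.eq.1 e : (a : G)⁻¹ * b ∈ T)
  · rintro ⟨g⟩
    obtain ⟨a, ha, m, hm, rfl⟩ := Subgroup.mem_sup_of_normal_right.1 (h ▸ Subgroup.mem_top g)
    exact ⟨QuotientGroup.mk ⟨a, ha⟩, QuotientGroup.eq.2 (by simpa using hT hm)⟩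

theorem ix_stab [Finite G] {M Γ : Subgroup G} [M.Normal] (h : Γ ⊔ M = ⊤) (l : Lin M) :
    (stabilizer Γ l).index = (stabilizer G l).index :=
  ix_eq (T := stabilizer G l) h (H23.Garr.le_stab l)

/-- Every element is `x h ^ k`. -/
theorem dec_gen [Finite G] {N : Subgroup G} [N.Normal] {h : G} (e : N ⊔ Subgroup.zpowers h = ⊤)
    (g : G) : ∃ x ∈ N, ∃ d ∈ Subgroup.zpowers h, g = x * d := by
  obtain ⟨x, hx, d, hd, k⟩ := Subgroup.mem_sup_of_normal_left.1 (e ▸ Subgroup.mem_top g)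
  exact ⟨x, hx, d, hd, k.symm⟩

/-- The basic setting: `G / N` is cyclic of order `f` prime to `p`, and `f` is a degree. -/
structure B0 (p : ℕ) (N : Subgroup G) (h : G) : Prop where
  hp : p.Prime
  nd : ND G
  gen : N ⊔ Subgroup.zpowers h = ⊤
  np : ¬ p ∣ N.index
  one : 1 < N.index
  cdf : N.index ∈ charDegrees G
  dv : ∀ d ∈ charDegrees N, d ≠ 1 → p ∣ d

/-- The basic facts. -/
structure BF (N : Subgroup G) [N.Normal] : Prop where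
  dd : ∀ θ : N → ℂ, IsIrrCharacter N θ → DD θ ∈ charDegrees G
  cd : ∀ d ∈ charDegrees G, d = 1 ∨ d = N.index ∨
    ∃ θ : N → ℂ, IsIrrCharacter N θ ∧ ¬ Kr ⁅N, N⁆ θ ∧ charDegree θ ≠ 1 ∧ d = DD θ
  fr : ∀ g, g ∉ N → ∀ x ∈ N, g * x * g⁻¹ * x⁻¹ ∈ ⁅N, N⁆ → x ∈ CC N
  cl : ∀ x ∈ N, x ∉ CC N → Cl N x ⁅N, N⁆
  st : ∀ x ∈ CC N, ∃ g, g ∉ N ∧ g * x = x * g
  ne : ∃ x ∈ N, x ∉ CC N

/-- The setting with `N = P` a `p`-group. -/
structure PG (p : ℕ) (P : Subgroup G) [P.Normal] (h : G) : Prop where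
  b : B0 p P h
  f : BF P
  pg : IsPGroup p P
  co : (orderOf h).Coprime p

/-- Coprime action facts, first part. -/
structure GF1 (P : Subgroup G) [P.Normal] (h : G) : Prop where
  g0 : CC P = C0 P h ⊔ L2 P
  g1 : ∀ (A B : Subgroup G) [A.Normal] [B.Normal], B ≤ A → A ≤ L2 P → ⁅A, P⁆ ≤ B →
    ∃ d ∈ Subgroup.zpowers h, d ∉ P ∧ d ∈ Ct A B
  lift : ∀ d ∈ Subgroup.zpowers h, ∀ (B : Subgroup G) [B.Normal], B ≤ P → ∀ a ∈ P,
    d * a * d⁻¹ * a⁻¹ ∈ B → ∃ b ∈ B, d * (a * b) = a * b * d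
  sj : ∀ d ∈ Subgroup.zpowers h, d ∉ P → ∀ x ∈ P, ∃ y ∈ P, ∃ c ∈ CC P,
    x = d * y * d⁻¹ * y⁻¹ * c
  fc : ∀ d ∈ Subgroup.zpowers h, d ∉ P → ∀ y ∈ P, d * y * d⁻¹ * y⁻¹ ∈ CC P → y ∈ CC P

/-- Coprime action facts, second part. -/
structure GF2 (P : Subgroup G) [P.Normal] (h : G) : Prop where
  g3 : ∀ d ∈ Subgroup.zpowers h, d ∉ P → d ∈ Ct (L2 P) (L3 P) → ∀ b ∈ L3 P,
    d * b * d⁻¹ * b⁻¹ ∈ L4 P → b ∈ L4 P
  g4 : Ct (L2 P) (L3 P) = ⊤ → L3 P = ⊥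
  g5 : ⁅CC P, P⁆ ≤ L3 P → ⁅C0 P h, P⁆ ≤ L4 P

/-- The conclusion of the level lemma. -/
structure Lv (P A B Z : Subgroup G) [P.Normal] [B.Normal] (q : ℕ) : Prop where
  q1 : q ≠ 1
  sq : q ^ 2 = Z.relIndex P
  cd : q * (Ct A B).index ∈ charDegrees G
  dd : ∀ θ : P → ℂ, IsIrrCharacter P θ → Kr B θ → ¬ Kr A θ → DD θ = q * (Ct A B).index
  sr : ∀ g, ∀ a ∈ A, a ∉ B → g * a * g⁻¹ * a⁻¹ ∈ B → g ∈ Ct A B

/-- The two elements that cannot act. -/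
def AX (p : ℕ) (P : Subgroup G) [P.Normal] : Prop :=
  ∃ a ∈ P, ∃ x ∈ P, a ^ p = 1 ∧ x ^ p ∈ L3 P ∧ a * x * a⁻¹ * x⁻¹ ∈ L3 P ∧
    ∀ i j : ℕ, ¬ (p ∣ i ∧ p ∣ j) → ∀ z ∈ L3 P,
      a ^ i * x ^ j * z ∉ CC P ∨ (a ^ i * x ^ j * z ∈ L2 P ∧ a ^ i * x ^ j * z ∉ L3 P)

/-- The result for `p`-groups `P`. -/
def OutP (p : ℕ) (P : Subgroup G) [P.Normal] : Prop :=
  (∃ q, q ≠ 1 ∧ q ∈ charDegrees P ∧ q ∈ charDegrees G ∧
      ∀ d ∈ charDegrees G, d = 1 ∨ d = P.index ∨ d = q) ∨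
    (L4 P = ⊥ ∧ (∃ a b, ∀ d ∈ charDegrees G, d = 1 ∨ d = P.index ∨ d = a ∨ d = b) ∧
      ⁅CC P, P⁆ ≤ L3 P ∧ (∃ q, Lv P (L2 P) (L3 P) (CC P) q) ∧ AX p P)

/-- No nonabelian quotient of prime power order. -/
def NQP (G : Type u) [Group G] : Prop :=
  ∀ r : ℕ, r.Prime → ∀ (K : Subgroup G) [K.Normal], IsPGroup r (G ⧸ K) → commutator G ≤ K

/-- The conclusion of the statement. -/
def Goal (G : Type u) [Group G] : Prop :=
  (∃ a b c, ∀ d ∈ charDegrees G, d = 1 ∨ d = a ∨ d = b ∨ d = c) ∧ derivedSeries G 3 = ⊥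

/-- The abelian section `A / A'`, written additively. -/
def Sec (A A' : Subgroup G) : Type u := Additive (A ⧸ A'.subgroupOf A)

variable (A A' : Subgroup G) [A'.Normal]

instance : AddGroup (Sec A A') := inferInstanceAs (AddGroup (Additive (A ⧸ A'.subgroupOf A)))

instance [Finite G] : Finite (Sec A A') := inferInstanceAs (Finite (A ⧸ A'.subgroupOf A))

/-- The class of `x`. -/
def Sec.mk (x : G) (hx : x ∈ A) : Sec A A' := Additive.ofMul ((⟨x, hx⟩ : A) : A ⧸ A'.subgroupOf A)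

variable {A A'}

theorem Sec.mk_mul {x y : G} (hx : x ∈ A) (hy : y ∈ A) :
    Sec.mk A A' (x * y) (mul_mem hx hy) = Sec.mk A A' x hx + Sec.mk A A' y hy := rfl

theorem Sec.mk_inv {x : G} (hx : x ∈ A) : Sec.mk A A' x⁻¹ (inv_mem hx) = - Sec.mk A A' x hx := rfl

theorem Sec.mk_eq {x y : G} (hx : x ∈ A) (hy : y ∈ A) :
    Sec.mk A A' x hx = Sec.mk A A' y hy ↔ x⁻¹ * y ∈ A' := QuotientGroup.eq

theorem Sec.mk_zero {x : G} (hx : x ∈ A) : Sec.mk A A' x hx = 0 ↔ x ∈ A' :=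
  QuotientGroup.eq_one_iff (N := A'.subgroupOf A) ⟨x, hx⟩

theorem Sec.surj (s : Sec A A') : ∃ x hx, Sec.mk A A' x hx = s := by
  obtain ⟨⟨x, hx⟩, e⟩ := QuotientGroup.mk_surjective (s := A'.subgroupOf A) s
  exact ⟨x, hx, e⟩

theorem Sec.card : Nat.card (Sec A A') = A'.relIndex A := rfl

theorem Sec.nontrivial (h : ¬ A ≤ A') : Nontrivial (Sec A A') := by
  obtain ⟨x, hx, k⟩ := SetLike.not_le_iff_exists.1 h
  exact ⟨⟨Sec.mk A A' x hx, 0, fun e => k ((Sec.mk_zero hx).1 e)⟩⟩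

instance [h : Fact (⁅A, A⁆ ≤ A')] : AddCommGroup (Sec A A') :=
  { (inferInstance : AddGroup (Sec A A')) with
    add_comm := fun s t => by
      obtain ⟨x, hx, rfl⟩ := Sec.surj s
      obtain ⟨y, hy, rfl⟩ := Sec.surj t
      rw [← Sec.mk_mul, ← Sec.mk_mul, Sec.mk_eq]
      have := h.1 (cm_mem (inv_mem hy) (inv_mem hx))
      convert this using 1
      group }

/-- The commutator map on sections. -/
theorem bil {A A' B B' D D' : Subgroup G} [A'.Normal] [B'.Normal] [hD : D'.Normal]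
    [Fact (⁅A, A⁆ ≤ A')] [Fact (⁅B, B⁆ ≤ B')] [Fact (⁅D, D⁆ ≤ D')] (h : ⁅A, B⁆ ≤ D)
    (h1 : ⁅A' ⊓ A, B⁆ ≤ D') (h2 : ⁅A, B' ⊓ B⁆ ≤ D') (h3 : ⁅A, D⁆ ≤ D') (h4 : ⁅B, D⁆ ≤ D') :
    ∃ b : Sec A A' →+ Sec B B' →+ Sec D D', ∀ x hx y hy, b (Sec.mk A A' x hx) (Sec.mk B B' y hy) =
      Sec.mk D D' (x * y * x⁻¹ * y⁻¹) (h (Subgroup.commutator_mem_commutator hx hy)) := by
  have m : ∀ {x y}, x ∈ A → y ∈ B → x * y * x⁻¹ * y⁻¹ ∈ D := fun hx hy =>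
    h (Subgroup.commutator_mem_commutator hx hy)
  have r : ∀ {x y z} (hx : x ∈ A) (hy : y ∈ B) (hz : z ∈ B),
      Sec.mk D D' _ (m hx (mul_mem hy hz)) = Sec.mk D D' _ (m hx hy) + Sec.mk D D' _ (m hx hz) := by
    intro x y z hx hy hz
    rw [← Sec.mk_mul, Sec.mk_eq]
    have := hD.conj_mem' _ (inv_mem (h4 (Subgroup.commutator_mem_commutator hy (m hx hz))))
      (x * z * x⁻¹ * z⁻¹)
    convert this using 1
    simp only [commutatorElement_def]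
    group
  have l : ∀ {x y z} (hx : x ∈ A) (hy : y ∈ A) (hz : z ∈ B),
      Sec.mk D D' _ (m (mul_mem hx hy) hz) = Sec.mk D D' _ (m hx hz) + Sec.mk D D' _ (m hy hz) := by
    intro x y z hx hy hz
    rw [add_comm, ← Sec.mk_mul, Sec.mk_eq]
    have := hD.conj_mem' _ (inv_mem (h3 (Subgroup.commutator_mem_commutator hx (m hy hz))))
      (y * z * y⁻¹ * z⁻¹ * (x * z * x⁻¹ * z⁻¹))
    have k := hD.conj_mem' _ (h3 (Subgroup.commutator_mem_commutator hx (m hy hz)))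
      (x * (y * z * y⁻¹ * z⁻¹) * x⁻¹ * (x * z * x⁻¹ * z⁻¹))
    convert inv_mem k using 1
    simp only [commutatorElement_def]
    group
  let f : ∀ x : A, Sec B B' →+ Sec D D' := fun x => MonoidHom.toAdditiveLeft
    (QuotientGroup.lift (B'.subgroupOf B) (MonoidHom.mk' (M := B)
      (fun y => Multiplicative.ofAdd (Sec.mk D D' _ (m x.2 y.2))) fun y z => r x.2 y.2 z.2)
      fun y hy => (Sec.mk_zero _).2 (h2 (Subgroup.commutator_mem_commutator x.2 ⟨hy, y.2⟩)))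
  have e : ∀ (x : A) y hy, f x (Sec.mk B B' y hy) = Sec.mk D D' _ (m x.2 hy) := fun _ _ _ => rfl
  refine ⟨MonoidHom.toAdditiveLeft (QuotientGroup.lift (A'.subgroupOf A) (MonoidHom.mk' (M := A)
    (fun x => Multiplicative.ofAdd (f x)) fun x y => ?_) fun x hx => ?_), fun x hx y hy => rfl⟩
  · refine congrArg Multiplicative.ofAdd (AddMonoidHom.ext fun s => ?_)
    obtain ⟨z, hz, rfl⟩ := Sec.surj s
    exact l x.2 y.2 hz
  · refine congrArg Multiplicative.ofAdd (AddMonoidHom.ext fun s => ?_)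
    obtain ⟨z, hz, rfl⟩ := Sec.surj s
    exact (Sec.mk_zero _).2 (h1 (Subgroup.commutator_mem_commutator ⟨hx, x.2⟩ hz))

end defs

/-- The graded Lie ring of class four. -/
structure LieD {V1 V2 V3 V4 : Type u} [AddCommGroup V1] [AddCommGroup V2] [AddCommGroup V3]
    [AddCommGroup V4] (b11 : V1 →+ V1 →+ V2) (b21 : V2 →+ V1 →+ V3) (b31 : V3 →+ V1 →+ V4)
    (b22 : V2 →+ V2 →+ V4) : Prop where
  alt : ∀ x, b11 x x = 0
  alt2 : ∀ a, b22 a a = 0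
  j3 : ∀ x y z, b21 (b11 x y) z + b21 (b11 y z) x + b21 (b11 z x) y = 0
  j4 : ∀ a x y, b31 (b21 a x) y - b31 (b21 a y) x = b22 a (b11 x y)
  s1 : ∀ x, x ≠ 0 → Function.Surjective (b11 x)
  s2 : ∀ a, a ≠ 0 → Function.Surjective (b21 a)
  s3 : ∀ b, b ≠ 0 → Function.Surjective (b31 b)
  lt : ∀ x, x ≠ 0 → Nat.card V3 < Nat.card (b21.flip x).range * Nat.card (b11 x).ker
  n1 : Nontrivial V1
  n2 : Nontrivial V2
  n3 : Nontrivial V3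
  n4 : Nontrivial V4

/-- The action on the linear characters when `N / L` is abelian. -/
structure AD {Γ : Type u} [Group Γ] (Λ : Type u) [CommGroup Λ] [MulDistribMulAction Γ Λ]
    (B : Subgroup Γ) (h : Γ) : Prop where
  ab : ∀ a ∈ B, ∀ b ∈ B, a * b = b * a
  gen : B ⊔ Subgroup.zpowers h = ⊤
  fq : ∀ g, g ∉ B → ∀ b ∈ B, g * b * g⁻¹ * b⁻¹ ∈ Subgroup.center Γ → b ∈ Subgroup.center Γ
  ne : ¬ B ≤ Subgroup.center Γ
  fp : ∀ b ∈ B, b ∉ Subgroup.center Γ → ∀ l : Λ, b • l = l → l = 1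
  nd : ∀ l m : Λ, l ≠ 1 → m ≠ 1 → (stabilizer Γ l).index ∣ (stabilizer Γ m).index →
    (stabilizer Γ l).index = (stabilizer Γ m).index
  nf : ∀ l : Λ, l ≠ 1 → ¬ B.index ∣ (stabilizer Γ l).index

/-- Facts on `S = Z ⟨h⟩`. -/
structure AS {Γ : Type u} [Group Γ] (B : Subgroup Γ) (h : Γ) : Prop where
  zb : Subgroup.center Γ ≤ B
  sb : (Subgroup.center Γ ⊔ Subgroup.zpowers h) ⊓ B = Subgroup.center Γ
  sc : ∀ x ∈ Subgroup.center Γ ⊔ Subgroup.zpowers h, ∀ y ∈ Subgroup.center Γ ⊔ Subgroup.zpowers h,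
    x * y = y * x
  cj : ∀ I : Subgroup Γ, I ⊓ B ≤ Subgroup.center Γ →
    ∃ b ∈ B, ∀ g ∈ I, b * g * b⁻¹ ∈ Subgroup.center Γ ⊔ Subgroup.zpowers h
  ti : ∀ b ∈ B, b ∉ Subgroup.center Γ → ∀ g ∈ Subgroup.center Γ ⊔ Subgroup.zpowers h,
    b * g * b⁻¹ ∈ Subgroup.center Γ ⊔ Subgroup.zpowers h → g ∈ Subgroup.center Γ
  cy : ∀ I : Subgroup Γ, ∃ g ∈ I, I = (I ⊓ B) ⊔ Subgroup.zpowers g

/-- The conclusion on the stabilisers. -/
structure AO {Γ : Type u} [Group Γ] (Λ : Type u) [CommGroup Λ] [MulDistribMulAction Γ Λ]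
    (B Z : Subgroup Γ) (n : ℕ) : Prop where
  ix : ∀ l : Λ, l ≠ 1 → (stabilizer Γ l).index = n
  sb : ∀ l : Λ, l ≠ 1 → stabilizer Γ l ⊓ B = Z
  dv : ∀ I : Subgroup Γ, I ⊓ B ≤ Z → n ∣ I.index

/-! ### The jobs -/

/-- Brauer's permutation lemma for a cyclic quotient. -/
def JobBr : Prop := ∀ (G : Type u) [Group G] [Finite G] (N T : Subgroup G) [N.Normal] (h : G),
  N ⊔ Subgroup.zpowers h = ⊤ → N ≤ T →
  Nat.card {θ : IrrCharacter N // inertia θ.1 ≤ T} =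
    Nat.card {c : ConjClasses N // ∀ x : N, ConjClasses.mk x = c →
      ∀ g : G, (∃ a ∈ N, g * x * g⁻¹ = a * x * a⁻¹) → g ∈ T}

/-- The lifting principle. -/
def JobLP : Prop := ∀ (G : Type u) [Group G] [Finite G] (N M T : Subgroup G) [N.Normal] [M.Normal]
  (h : G), N ⊔ Subgroup.zpowers h = ⊤ → M ≤ N → N ≤ T →
  (∀ θ : N → ℂ, IsIrrCharacter N θ → inertia θ ≤ T → Kr M θ) → ∀ x ∈ N,
    ((∀ g, (∃ a ∈ N, ∃ y ∈ M, g * x * g⁻¹ = a * (x * y) * a⁻¹) → g ∈ T) → Cl N x M) ∧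
    ((∀ g, (∃ a ∈ N, g * x * g⁻¹ = a * x * a⁻¹) → g ∈ T) →
      ∀ g, (∃ a ∈ N, ∃ y ∈ M, g * x * g⁻¹ = a * (x * y) * a⁻¹) → g ∈ T)

def JobBase : Prop := ∀ (G : Type u) [Group G] [Finite G] (p : ℕ) (N : Subgroup G) [N.Normal]
  (h : G), B0 p N h → BF N

def JobG1 : Prop := ∀ (G : Type u) [Group G] [Finite G] (p : ℕ) (P : Subgroup G) [P.Normal]
  (h : G), PG p P h → GF1 P h

def JobG2 : Prop := ∀ (G : Type u) [Group G] [Finite G] (p : ℕ) (P : Subgroup G) [P.Normal]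
  (h : G), PG p P h → GF1 P h → GF2 P h

def JobT2 : Prop := ∀ (G : Type u) [Group G] [Finite G] (p : ℕ) (P : Subgroup G) [P.Normal]
  (h : G), PG p P h → GF1 P h → L3 P = ⊥ → Ct (L2 P) (L3 P) = ⊤ → L2 P ≠ ⊥ →
  ∃ q, q ≠ 1 ∧ q ∈ charDegrees P ∧ q ∈ charDegrees G ∧
    ∀ d ∈ charDegrees G, d = 1 ∨ d = P.index ∨ d = q

def JobC2 : Prop := ∀ (G : Type u) [Group G] [Finite G] (p : ℕ) (P : Subgroup G) [P.Normal]
  (h : G), PG p P h → GF1 P h → Ct (L2 P) (L3 P) ≠ ⊤ → ⁅CC P, P⁆ ≤ L3 P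

def JobLev : Prop := ∀ (G : Type u) [Group G] [Finite G] (p : ℕ) (P A B Z : Subgroup G) [P.Normal]
  [A.Normal] [B.Normal] [Z.Normal] (h : G), PG p P h → A ≤ L2 P → B = ⁅A, P⁆ →
  Z = C0 P h ⊔ A → ⁅C0 P h, P⁆ ≤ B → ¬ A ≤ B → (∀ x ∈ P, x ∉ Z → Cl P x A) → ∃ q, Lv P A B Z q

def JobStep : Prop := ∀ (G : Type u) [Group G] [Finite G] (p : ℕ) (N A Z T : Subgroup G) [N.Normal]
  [A.Normal] [Z.Normal] (h : G) (q : ℕ), B0 p N h → BF N → Z ≤ N → A ≤ N → ⁅Z, N⁆ ≤ A → N ≤ T →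
  q ≠ 1 → q ^ 2 = Z.relIndex N → q * T.index ∈ charDegrees G → (∀ x ∈ N, x ∉ Z → Cl N x A) →
  ∀ x ∈ Z, (∀ g, g * x * g⁻¹ * x⁻¹ ∈ ⁅Z, N⁆ → g ∈ T) → Cl N x ⁅Z, N⁆

def JobAX : Prop := ∀ (G : Type u) [Group G] [Finite G] (p : ℕ) (P : Subgroup G) [P.Normal]
  (h : G), PG p P h → GF1 P h → GF2 P h → L4 P = ⊥ → ⁅CC P, P⁆ ≤ L3 P → ¬ L2 P ≤ L3 P →
  (∀ a ∈ L2 P, h * a * h⁻¹ * a⁻¹ ∈ L3 P → a ∈ L3 P) → AX p P

/-- Alternating maps all of whose rows are onto (Chevalley-Warning). -/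
def JobCW : Prop := ∀ (V A : Type u) [AddCommGroup V] [AddCommGroup A] [Finite V] [Finite A]
  [Nontrivial V] (b : V →+ V →+ A), (∀ x, b x x = 0) → (∀ x, x ≠ 0 → Function.Surjective (b x)) →
  Nat.card A ^ 2 ≤ Nat.card V

def JobFld : Prop := ∀ (X A : Type u) (T : Type) [AddCommGroup X] [AddCommGroup A] [AddCommGroup T]
  [Finite X] [Finite A] (p : ℕ), p.Prime → (∀ a : A, p • a = 0) → Nat.card X = Nat.card A →
  ∀ (S : X →+ A →+ A) (γ : A →+ A →+ T), (∀ x y a, S x (S y a) = S y (S x a)) →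
  (∀ x, x ≠ 0 → Function.Bijective (S x)) → (∀ a, γ a a = 0) →
  (∀ x a b, γ (S x (S x a)) b - 2 • γ (S x a) (S x b) + γ a (S x (S x b)) = 0) → γ = 0

def JobLie0 : Prop := ∀ (V1 V2 V3 V4 : Type u) [AddCommGroup V1] [AddCommGroup V2]
  [AddCommGroup V3] [AddCommGroup V4] [Finite V1] [Finite V2] [Finite V3] [Finite V4]
  (b11 : V1 →+ V1 →+ V2) (b21 : V2 →+ V1 →+ V3) (b31 : V3 →+ V1 →+ V4) (b22 : V2 →+ V2 →+ V4),
  LieD b11 b21 b31 b22 → b22 ≠ 0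

def JobLie1 : Prop := ∀ (V1 V2 V3 V4 : Type u) [AddCommGroup V1] [AddCommGroup V2]
  [AddCommGroup V3] [AddCommGroup V4] [Finite V1] [Finite V2] [Finite V3] [Finite V4]
  (b11 : V1 →+ V1 →+ V2) (b21 : V2 →+ V1 →+ V3) (b31 : V3 →+ V1 →+ V4) (b22 : V2 →+ V2 →+ V4),
  LieD b11 b21 b31 b22 → ¬ ∀ a, a ≠ 0 → Function.Surjective (b22 a)

/-- The choice of the fourth section. -/
def JobJ : Prop := ∀ (G : Type u) [Group G] [Finite G] (p : ℕ) (P : Subgroup G) [P.Normal]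
  (h : G), PG p P h → GF1 P h → ⁅CC P, P⁆ ≤ L3 P → ⁅C0 P h, P⁆ ≤ L4 P →
  (∀ a ∈ L2 P, a ∉ L3 P → Cl P a (L4 P)) → L4 P ≠ ⊥ →
  ∃ J : Subgroup G, J.Normal ∧ L5 P ≤ J ∧ ¬ L4 P ≤ J ∧ (⁅L2 P, L2 P⁆ ≤ J ∨
    ∀ a ∈ L2 P, a ∉ L3 P → ∀ z ∈ L4 P, ∃ b ∈ L2 P, (a * b * a⁻¹ * b⁻¹)⁻¹ * z ∈ J)

/-- Class four is impossible. -/
def JobC4 : Prop := ∀ (G : Type u) [Group G] [Finite G] (P C D J : Subgroup G) [P.Normal] [C.Normal]
  [J.Normal], C = D ⊔ L2 P → D ≤ P → ⁅C, P⁆ ≤ L3 P → ⁅D, P⁆ ≤ L4 P → L5 P ≤ J → ¬ L4 P ≤ J →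
  (∀ x ∈ P, x ∉ C → Cl P x (L2 P)) → (∀ a ∈ L2 P, a ∉ L3 P → Cl P a (L3 P)) →
  (∀ b ∈ L3 P, b ∉ L4 P → Cl P b (L4 P)) → ¬ (⁅L2 P, L2 P⁆ ≤ J ∨
    ∀ a ∈ L2 P, a ∉ L3 P → ∀ z ∈ L4 P, ∃ b ∈ L2 P, (a * b * a⁻¹ * b⁻¹)⁻¹ * z ∈ J)

/-- The theorem for `p`-groups `P`. -/
def JobP : Prop := ∀ (G : Type u) [Group G] [Finite G] (p : ℕ) (P : Subgroup G) [P.Normal]
  (h : G), PG p P h → L2 P ≠ ⊥ → OutP p P

def JobFP : Prop := ∀ (G : Type u) [Group G] [Finite G] (p : ℕ) (P V J : Subgroup G) [V.Normal]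
  [J.Normal] (a x : G), p.Prime → IsPGroup p P → a ∈ P → x ∈ P → a ^ p = 1 → x ^ p ∈ J →
  a * x * a⁻¹ * x⁻¹ ∈ J → (∀ i j : ℕ, ¬ (p ∣ i ∧ p ∣ j) → ∀ z ∈ J, z ∈ P → ∀ v ∈ V,
    a ^ i * x ^ j * z * v = v * (a ^ i * x ^ j * z) → v = 1) → V = ⊥

def JobExt : Prop := ∀ (G : Type u) [Group G] [Finite G] (p k : ℕ) (N L : Subgroup G) [N.Normal]
  [L.Normal] (h : G), B0 p N h → L ≤ N → ¬ p ∣ Nat.card L → L.relIndex N = p ^ k →
  ∀ d ∈ charDegrees G, d ∈ charDegrees (G ⧸ L) ∨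
    ∃ I : Subgroup G, L ≤ I ∧ ⁅I, I⁆ ≤ L ∧ I.index ∣ d ∧ (L ≤ Subgroup.center G → I = ⊤)

def JobAl : Prop := ∀ (G : Type u) [Group G] [Finite G] (p k q : ℕ) (N L I : Subgroup G)
  [N.Normal] [L.Normal], p.Prime → L ≤ N → L.relIndex N = p ^ k →
  q ∈ charDegrees (N.map (QuotientGroup.mk' L)) → L ≤ I → ⁅I, I⁆ ≤ L → q ∣ I.index

/-- A nonabelian quotient of prime power order. -/
def JobA : Prop := ∀ (G : Type u) [Group G] [Finite G], ND G → ¬ NQP G →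
  ∃ m, ∀ d ∈ charDegrees G, d = 1 ∨ d = m

/-- The first reduction. -/
def JobTop : Prop := ∀ (G : Type u) [Group G] [Finite G] [Group.IsSolvable G], ND G →
  (∃ m, ∀ d ∈ charDegrees G, d = 1 ∨ d = m) ∨
  ∃ (p k : ℕ) (N L P : Subgroup G) (_ : N.Normal) (_ : L.Normal) (h : G), B0 p N h ∧ L ≤ N ∧
    ¬ p ∣ Nat.card L ∧ L.relIndex N = p ^ k ∧ IsPGroup p P ∧ L ⊔ P = N ∧
    ∃ x ∈ P, h * x * h⁻¹ * x⁻¹ ∉ ⁅N, N⁆ ⊔ L

/-- The passage to `G / L`. -/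
def JobQ : Prop := ∀ (G : Type u) [Group G] [Finite G] (p k : ℕ) (N L : Subgroup G) [N.Normal]
  [L.Normal] (h : G), B0 p N h → L ≤ N → L.relIndex N = p ^ k →
  (∃ x ∈ N, h * x * h⁻¹ * x⁻¹ ∉ ⁅N, N⁆ ⊔ L) →
  ∃ h' : G ⧸ L, B0 p (N.map (QuotientGroup.mk' L)) h' ∧
    IsPGroup p (N.map (QuotientGroup.mk' L)) ∧ (orderOf h').Coprime p

/-- The case `N / L` nonabelian. -/
def JobII : Prop := ∀ (G : Type u) [Group G] [Finite G] (p k : ℕ) (N L P : Subgroup G) [N.Normal]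
  [L.Normal] [(N.map (QuotientGroup.mk' L)).Normal] (h : G), B0 p N h → BF N → L ≤ N →
  ¬ p ∣ Nat.card L → L.relIndex N = p ^ k → IsPGroup p P → L ⊔ P = N → ¬ ⁅N, N⁆ ≤ L →
  OutP p (N.map (QuotientGroup.mk' L)) → Goal G

def JobFq : Prop := ∀ (Γ : Type u) [Group Γ] [Finite Γ] (B : Subgroup Γ) [B.Normal] (h : Γ),
  NQP Γ → (∀ a ∈ B, ∀ b ∈ B, a * b = b * a) → B ⊔ Subgroup.zpowers h = ⊤ →
  (∀ g, g ∉ B → ∀ b ∈ B, g * b = b * g → b ∈ Subgroup.center Γ) →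
  ∀ g, g ∉ B → ∀ b ∈ B, g * b * g⁻¹ * b⁻¹ ∈ Subgroup.center Γ → b ∈ Subgroup.center Γ

def JobAc1 : Prop := ∀ (Γ Λ : Type u) [Group Γ] [Finite Γ] [CommGroup Λ] [MulDistribMulAction Γ Λ]
  (B : Subgroup Γ) [B.Normal] (h : Γ), AD Λ B h → AS B h

def JobAc2 : Prop := ∀ (Γ Λ : Type u) [Group Γ] [Finite Γ] [CommGroup Λ] [Finite Λ]
  [MulDistribMulAction Γ Λ] (B : Subgroup Γ) [B.Normal] (h : Γ), AD Λ B h →
  ∀ U : Subgroup Λ, U ≠ ⊥ → (∀ g : Γ, ∀ l ∈ U, g • l ∈ U) → ∀ g : Γ,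
    (∀ k : ℕ, g ^ k ∈ B → ∀ l ∈ U, g ^ k • l = l) → ∃ l ∈ U, l ≠ 1 ∧ g • l = l

def JobAc3 : Prop := ∀ (Γ Λ : Type u) [Group Γ] [Finite Γ] [CommGroup Λ] [Finite Λ] [Nontrivial Λ]
  [MulDistribMulAction Γ Λ] (B : Subgroup Γ) [B.Normal] (h : Γ), AD Λ B h → AS B h →
  ∃ Z n, AO Λ B Z n

def JobAc4 : Prop := ∀ (Γ Λ : Type u) [Group Γ] [Finite Γ] [CommGroup Λ] [Finite Λ] [Nontrivial Λ]
  [MulDistribMulAction Γ Λ] (B Z : Subgroup Γ) [B.Normal] (h : Γ) (n : ℕ), AD Λ B h → AS B h →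
  AO Λ B Z n → Nat.card Λ < ((Subgroup.center Γ).relIndex B) ^ 2

/-- The complement to `N'`. -/
def JobAb1 : Prop := ∀ (G : Type u) [Group G] [Finite G] (p : ℕ) (N P : Subgroup G) [N.Normal],
  p.Prime → BF N → ¬ p ∣ Nat.card ↥⁅N, N⁆ → IsPGroup p P → P ≤ N → (∃ x ∈ P, x ∉ CC N) →
  ∃ Γ : Subgroup G, Γ ⊓ ⁅N, N⁆ = ⊥ ∧ Γ ⊔ ⁅N, N⁆ = ⊤

def JobAb2 : Prop := ∀ (G : Type u) [Group G] [Finite G] (p : ℕ) (N Γ : Subgroup G) [N.Normal]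
  (h : G), B0 p N h → BF N → NQP G → Γ ⊓ ⁅N, N⁆ = ⊥ → Γ ⊔ ⁅N, N⁆ = ⊤ →
  (∃ h' : Γ, AD (Lin ↥⁅N, N⁆) (N.subgroupOf Γ) h') ∧
  (∀ b : Γ, (b : G) ∈ N → b ∉ Subgroup.center Γ → ∀ y ∈ ⁅N, N⁆, (b : G) * y = y * b → y = 1) ∧
  ∀ l : Lin ↥⁅N, N⁆, (stabilizer Γ l).index ∈ charDegrees G

/-- The centre of a nonlinear character of `M` lies in `M'`. -/
def JobAb3 : Prop := ∀ (G : Type u) [Group G] [Finite G] (M Γ : Subgroup G) [M.Normal]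
  (B Z : Subgroup Γ) (n : ℕ), ND G → Γ ⊔ M = ⊤ → (∀ a ∈ B, ∀ b ∈ B, a * b = b * a) →
  AO (Lin M) B Z n → n ≠ 1 → n ∈ charDegrees G → ∀ θ : M → ℂ, IsIrrCharacter M θ →
  charDegree θ ≠ 1 → charCenter θ ≤ commutator M

/-- The end of the case `N / L` abelian. -/
def JobAb4 : Prop := ∀ (G : Type u) [Group G] [Finite G] (M Γ : Subgroup G) [M.Normal]
  (B : Subgroup Γ) [B.Normal], (∀ a ∈ B, ∀ b ∈ B, a * b = b * a) →
  (∀ g, g ∉ B → ∀ b ∈ B, g * b * g⁻¹ * b⁻¹ ∈ Subgroup.center Γ → b ∈ Subgroup.center Γ) →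
  B ≠ ⊤ → ¬ B ≤ Subgroup.center Γ →
  (∀ b ∈ B, b ∉ Subgroup.center Γ → ∀ y ∈ M, (b : G) * y = y * b → y = 1) →
  Nat.card (Lin M) < ((Subgroup.center Γ).relIndex B) ^ 2 →
  (∀ θ : M → ℂ, IsIrrCharacter M θ → charDegree θ ≠ 1 → charCenter θ ≤ commutator M) →
  ⁅M, M⁆ = ⊥

end H23.ND
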