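/- Brauer's lemma and the counting principle behind Frobenius' theorem on `x ^ n = c`. -/
import Cfsg.Agent.Base

set_option autoImplicit false

namespace H23

variable {G : Type*} [Group G]

/-- A finite type with an equivalence relation all of whose classes have `d` elements has
cardinality divisible by `d`. -/
theorem dvd_card_of_classes {α : Type*} [Finite α] (r : Setoid α) (d : ℕ)
    (h : ∀ a : α, d ∣ Nat.card {b : α // r b a}) : d ∣ Nat.card α := by
  classical
  have e : α ≃ Σ q : Quotient r, {b : α // Quotient.mk r b = q} :=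
    (Equiv.sigmaFiberEquiv (Quotient.mk r)).symm
  have : Fintype (Quotient r) := Fintype.ofFinite _
  rw [Nat.card_congr e, Nat.card_sigma]
  refine Finset.dvd_sum fun q _ => ?_
  induction q using Quotient.inductionOn with
  | h a =>
    have : Nat.card {b : α // Quotient.mk r b = Quotient.mk r a} = Nat.card {b : α // r b a} :=
      Nat.card_congr (Equiv.subtypeEquivRight fun b => Quotient.eq)
    rw [this]
    exact h a

/-- A permutation of a finite type all of whose powers are the identity or fixed-point-free has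
order dividing the cardinality. -/
theorem orderOf_dvd_card_of_free {α : Type*} [Finite α] (ι : Equiv.Perm α)
    (h : ∀ (k : ℕ) (a : α), (ι ^ k) a = a → ι ^ k = 1) : orderOf ι ∣ Nat.card α := by
  have hfree : ∀ b : α, MulAction.stabilizer (Subgroup.zpowers ι) b = ⊥ := by
    intro b
    rw [eq_bot_iff]
    rintro ⟨g, hg⟩ hb
    have hg' : g ∈ Submonoid.powers ι := mem_powers_iff_mem_zpowers.mpr hg
    obtain ⟨k, rfl⟩ := hg'
    rw [Subgroup.mem_bot]
    exact Subtype.ext (h k b hb)
  have e := MulAction.selfEquivOrbitsQuotientProd hfree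
  rw [Nat.card_congr e, Nat.card_prod, Nat.card_zpowers]
  exact Dvd.intro_left _ rfl

/-- Brauer's lemma: if `σ` normalizes the finite subgroup `N` and `ν ∈ N`, then `(σ ν) ^ |N|` is
conjugate to `σ ^ |N|` by an element of `N`. -/
theorem brauer_lemma (N : Subgroup G) [Finite N] (σ ν : G) (hσ : ∀ x ∈ N, σ⁻¹ * x * σ ∈ N)
    (hν : ν ∈ N) : ∃ μ ∈ N, μ * (σ * ν) ^ Nat.card N * μ⁻¹ = σ ^ Nat.card N := by
  induction hn : Nat.card N using Nat.strong_induction_on generalizing N ν with
  | _ n ih =>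
  subst hn
  let f : N → N := fun μ => ⟨σ⁻¹ * μ * σ * ν, N.mul_mem (hσ _ μ.2) hν⟩
  have hf : Function.Injective f := by
    intro a b hab
    have := congrArg Subtype.val hab
    simp only [f, mul_left_inj, mul_right_inj] at this
    exact Subtype.ext this
  let ι : Equiv.Perm N := Equiv.ofBijective f (Finite.injective_iff_bijective.mp hf)
  have hι : ∀ (k : ℕ) (μ : N), (((ι ^ k) μ : N) : G) = (σ ^ k)⁻¹ * μ * (σ * ν) ^ k := by
    intro k μ
    induction k with
    | zero => simp
    | succ k ihk =>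
      rw [pow_succ', Equiv.Perm.mul_apply]
      change σ⁻¹ * (((ι ^ k) μ : N) : G) * σ * ν = _
      rw [ihk, pow_succ σ, pow_succ (σ * ν)]
      group
  by_cases hfree : ∀ (k : ℕ) (a : N), (ι ^ k) a = a → ι ^ k = 1
  · have h1 : ι ^ Nat.card N = 1 := orderOf_dvd_iff_pow_eq_one.mp (orderOf_dvd_card_of_free ι hfree)
    refine ⟨1, N.one_mem, ?_⟩
    have := hι (Nat.card N) 1
    rw [h1] at this
    simp only [Equiv.Perm.coe_one, id_eq, OneMemClass.coe_one, mul_one] at this
    rw [one_mul, inv_one, mul_one]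
    exact (inv_mul_eq_one.mp this.symm).symm
  · push Not at hfree
    obtain ⟨k, μ, hμ, hk⟩ := hfree
    have hμ' : (μ : G) * (σ * ν) ^ k * (μ : G)⁻¹ = σ ^ k := by
      have := hι k μ
      rw [hμ] at this
      calc (μ : G) * (σ * ν) ^ k * (μ : G)⁻¹
          = σ ^ k * ((σ ^ k)⁻¹ * μ * (σ * ν) ^ k) * (μ : G)⁻¹ := by group
        _ = σ ^ k := by rw [← this]; group
    let M : Subgroup G := N ⊓ Subgroup.centralizer {σ ^ k}
    have hMN : M ≤ N := inf_le_left
    have : Finite M := Finite.of_injective _ (Subgroup.inclusion_injective hMN)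
    have hne : M ≠ N := by
      intro hM
      apply hk
      have hc : ∀ x ∈ N, σ ^ k * x = x * σ ^ k := by
        intro x hx
        rw [← hM] at hx
        exact hx.2 _ rfl
      ext a
      rw [hι]
      have h1 : (σ * ν) ^ k = σ ^ k := by
        have h2 := hc _ μ.2
        calc (σ * ν) ^ k = (μ : G)⁻¹ * ((μ : G) * (σ * ν) ^ k * (μ : G)⁻¹) * μ := by group
          _ = (μ : G)⁻¹ * (σ ^ k * μ) := by rw [hμ']; group
          _ = σ ^ k := by rw [h2]; group
      rw [h1, mul_assoc, ← hc _ a.2]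
      simp
    have hlt : Nat.card M < Nat.card N := by
      have hle := Subgroup.card_le_of_le hMN
      refine lt_of_le_of_ne hle fun heq => hne ?_
      exact Subgroup.eq_of_le_of_card_ge hMN heq.ge
    let ν' : G := σ⁻¹ * μ * σ * ν * (μ : G)⁻¹
    have hσν' : σ * ν' = μ * (σ * ν) * (μ : G)⁻¹ := by simp only [ν']; group
    have hpow : (σ * ν') ^ k = σ ^ k := by rw [hσν', conj_pow, hμ']
    have hν' : ν' ∈ M := by
      refine Subgroup.mem_inf.mpr ⟨N.mul_mem (N.mul_mem (hσ _ μ.2) hν) (N.inv_mem μ.2), ?_⟩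
      rw [Subgroup.mem_centralizer_singleton_iff]
      have h1 : (σ * ν') * σ ^ k = σ ^ k * (σ * ν') := by
        rw [← hpow]; exact (Commute.self_pow _ _).eq
      calc ν' * σ ^ k = σ⁻¹ * ((σ * ν') * σ ^ k) := by group
        _ = σ ^ k * ν' := by rw [h1]; group
    have hσM : ∀ x ∈ M, σ⁻¹ * x * σ ∈ M := by
      intro x hx
      refine Subgroup.mem_inf.mpr ⟨hσ x hx.1, ?_⟩
      have h1 := (Subgroup.mem_inf.mp hx).2
      rw [Subgroup.mem_centralizer_singleton_iff] at h1 ⊢
      calc σ⁻¹ * x * σ * σ ^ k = σ⁻¹ * (x * σ ^ k) * σ := by group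
        _ = σ ^ k * (σ⁻¹ * x * σ) := by rw [h1]; group
    obtain ⟨μ', hμ'M, hμ''⟩ := ih _ hlt M ν' hσM hν' rfl
    obtain ⟨c, hc⟩ := Subgroup.card_dvd_of_le hMN
    refine ⟨μ' * μ, N.mul_mem (hMN hμ'M) μ.2, ?_⟩
    rw [hc, pow_mul σ, ← hμ'', conj_pow, ← pow_mul, hσν', conj_pow]
    group

/-- The largest subgroup of `H` that conjugation by `x` maps into itself. -/
def invCore (H : Subgroup G) (x : G) : Subgroup G where
  carrier := {f | ∀ i : ℕ, (x ^ i)⁻¹ * f * x ^ i ∈ H}
  one_mem' := fun i => by simp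
  mul_mem' := by
    intro a b ha hb i
    have := H.mul_mem (ha i) (hb i)
    simpa [mul_assoc] using this
  inv_mem' := by
    intro a ha i
    have := H.inv_mem (ha i)
    simpa [mul_assoc] using this

theorem invCore_le (H : Subgroup G) (x : G) : invCore H x ≤ H := by
  intro f hf
  simpa using hf 0

theorem conj_mem_invCore (H : Subgroup G) (x : G) {f : G} (hf : f ∈ invCore H x) :
    x⁻¹ * f * x ∈ invCore H x := by
  intro i
  have := hf (i + 1)
  rw [pow_succ'] at this
  simpa [mul_assoc] using this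

theorem le_invCore (H F : Subgroup G) (x : G) (hF : F ≤ H) (hx : ∀ f ∈ F, x⁻¹ * f * x ∈ F) :
    F ≤ invCore H x := by
  intro f hf i
  apply hF
  induction i with
  | zero => simpa using hf
  | succ i ih =>
    have := hx _ ih
    rw [pow_succ]
    simpa [mul_assoc] using this

theorem invCore_mul (H : Subgroup G) (x : G) {f : G} (hf : f ∈ invCore H x) :
    invCore H (x * f) = invCore H x := by
  have key : ∀ (y g : G), g ∈ invCore H y → invCore H y ≤ invCore H (y * g) := by
    intro y g hg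
    refine le_invCore H _ _ (invCore_le H y) fun a ha => ?_
    have := (invCore H y).mul_mem ((invCore H y).mul_mem ((invCore H y).inv_mem hg)
      (conj_mem_invCore H y ha)) hg
    simpa [mul_assoc] using this
  refine le_antisymm ?_ (key x f hf)
  have h1 : f⁻¹ ∈ invCore H (x * f) := (invCore H (x * f)).inv_mem (key x f hf hf)
  have := key _ _ h1
  rwa [mul_inv_cancel_right] at this

theorem conj_mem_invCore_conj (H : Subgroup G) (x : G) {h f : G} (hh : h ∈ H)
    (hf : f ∈ invCore H x) : h * f * h⁻¹ ∈ invCore H (h * x * h⁻¹) := by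
  intro i
  have := H.mul_mem (H.mul_mem hh (hf i)) (H.inv_mem hh)
  rw [conj_pow]
  simpa [mul_assoc] using this

theorem exists_pow_mul_invCore (H : Subgroup G) (x : G) {f : G} (hf : f ∈ invCore H x) (i : ℕ) :
    ∃ g ∈ invCore H x, (x * f) ^ i = x ^ i * g := by
  induction i with
  | zero => exact ⟨1, Subgroup.one_mem _, by simp⟩
  | succ i ih =>
    obtain ⟨g, hg, e⟩ := ih
    refine ⟨x⁻¹ * g * x * f, Subgroup.mul_mem _ (conj_mem_invCore H x hg) hf, ?_⟩
    rw [pow_succ, e, pow_succ]
    group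

theorem mem_invCore_of_conj (H : Subgroup G) (x : G) {k f f' : G} (hk : k ∈ H)
    (hf : f ∈ invCore H x) (hf' : f' ∈ invCore H x) (e : k * (x * f) * k⁻¹ = x * f') :
    k ∈ invCore H x := by
  intro i
  obtain ⟨g, hg, e1⟩ := exists_pow_mul_invCore H x hf i
  obtain ⟨g', hg', e2⟩ := exists_pow_mul_invCore H x hf' i
  have e3 : k * (x ^ i * g) * k⁻¹ = x ^ i * g' := by rw [← e1, ← e2, ← e, conj_pow]
  have e4 : (x ^ i)⁻¹ * k * x ^ i = g' * k * g⁻¹ := by
    calc (x ^ i)⁻¹ * k * x ^ i = (x ^ i)⁻¹ * (k * (x ^ i * g) * k⁻¹) * k * g⁻¹ := by group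
      _ = g' * k * g⁻¹ := by rw [e3]; group
  rw [e4]
  exact H.mul_mem (H.mul_mem (invCore_le H x hg') hk) (H.inv_mem (invCore_le H x hg))

/-- Brauer's equivalence relation attached to a subgroup `H`. -/
def brauerSetoid (H : Subgroup G) : Setoid G where
  r y x := ∃ h ∈ H, ∃ f ∈ invCore H x, y = h * (x * f) * h⁻¹
  iseqv :=
    { refl := fun x => ⟨1, H.one_mem, 1, Subgroup.one_mem _, by simp⟩
      symm := by
        rintro y x ⟨h, hh, f, hf, rfl⟩
        refine ⟨h⁻¹, H.inv_mem hh, h * f⁻¹ * h⁻¹, ?_, by group⟩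
        apply conj_mem_invCore_conj H _ hh
        rw [invCore_mul H x hf]
        exact Subgroup.inv_mem _ hf
      trans := by
        rintro z y x ⟨h', hh', f', hf', rfl⟩ ⟨h, hh, f, hf, rfl⟩
        have h1 := conj_mem_invCore_conj H _ (H.inv_mem hh) hf'
        have h2 : h⁻¹ * (h * (x * f) * h⁻¹) * h⁻¹⁻¹ = x * f := by group
        rw [h2, invCore_mul H x hf] at h1
        exact ⟨h' * h, H.mul_mem hh' hh, f * (h⁻¹ * f' * h⁻¹⁻¹), Subgroup.mul_mem _ hf h1,
          by group⟩ }

theorem card_brauer_class (H : Subgroup G) (x : G) :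
    Nat.card {y : G // brauerSetoid H y x} = Nat.card H := by
  let F : Subgroup H := (invCore H x).subgroupOf H
  let φ : (H ⧸ F) × F → {y : G // brauerSetoid H y x} := fun q =>
    ⟨(q.1.out : G) * (x * ((q.2 : H) : G)) * (q.1.out : G)⁻¹, _, q.1.out.2, _, q.2.2, rfl⟩
  have hφ : Function.Bijective φ := by
    constructor
    · rintro ⟨q, f⟩ ⟨q', f'⟩ e
      have e1 : (q.out : G) * (x * ((f : H) : G)) * (q.out : G)⁻¹ =
          (q'.out : G) * (x * ((f' : H) : G)) * (q'.out : G)⁻¹ := congrArg Subtype.val e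
      have e2 : ((q'.out : G)⁻¹ * q.out) * (x * ((f : H) : G)) * ((q'.out : G)⁻¹ * q.out)⁻¹ =
          x * ((f' : H) : G) := by
        calc _ = (q'.out : G)⁻¹ * ((q.out : G) * (x * ((f : H) : G)) * (q.out : G)⁻¹) * q'.out := by
              group
          _ = _ := by rw [e1]; group
      have hk := mem_invCore_of_conj H x (H.mul_mem (H.inv_mem q'.out.2) q.out.2) f.2 f'.2 e2
      have hq : q' = q := by
        rw [← QuotientGroup.out_eq' q, ← QuotientGroup.out_eq' q', QuotientGroup.eq]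
        exact hk
      subst hq
      simp only [mul_left_inj, mul_right_inj] at e1
      rw [Subtype.ext (Subtype.ext e1 : (f : H) = f')]
    · rintro ⟨y, h, hh, f, hf, rfl⟩
      obtain ⟨k, hk⟩ := QuotientGroup.mk_out_eq_mul F ⟨h, hh⟩
      have hk' : ((k : H) : G) ∈ invCore H x := k.2
      have hm : x⁻¹ * ((k : H) : G)⁻¹ * x * f * ((k : H) : G) ∈ invCore H x :=
        Subgroup.mul_mem _ (Subgroup.mul_mem _ (conj_mem_invCore H x (Subgroup.inv_mem _ hk')) hf)
          hk'
      refine ⟨(QuotientGroup.mk ⟨h, hh⟩, ⟨⟨_, invCore_le H x hm⟩, hm⟩), Subtype.ext ?_⟩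
      simp only [φ, hk, Subgroup.coe_mul]
      group
  rw [← Nat.card_congr (Equiv.ofBijective φ hφ), Nat.card_prod,
    Subgroup.card_eq_card_quotient_mul_card_subgroup F]

/-- Counting principle: a finite set closed under conjugation by `H` and under right
multiplication of `x` by the subgroups of `H` normalized by `x` has cardinality divisible
by `|H|`. -/
theorem card_dvd_card_of_closed (H : Subgroup G) (S : Set G) [Finite S]
    (hconj : ∀ h ∈ H, ∀ x ∈ S, h * x * h⁻¹ ∈ S)
    (hmul : ∀ x ∈ S, ∀ F : Subgroup G, F ≤ H → (∀ f ∈ F, x⁻¹ * f * x ∈ F) → ∀ f ∈ F, x * f ∈ S) :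
    Nat.card H ∣ Nat.card S := by
  refine dvd_card_of_classes ((brauerSetoid H).comap (Subtype.val : S → G)) _ fun a => ?_
  rw [← card_brauer_class H a]
  apply dvd_of_eq
  refine Nat.card_congr ⟨fun y => ⟨⟨y.1, ?_⟩, y.2⟩, fun b => ⟨b.1.1, b.2⟩, fun _ => rfl,
    fun _ => rfl⟩
  obtain ⟨h, hh, f, hf, e⟩ := y.2
  rw [e]
  exact hconj h hh _ (hmul _ a.2 _ (invCore_le H a) (fun _ hg => conj_mem_invCore H _ hg) f hf)

end H23
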