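/- Frobenius' theorem on the number of solutions of `x ^ n ∈ C`, with Hall's coset form. -/
import Cfsg.Agent.Base
import Cfsg.Agent.H23.Brauer

set_option autoImplicit false

namespace H23

variable {G : Type*} [Group G]

/-- Frobenius-Hall: if `T` is closed under conjugation by `K` and right multiplication by `K`,
and `C` is closed under conjugation by `K`, then the number of `x ∈ T` with `x ^ n ∈ C` is
divisible by `gcd n |K|`. -/
theorem gcd_dvd_card_pow_mem [Finite G] (K : Subgroup G) (n : ℕ) (T C : Set G)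
    (hTc : ∀ k ∈ K, ∀ x ∈ T, k * x * k⁻¹ ∈ T) (hTm : ∀ x ∈ T, ∀ k ∈ K, x * k ∈ T)
    (hC : ∀ k ∈ K, ∀ c ∈ C, k * c * k⁻¹ ∈ C) :
    Nat.gcd n (Nat.card K) ∣ Nat.card {x : G // x ∈ T ∧ x ^ n ∈ C} := by
  rw [Nat.dvd_iff_prime_pow_dvd_dvd]
  intro p k hp hpk
  have : Fact p.Prime := ⟨hp⟩
  obtain ⟨H₀, hH₀⟩ := Sylow.exists_subgroup_card_pow_prime (G := K) p
    (hpk.trans (Nat.gcd_dvd_right _ _))
  let H : Subgroup G := H₀.map K.subtype
  have hHK : H ≤ K := Subgroup.map_subtype_le _
  have hH : Nat.card H = p ^ k := by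
    rw [← hH₀]
    exact (Nat.card_congr (H₀.equivMapOfInjective K.subtype K.subtype_injective).toEquiv).symm
  rw [← hH]
  refine card_dvd_card_of_closed H {x : G | x ∈ T ∧ x ^ n ∈ C} ?_ ?_
  · rintro h hh x ⟨hxT, hxC⟩
    exact ⟨hTc h (hHK hh) x hxT, by rw [conj_pow]; exact hC h (hHK hh) _ hxC⟩
  · rintro x ⟨hxT, hxC⟩ F hF hFx f hf
    refine ⟨hTm x hxT f (hHK (hF hf)), ?_⟩
    obtain ⟨μ, hμ, e⟩ := brauer_lemma F x f hFx hf
    obtain ⟨c, hc⟩ : Nat.card F ∣ n :=
      (Subgroup.card_dvd_of_le hF).trans (hH ▸ hpk.trans (Nat.gcd_dvd_left _ _))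
    have e2 : (x * f) ^ n = μ⁻¹ * x ^ n * μ⁻¹⁻¹ := by
      rw [hc, pow_mul x, ← e, conj_pow, ← pow_mul]
      group
    rw [e2]
    exact hC _ (K.inv_mem (hHK (hF hμ))) _ hxC

/-- Frobenius: for a set `C` closed under conjugation, the number of `x` with `x ^ n ∈ C` is
divisible by `gcd n |G|`. -/
theorem gcd_dvd_card_pow_mem_conj [Finite G] (n : ℕ) (C : Set G)
    (hC : ∀ k : G, ∀ c ∈ C, k * c * k⁻¹ ∈ C) :
    Nat.gcd n (Nat.card G) ∣ Nat.card {x : G // x ^ n ∈ C} := by
  have := gcd_dvd_card_pow_mem (⊤ : Subgroup G) n Set.univ C (fun _ _ _ _ => trivial)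
    (fun _ _ _ _ => trivial) (fun k _ => hC k)
  simpa using this

/-- Frobenius' theorem: `gcd n |G|` divides the number of solutions of `x ^ n = 1`. -/
theorem gcd_dvd_card_pow_eq_one [Finite G] (n : ℕ) :
    Nat.gcd n (Nat.card G) ∣ Nat.card {x : G // x ^ n = 1} := by
  have := gcd_dvd_card_pow_mem_conj (G := G) n {1} (by simp)
  simpa using this

/-- Frobenius' theorem: a divisor `n` of `|G|` divides the number of solutions of `x ^ n = 1`. -/
theorem dvd_card_pow_eq_one [Finite G] {n : ℕ} (hn : n ∣ Nat.card G) :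
    n ∣ Nat.card {x : G // x ^ n = 1} := by
  have := gcd_dvd_card_pow_eq_one (G := G) n
  rwa [Nat.gcd_eq_left hn] at this

/-- The number of solutions of `x ^ n = c` is divisible by `gcd n |C_G(c)|`. -/
theorem gcd_dvd_card_pow_eq [Finite G] (n : ℕ) (c : G) :
    Nat.gcd n (Nat.card (Subgroup.centralizer ({c} : Set G))) ∣ Nat.card {x : G // x ^ n = c} := by
  have := gcd_dvd_card_pow_mem (Subgroup.centralizer ({c} : Set G)) n Set.univ {c}
    (fun _ _ _ _ => trivial) (fun _ _ _ _ => trivial) (by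
      intro k hk y hy
      rw [Set.mem_singleton_iff] at hy ⊢
      rw [Subgroup.mem_centralizer_singleton_iff] at hk
      rw [hy, hk, mul_inv_cancel_right])
  simpa using this

/-- Hall: for a normal subgroup `K`, the number of solutions of `x ^ n = 1` in a coset `y K` that
is fixed by conjugation with `K` is divisible by `gcd n |K|`. -/
theorem gcd_dvd_card_pow_eq_one_coset [Finite G] (K : Subgroup G) [hK : K.Normal] (n : ℕ) (y : G) :
    Nat.gcd n (Nat.card K) ∣ Nat.card {x : G // y⁻¹ * x ∈ K ∧ x ^ n = 1} := by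
  have := gcd_dvd_card_pow_mem K n {x | y⁻¹ * x ∈ K} {1} ?_ ?_ (by simp)
  · simpa using this
  · intro k hk x hx
    have h1 : y⁻¹ * (k * x * k⁻¹) = (y⁻¹ * k * y⁻¹⁻¹) * (y⁻¹ * x) * k⁻¹ := by group
    change y⁻¹ * (k * x * k⁻¹) ∈ K
    rw [h1]
    exact K.mul_mem (K.mul_mem (hK.conj_mem k hk y⁻¹) hx) (K.inv_mem hk)
  · intro x hx k hk
    change y⁻¹ * (x * k) ∈ K
    rw [← mul_assoc]
    exact K.mul_mem hx hk

/-- Class size times centralizer order is the group order. -/
theorem card_isConj_mul_card_centralizer (c : G) :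
    Nat.card {y : G // IsConj c y} * Nat.card (Subgroup.centralizer ({c} : Set G)) =
      Nat.card G := by
  rw [Subgroup.nat_card_centralizer_nat_card_stabilizer, 
    Nat.card_congr (ConjAct.toConjAct (G := G)).toEquiv,
    ← (MulAction.stabilizer (ConjAct G) c).index_mul_card, MulAction.index_stabilizer]
  congr 1
  rw [← Nat.card_coe_set_eq]
  refine Nat.card_congr (Equiv.subtypeEquivRight fun y => ?_)
  rw [ConjAct.mem_orbit_conjAct, isConj_comm]

theorem card_isConj_eq_index (c : G) [Finite G] :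
    Nat.card {y : G // IsConj c y} = (Subgroup.centralizer ({c} : Set G)).index := by
  have h1 := card_isConj_mul_card_centralizer c
  have h2 := (Subgroup.centralizer ({c} : Set G)).index_mul_card
  exact Nat.eq_of_mul_eq_mul_right Nat.card_pos (h1.trans h2.symm)

/-- Counting through an equivariant map: if `f` commutes with conjugation then the preimage of
the class of `c` has (class size) times (fibre size) elements. -/
theorem card_preimage_isConj [Finite G] (f : G → G) (hf : ∀ g x : G, f (g * x * g⁻¹) = g * f x * g⁻¹)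
    (c : G) : Nat.card {x : G // IsConj c (f x)} =
      Nat.card {y : G // IsConj c y} * Nat.card {x : G // f x = c} := by
  classical
  have e : {x : G // IsConj c (f x)} ≃ Σ y : {y : G // IsConj c y}, {x : G // f x = y} :=
    { toFun := fun x => ⟨⟨f x, x.2⟩, ⟨x, rfl⟩⟩
      invFun := fun z => ⟨z.2.1, by rw [z.2.2]; exact z.1.2⟩
      left_inv := fun x => rfl
      right_inv := by
        rintro ⟨⟨y, hy⟩, ⟨x, hx⟩⟩
        dsimp only at hx
        subst hx
        rfl }
  have : Fintype {y : G // IsConj c y} := Fintype.ofFinite _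
  rw [Nat.card_congr e, Nat.card_sigma, Nat.card_eq_fintype_card (α := {y : G // IsConj c y}),
    ← smul_eq_mul, ← Finset.card_univ, ← Finset.sum_const]
  refine Finset.sum_congr rfl fun y _ => ?_
  obtain ⟨y, hy⟩ := y
  obtain ⟨g, rfl⟩ := isConj_iff.mp hy
  refine Nat.card_congr ⟨fun x => ⟨g⁻¹ * x * g⁻¹⁻¹, ?_⟩, fun x => ⟨g * x * g⁻¹, ?_⟩, ?_, ?_⟩
  · rw [hf, x.2]; group
  · rw [hf, x.2]
  · intro x; ext; dsimp only; group
  · intro x; ext; dsimp only; group

end H23
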