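/- Groups with an abelian maximal subgroup; Frobenius groups with a maximal complement. -/
import Cfsg.Agent.Base
import Cfsg.Agent.H3.Frattini
import Cfsg.Agent.H3.FrattiniP
import Cfsg.Agent.H5.FrobThm
import Cfsg.Agent.H1.InvSylow
import Cfsg.Agent.H2.Core

set_option autoImplicit false
open Cfsg

namespace H23

universe u
variable {G : Type u} [Group G]

theorem normalizer_eq_of_isCoatom {A : Subgroup G} (hA : IsCoatom A) (hn : ¬ A.Normal) :
    Subgroup.normalizer (A : Set G) = A := by
  by_contra h
  exact hn (Subgroup.normalizer_eq_top_iff.mp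
    (hA.2 _ (lt_of_le_of_ne Subgroup.le_normalizer (Ne.symm h))))

theorem center_le_of_isCoatom {A : Subgroup G} (hA : IsCoatom A) (hn : ¬ A.Normal) :
    Subgroup.center G ≤ A :=
  (Subgroup.center_le_normalizer _).trans (normalizer_eq_of_isCoatom hA hn).le

/-- If `H` is a maximal subgroup complementing the normal subgroup `K`, then `K` has no proper
nontrivial subgroup normalized by `H`. -/
theorem eq_of_le_normalizer_of_isCoatom {K H U : Subgroup G} [K.Normal] (hH : IsCoatom H)
    (hd : Disjoint K H) (hU : U ≤ K) (hU1 : U ≠ ⊥) (hHU : H ≤ Subgroup.normalizer (U : Set G)) :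
    U = K := by
  have h1 : ¬ U ≤ H := fun h => hU1 (le_bot_iff.mp (hd hU h))
  have h2 : H ⊔ U = ⊤ := hH.2 _ (lt_of_le_of_ne le_sup_left fun h => h1 (h ▸ le_sup_right))
  have hn : U.Normal := by
    rw [← Subgroup.normalizer_eq_top_iff, eq_top_iff, ← h2]
    exact sup_le hHU Subgroup.le_normalizer
  have h3 := H3.dedekind_normal_le (N := U) (B := H) hU
  rw [sup_comm U H, h2, top_inf_eq, hd.symm.eq_bot, sup_bot_eq] at h3
  exact h3.symm

/-- A nontrivial normal subgroup complemented by a solvable maximal subgroup of coprime order is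
an abelian group of prime exponent. -/
theorem elementary_of_isCoatom_complement [Finite G] {K H : Subgroup G} [K.Normal]
    (hH : IsCoatom H) [Group.IsSolvable H] (hK : K ≠ ⊥)
    (hc : (Nat.card H).Coprime (Nat.card K)) :
    IsMulCommutative K ∧ ∃ q : ℕ, q.Prime ∧ ∀ x ∈ K, x ^ q = 1 := by
  have hd : Disjoint K H := Subgroup.disjoint_of_coprime_natCard hc.symm
  obtain ⟨q, hq, hqd⟩ := Nat.exists_prime_and_dvd ((Subgroup.one_lt_card_iff_ne_bot K).mpr hK).ne'
  have : Fact q.Prime := ⟨hq⟩
  obtain ⟨P, hP⟩ := H1.exists_invariant_sylow_subgroup H K Subgroup.le_normalizer_of_normal hc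
    (Or.inl inferInstance) q
  have hP1 : (P : Subgroup K).map K.subtype ≠ ⊥ := by
    rw [Ne, Subgroup.map_eq_bot_iff_of_injective _ K.subtype_injective]
    exact P.ne_bot_of_dvd_card hqd
  have hPK := eq_of_le_normalizer_of_isCoatom hH hd (Subgroup.map_subtype_le _) hP1 hP
  have hKq : IsPGroup q K := hPK ▸ P.isPGroup'.map _
  have : Nontrivial K := (Subgroup.nontrivial_iff_ne_bot K).mpr hK
  obtain ⟨z, hzo⟩ := exists_prime_orderOf_dvd_card' (G := Subgroup.center K) q (by
    have := hKq.center_nontrivial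
    obtain ⟨n, hn, e⟩ := (hKq.to_subgroup (Subgroup.center K)).nontrivial_iff_card.mp this
    rw [e]; exact dvd_pow_self q hn.ne')
  let U : Subgroup G :=
    { carrier := {x | x ∈ K ∧ (∀ y ∈ K, y * x = x * y) ∧ x ^ q = 1}
      one_mem' := ⟨K.one_mem, by simp, one_pow q⟩
      mul_mem' := by
        rintro a b ⟨ha, ha', ha''⟩ ⟨hb, hb', hb''⟩
        refine ⟨K.mul_mem ha hb, fun y hy => by
          rw [← mul_assoc, ha' y hy, mul_assoc, hb' y hy, mul_assoc], ?_⟩
        rw [Commute.mul_pow (hb' a ha), ha'', hb'', one_mul]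
      inv_mem' := by
        rintro a ⟨ha, ha', ha''⟩
        exact ⟨K.inv_mem ha, fun y hy => (Commute.inv_right (ha' y hy)).eq, by
          rw [inv_pow, ha'', inv_one]⟩ }
  have hUn : U.Normal := by
    refine ⟨?_⟩
    rintro x ⟨hx, hx', hx''⟩ g
    refine ⟨Subgroup.Normal.conj_mem inferInstance x hx g, fun y hy => ?_, by
      rw [conj_pow, hx'', mul_one, mul_inv_cancel]⟩
    have := hx' _ (Subgroup.Normal.conj_mem inferInstance y hy g⁻¹)
    calc y * (g * x * g⁻¹) = g * (g⁻¹ * y * g⁻¹⁻¹ * x) * g⁻¹ := by group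
      _ = g * x * g⁻¹ * y := by rw [this]; group
  have hU1 : U ≠ ⊥ := by
    intro h
    have hz : (((z : K) : G)) ∈ U := ⟨(z : K).2, fun y hy =>
      congrArg Subtype.val (Subgroup.mem_center_iff.mp z.2 ⟨y, hy⟩), by
        rw [← hzo, ← Subgroup.orderOf_coe, ← Subgroup.orderOf_coe, pow_orderOf_eq_one]⟩
    rw [h, Subgroup.mem_bot] at hz
    have : z = 1 := Subtype.ext (Subtype.ext hz)
    rw [this, orderOf_one] at hzo
    exact hq.one_lt.ne hzo
  have hUK := eq_of_le_normalizer_of_isCoatom (U := U) hH hd (fun x hx => hx.1) hU1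
    Subgroup.le_normalizer_of_normal
  refine ⟨⟨⟨fun a b => Subtype.ext ?_⟩⟩, q, hq, fun x hx => (hUK.ge hx).2.2⟩
  exact (hUK.ge b.2).2.1 a a.2

/-- A non-normal abelian maximal subgroup is a Frobenius complement modulo the centre. -/
theorem isFrobeniusComplement_of_abelian_isCoatom [Finite G] {A : Subgroup G} (hA : IsCoatom A)
    [IsMulCommutative A] (hn : ¬ A.Normal) :
    IsFrobeniusComplement (A.map (QuotientGroup.mk' (Subgroup.center G))) := by
  have hZ := center_le_of_isCoatom hA hn
  have hmem : ∀ x : G, (QuotientGroup.mk' (Subgroup.center G) x) ∈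
      A.map (QuotientGroup.mk' (Subgroup.center G)) ↔ x ∈ A := by
    intro x
    rw [← Subgroup.mem_comap, Subgroup.comap_map_eq_self (by rwa [QuotientGroup.ker_mk'])]
  rw [H5.isFrobeniusComplement_iff]
  refine ⟨fun h => hn ?_, (H3.isCoatom_map_of_surjective_of_ker_le _
    (QuotientGroup.mk'_surjective _) hA (by rwa [QuotientGroup.ker_mk'])).1, ?_⟩
  · rw [Subgroup.map_eq_bot_iff, QuotientGroup.ker_mk'] at h
    rw [le_antisymm h hZ]
    infer_instance
  · intro g x hx hx1 hgx
    obtain ⟨g, rfl⟩ := QuotientGroup.mk'_surjective _ g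
    obtain ⟨x, rfl⟩ := QuotientGroup.mk'_surjective _ x
    rw [← map_inv, ← map_mul, ← map_mul, hmem] at hgx
    rw [hmem] at hx ⊢
    have hC : Subgroup.centralizer ({x} : Set G) ≠ ⊤ := by
      intro h
      apply hx1
      rw [QuotientGroup.mk'_apply, QuotientGroup.eq_one_iff, Subgroup.mem_center_iff]
      intro y
      exact Subgroup.mem_centralizer_singleton_iff.mp (h ▸ Subgroup.mem_top y)
    have hAC : A ≤ Subgroup.centralizer ({x} : Set G) := fun a ha =>
      Subgroup.mem_centralizer_singleton_iff.mpr (setLike_mul_comm (s := A) ha hx)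
    have hAC' : Subgroup.centralizer ({x} : Set G) = A := by
      by_contra h
      exact hC (hA.2 _ (lt_of_le_of_ne hAC (Ne.symm h)))
    rw [← normalizer_eq_of_isCoatom hA hn, ← Subgroup.inv_mem_iff]
    refine Subgroup.mem_normalizer_fintype fun a ha => ?_
    rw [← hAC', SetLike.mem_coe, Subgroup.mem_centralizer_singleton_iff]
    have := setLike_mul_comm (s := A) ha hgx
    calc g⁻¹ * a * g⁻¹⁻¹ * x = g⁻¹ * (a * (g * x * g⁻¹)) * g := by group
      _ = x * (g⁻¹ * a * g⁻¹⁻¹) := by rw [this]; group

/-- The kernel of a Frobenius group whose complement is a solvable maximal subgroup is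
elementary abelian. -/
theorem frobKer_elementary_of_isCoatom [Finite G] {H : Subgroup G} (hF : IsFrobeniusComplement H)
    (hH : IsCoatom H) [Group.IsSolvable H] :
    IsMulCommutative (H5.frobKer hF) ∧ ∃ q : ℕ, q.Prime ∧ ∀ x ∈ H5.frobKer hF, x ^ q = 1 :=
  elementary_of_isCoatom_complement hH (H5.frobKer_ne_bot hF) (by
    rw [H5.card_frobKer]
    exact H5.frob_coprime ((H5.isFrobeniusComplement_iff H).1 hF).2.2)

theorem commutator_le_of_isComplement'_comm {K H : Subgroup G} [K.Normal] [IsMulCommutative H]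
    (h : K.IsComplement' H) : commutator G ≤ K := by
  rw [commutator_def, Subgroup.commutator_le]
  intro a _ b _
  obtain ⟨⟨k, x⟩, rfl, -⟩ := h.existsUnique a
  obtain ⟨⟨l, y⟩, rfl, -⟩ := h.existsUnique b
  rw [← QuotientGroup.eq_one_iff, ← QuotientGroup.mk'_apply, map_commutatorElement, map_mul,
    map_mul, commutatorElement_eq_one_iff_mul_comm]
  simp only [QuotientGroup.mk'_apply]
  rw [(QuotientGroup.eq_one_iff (k : G)).mpr k.2, (QuotientGroup.eq_one_iff (l : G)).mpr l.2,
    one_mul, one_mul, ← QuotientGroup.mk_mul, ← QuotientGroup.mk_mul,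
    setLike_mul_comm (s := H) x.2 y.2]

theorem commutator_le_of_index_prime (A : Subgroup G) [A.Normal] (h : A.index.Prime) :
    commutator G ≤ A := by
  have : Fact A.index.Prime := ⟨h⟩
  have hc : IsCyclic (G ⧸ A) := isCyclic_of_prime_card (p := A.index) rfl
  rw [commutator_def, Subgroup.commutator_le]
  intro a _ b _
  rw [← QuotientGroup.eq_one_iff, ← QuotientGroup.mk'_apply, map_commutatorElement,
    commutatorElement_eq_one_iff_mul_comm]
  exact hc.isMulCommutative.is_comm.comm _ _

theorem commutator_eq_bot_of_le_comm {A B C : Subgroup G} [IsMulCommutative A] (hB : B ≤ A)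
    (hC : C ≤ A) : ⁅B, C⁆ = ⊥ := by
  rw [eq_bot_iff, Subgroup.commutator_le]
  intro a ha b hb
  rw [Subgroup.mem_bot, commutatorElement_eq_one_iff_mul_comm]
  exact setLike_mul_comm (s := A) (hB ha) (hC hb)

/-- A finite group with an abelian maximal subgroup has derived length at most three. -/
theorem derivedSeries_three_eq_bot_of_abelian_isCoatom [Finite G] (A : Subgroup G)
    (hA : IsCoatom A) [IsMulCommutative A] : derivedSeries G 3 = ⊥ := by
  by_cases hn : A.Normal
  · have h1 := commutator_le_of_index_prime A (H3.index_prime_of_isCoatom_normal hA)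
    have h2 : derivedSeries G 2 = ⊥ := commutator_eq_bot_of_le_comm h1 h1
    rw [derivedSeries_succ, h2]
    simp
  · have hF := isFrobeniusComplement_of_abelian_isCoatom hA hn
    have hmax := H3.isCoatom_map_of_surjective_of_ker_le _
      (QuotientGroup.mk'_surjective (Subgroup.center G)) hA (by
        rw [QuotientGroup.ker_mk']; exact center_le_of_isCoatom hA hn)
    have : Group.IsSolvable (A.map (QuotientGroup.mk' (Subgroup.center G))) :=
      Group.isSolvable_of_comm fun a b => mul_comm' a b
    obtain ⟨hK, -⟩ := frobKer_elementary_of_isCoatom hF hmax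
    have h1 := commutator_le_of_isComplement'_comm (H5.frobKer_isComplement' hF)
    have h2 : derivedSeries (G ⧸ Subgroup.center G) 2 = ⊥ := commutator_eq_bot_of_le_comm h1 h1
    rw [← map_derivedSeries_eq (QuotientGroup.mk'_surjective _), Subgroup.map_eq_bot_iff,
      QuotientGroup.ker_mk'] at h2
    exact commutator_eq_bot_of_le_comm h2 h2

/-- A finite group with an abelian maximal subgroup is solvable. -/
theorem isSolvable_of_abelian_isCoatom [Finite G] (A : Subgroup G)
    (hA : IsCoatom A) [IsMulCommutative A] : Group.IsSolvable G :=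
  ⟨3, derivedSeries_three_eq_bot_of_abelian_isCoatom A hA⟩

end H23
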