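/- Jordan's covering lemma and elementary facts on conjugacy class sizes. -/
import Cfsg.Agent.H46.Coprime

set_option autoImplicit false

namespace H23
open Cfsg hiding pRank
open H46 Subgroup

variable {G : Type*} [Group G] [Finite G] {H P : Subgroup G} {p : ℕ}

/-- a finite group is not the union of the conjugates of a proper subgroup. -/
theorem eq_top_of_forall_conj_mem (h : ∀ g : G, ∃ x : G, x⁻¹ * g * x ∈ H) : H = ⊤ := by
  let f : (G ⧸ H) × H → G := fun z => z.1.out * z.2 * z.1.out⁻¹
  have hf : Function.Surjective f := fun g => by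
    obtain ⟨x, hx⟩ := h g
    obtain ⟨k, hk⟩ := QuotientGroup.mk_out_eq_mul H x
    refine ⟨⟨x, ⟨(k : G)⁻¹ * (x⁻¹ * g * x) * k, mul_mem (mul_mem (inv_mem k.2) hx) k.2⟩⟩, ?_⟩
    simp only [f, hk]
    group
  have hi := (hf.bijective_of_nat_card_le
    (by rw [Nat.card_prod, card_eq_card_quotient_mul_card_subgroup H])).1
  refine eq_top_iff.2 fun g _ => ?_
  have : ((g : G ⧸ H), (1 : H)) = (((1 : G) : G ⧸ H), 1) := hi (by simp [f])
  simpa using QuotientGroup.eq.1 (congrArg Prod.fst this).symm

/-- if `p` divides no conjugacy class size, then every `p`-subgroup is central. -/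
theorem le_center_of_not_dvd_index (hp : p.Prime) (h : ∀ g : G, ¬ p ∣ (Cent1 g).index)
    (hP : IsPGroup p P) : P ≤ center G := by
  have : Cent P = ⊤ := eq_top_of_forall_conj_mem fun g => by
    obtain ⟨S, hS⟩ := exists_sylow hp (Cent1 g)
    have hS' : IsSylowOf p S ⊤ := hS.trans_idx le_top
      ((pnat_compl_singleton hp).2 (by rw [relIndex_top_right]; exact h g))
    obtain ⟨x, -, hx⟩ := sylow_cj_le hp hS' hP le_top
    have := le_cent1_iff.1 (hx.trans hS.le)
    rw [← cj_cent] at this
    exact ⟨x, mem_cj.1 this⟩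
  exact fun y hy => mem_center_iff.2 fun g => (mem_cent.1 (this ▸ mem_top g) y hy).symm

omit [Finite G] in
theorem cent1_mul_of_coprime {x y : G} (h : Commute x y) (hc : (orderOf x).Coprime (orderOf y)) :
    Cent1 (x * y) ≤ Cent1 x := fun g hg => by
  by_cases h0 : orderOf y = 0
  · rw [h0, Nat.coprime_zero_right, orderOf_eq_one_iff] at hc
    simp [hc]
  have h1 : x ^ orderOf y ∈ zpowers (x * y) :=
    ⟨orderOf y, by simp [h.mul_pow]⟩
  have h2 : x ∈ zpowers (x * y) :=
    zpowers_le.2 h1 ((mem_zpowers_pow_iff.2 hc.symm))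
  rw [← cent_zpowers] at hg
  exact mem_cent1.2 (mem_cent.1 hg x h2).symm

end H23
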