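/- S3275, chapter U0, section B, slot G33: generation of `L₃(3)` by normalisers of `3²`. -/
import Cfsg.Agent.H92.DP0BSpec
import Cfsg.Agent.H57.Hyper2

set_option autoImplicit false

namespace H23.DP0G33

open Subgroup Cfsg H98 H48.DP H57.DPC H48.DP2 H92.DPB Matrix

universe u

abbrev SS := Matrix.SpecialLinearGroup (Fin 3) (ZMod 3)

/-- elementary matrices -/
abbrev tv {i j : Fin 3} (h : i ≠ j) (c : ZMod 3) : SS := Matrix.SpecialLinearGroup.transvection h c

theorem nor_of {G : Type*} [Group G] [Finite G] {x z g : G} (hx : ∃ i j : Fin 3, g * x = x ^ i.1 * z ^ j.1 * g)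
    (hz : ∃ i j : Fin 3, g * z = x ^ i.1 * z ^ j.1 * g) : g ∈ No (zpowers x ⊔ zpowers z) := by
  have key : ∀ y : G, (∃ i j : Fin 3, g * y = x ^ i.1 * z ^ j.1 * g) →
      cj g (zpowers y) ≤ zpowers x ⊔ zpowers z := by
    rintro y ⟨i, j, h⟩
    rw [cj, MonoidHom.map_zpowers, zpowers_le]
    show g * y * g⁻¹ ∈ _
    rw [h, mul_inv_cancel_right]
    exact mul_mem (mem_sup_left (pow_mem (mem_zpowers x) _)) (mem_sup_right (pow_mem (mem_zpowers z) _))
  have h : cj g (zpowers x ⊔ zpowers z) ≤ zpowers x ⊔ zpowers z := by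
    rw [cj, Subgroup.map_sup]
    exact sup_le (key x hx) (key z hz)
  exact mem_normalizer_fintype fun n hn => h ⟨n, hn, rfl⟩

theorem h01 : (0 : Fin 3) ≠ 1 := by decide
theorem h02 : (0 : Fin 3) ≠ 2 := by decide
theorem h12 : (1 : Fin 3) ≠ 2 := by decide

abbrev ea : SS := tv h01 1
abbrev eb : SS := tv h12 1
abbrev ec : SS := tv h02 1

theorem ord {x : SS} (h : x ^ 3 = 1 ∧ x ≠ 1) : orderOf x = 3 :=
  haveI : Fact (Nat.Prime 3) := ⟨Nat.prime_three⟩
  orderOf_eq_prime h.1 h.2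

theorem oa : orderOf ea = 3 := ord (by decide +kernel)
theorem ob : orderOf eb = 3 := ord (by decide +kernel)
theorem oc : orderOf ec = 3 := ord (by decide +kernel)

theorem nz {x : SS} (h : ∀ i : Fin 3, x ≠ ec ^ i.1) : x ∉ zpowers ec := by
  intro hx
  rw [mem_zpowers_iff_mem_range_orderOf, oc, Finset.mem_image] at hx
  obtain ⟨i, hi, e⟩ := hx
  exact h ⟨i, Finset.mem_range.1 hi⟩ e.symm

theorem e1 : IsElementaryAbelian 3 (zpowers ea ⊔ zpowers ec) ∧ Nat.card ↥(zpowers ea ⊔ zpowers ec) = 9 :=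
  e9 oa oc (show ea * ec = ec * ea by decide +kernel) (nz (by decide +kernel))

theorem e2 : IsElementaryAbelian 3 (zpowers eb ⊔ zpowers ec) ∧ Nat.card ↥(zpowers eb ⊔ zpowers ec) = 9 :=
  e9 ob oc (show eb * ec = ec * eb by decide +kernel) (nz (by decide +kernel))

theorem n1 (c : ZMod 3) : tv h12 c ∈ No (zpowers ea ⊔ zpowers ec) ∧ tv h12.symm c ∈ No (zpowers ea ⊔ zpowers ec) :=
  ⟨nor_of (by revert c; decide +kernel) (by revert c; decide +kernel),
    nor_of (by revert c; decide +kernel) (by revert c; decide +kernel)⟩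

theorem n2 (c : ZMod 3) : tv h01 c ∈ No (zpowers eb ⊔ zpowers ec) ∧ tv h01.symm c ∈ No (zpowers eb ⊔ zpowers ec) :=
  ⟨nor_of (by revert c; decide +kernel) (by revert c; decide +kernel),
    nor_of (by revert c; decide +kernel) (by revert c; decide +kernel)⟩

theorem gen {T : Subgroup SS} (h1 : No (zpowers ea ⊔ zpowers ec) ≤ T) (h2 : No (zpowers eb ⊔ zpowers ec) ≤ T) :
    T = ⊤ := by
  refine H57.sl_eq_top_of_adj fun k l hkl e c => ?_
  have : (k = 0 ∧ l = 1) ∨ (k = 1 ∧ l = 2) := by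
    revert e
    revert k l
    decide
  rcases this with ⟨rfl, rfl⟩ | ⟨rfl, rfl⟩
  · exact ⟨h2 (n2 c).1, h2 (n2 c).2⟩
  · exact ⟨h1 (n1 c).1, h1 (n1 c).2⟩

theorem pgD : IsPGroup 3 ↥((zpowers ea ⊔ zpowers ec) ⊔ zpowers eb) :=
  haveI : Fact (Nat.Prime 3) := ⟨Nat.prime_three⟩
  (el_pg e1.1).to_sup_of_normal_left' (el_pg (el_zp (show eb ^ 3 = 1 by decide +kernel))) (zpowers_le.2 (n1 1).1)

theorem cen_bot : center SS = ⊥ := by
  rw [eq_bot_iff]
  intro A hA
  obtain ⟨r, hr, e⟩ := Matrix.SpecialLinearGroup.mem_center_iff.1 hA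
  have h1 : r = 1 := by
    revert hr
    generalize r = s
    revert s
    decide
  rw [h1, map_one] at e
  exact mem_bot.2 (Subtype.ext e.symm)

theorem el_map {G L : Type*} [Group G] [Group L] (f : G →* L) {A : Subgroup G} (h : IsElementaryAbelian 3 A) :
    IsElementaryAbelian 3 (A.map f) :=
  ⟨⟨⟨by
    rintro ⟨_, a, ha, rfl⟩ ⟨_, b, hb, rfl⟩
    refine Subtype.ext ?_
    show f a * f b = f b * f a
    rw [← map_mul, ← map_mul]
    exact congrArg f (congrArg Subtype.val (h.1.1.1 ⟨a, ha⟩ ⟨b, hb⟩))⟩⟩, by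
    rintro _ ⟨a, ha, rfl⟩
    rw [← map_pow, h.2 a ha, map_one]⟩

theorem jobG33 : JobG33.{u} := by
  rintro L _ _ ⟨e⟩ S T hT
  have : Fact (Nat.Prime 3) := ⟨Nat.prime_three⟩
  let f0 : SS →* L := e.symm.toMonoidHom.comp (QuotientGroup.mk' (center SS))
  have i0 : Function.Injective f0 := e.symm.injective.comp (by
    show Function.Injective (QuotientGroup.mk' (center SS))
    rw [← MonoidHom.ker_eq_bot_iff, QuotientGroup.ker_mk', cen_bot])
  have s0 : Function.Surjective f0 := e.symm.surjective.comp (QuotientGroup.mk'_surjective _)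
  obtain ⟨S', hS'⟩ := (pgD.map f0).exists_le_sylow
  obtain ⟨g, hg⟩ := MulAction.exists_smul_eq L S' S
  let f : SS →* L := (MulAut.conj g).toMonoidHom.comp f0
  have i1 : Function.Injective f := (MulAut.conj g).injective.comp i0
  have s1 : Function.Surjective f := (MulAut.conj g).surjective.comp s0
  have hD : ∀ A : Subgroup SS, A ≤ (zpowers ea ⊔ zpowers ec) ⊔ zpowers eb → A.map f ≤ (S : Subgroup L) := by
    rintro A hA _ ⟨a, ha, rfl⟩
    rw [← hg]
    exact ⟨f0 a, hS' ⟨a, hA ha, rfl⟩, rfl⟩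
  have key : ∀ A : Subgroup SS, A ≤ (zpowers ea ⊔ zpowers ec) ⊔ zpowers eb → IsElementaryAbelian 3 A →
      Nat.card A = 9 → No A ≤ T.comap f := fun A hA h1 h2 x hx =>
    hT _ (hD A hA) (el_map f h1) (by rw [card_map_of_injective i1, h2]) (le_normalizer_map f ⟨x, hx, rfl⟩)
  have h := gen (key _ le_sup_left e1.1 e1.2)
    (key _ (sup_le le_sup_right (le_sup_right.trans le_sup_left)) e2.1 e2.2)
  rw [eq_top_iff]
  intro y _
  obtain ⟨x, rfl⟩ := s1 y
  exact (h ▸ mem_top x : x ∈ T.comap f)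

end H23.DP0G33
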