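import Cfsg.Agent.H90.Free

/-! Frobenius complements: direct products, kernels under quaternion groups. -/

set_option autoImplicit false
open Cfsg H90

namespace H23.Fl

theorem pos_of_irr {G : Type*} [Group G] {k : ℕ} (τ : Representation ℚ G (Fin k → ℚ))
    (i : τ.IsIrreducible) : 0 < k := Nat.pos_of_ne_zero fun e => by
  subst e
  exact (bot_ne_top (α := Subrepresentation τ)) (Subrepresentation.toSubmodule_injective
    (Subsingleton.elim _ _))

theorem free_prod {A B : Type*} [Group A] [Finite A] [Group B] [Finite B] (hA : Free A) (hB : Free B)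
    (h : (Nat.card A).Coprime (Nat.card B)) : Free (A × B) := by
  obtain ⟨n, ρ, i1, h1⟩ := hA.exists_rep ℚ
  obtain ⟨m, σ, i2, h2⟩ := hB.exists_rep ℚ
  have : Nontrivial (TensorProduct ℚ (Fin n → ℚ) (Fin m → ℚ)) :=
    (Module.finrank_pos_iff (R := ℚ)).1 (by simp [pos_of_irr ρ i1, pos_of_irr σ i2])
  let τ := Representation.tprod (ρ.comp (MonoidHom.fst A B)) (σ.comp (MonoidHom.snd A B))
  have inj : ∀ {V : Type} [AddCommGroup V] [Module ℚ V] (f : V →ₗ[ℚ] V), (∀ v, f v = v → v = 0) →
      Function.Injective (f - LinearMap.id : V →ₗ[ℚ] V) := fun f a =>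
    (injective_iff_map_eq_zero _).2 fun v e => a v (sub_eq_zero.1 e)
  refine Free.of_rep τ fun g hg v hv => ?_
  have pw : ∀ k : ℕ, τ (g ^ k) v = v := fun k => by
    induction k with
    | zero => simp
    | succ k ih => rw [pow_succ, map_mul, Module.End.mul_apply, hv, ih]
  obtain ⟨a, b⟩ := g
  by_cases e : a = 1
  · subst e
    have := Module.Flat.lTensor_preserves_injective_linearMap (M := Fin n → ℚ) _
      (inj (σ b) (h2 b fun e => hg (by rw [e]; rfl)))
    refine this (a₂ := 0) ?_
    rw [LinearMap.lTensor_sub, LinearMap.lTensor_id, map_zero, LinearMap.sub_apply, sub_eq_zero]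
    simpa [τ, Representation.tprod_apply, LinearMap.lTensor, Module.End.one_eq_id] using hv
  · have k : a ^ Nat.card B ≠ 1 := fun k => e (orderOf_eq_one_iff.1 (Nat.eq_one_of_dvd_coprimes h
      (orderOf_dvd_natCard a) (orderOf_dvd_of_pow_eq_one k)))
    have := Module.Flat.rTensor_preserves_injective_linearMap (M := Fin m → ℚ) _ (inj (ρ _) (h1 _ k))
    refine this (a₂ := 0) ?_
    rw [LinearMap.rTensor_sub, LinearMap.rTensor_id, map_zero, LinearMap.sub_apply, sub_eq_zero]
    simpa [τ, Representation.tprod_apply, LinearMap.rTensor, Module.End.one_eq_id] using pw (Nat.card B)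

theorem coprime_of_free {A B : Type*} [Group A] [Finite A] [Group B] [Finite B] (h : Free (A × B)) :
    (Nat.card A).Coprime (Nat.card B) := Nat.coprime_of_dvd fun p hp ha hb => by
  have := Fact.mk hp
  obtain ⟨a, ea⟩ := exists_prime_orderOf_dvd_card' p ha
  obtain ⟨b, eb⟩ := exists_prime_orderOf_dvd_card' p hb
  obtain ⟨k, hk⟩ := h.mem_zpowers_of_commute (x := (a, 1)) (y := (1, b)) (by simp)
    (by simp [Prod.orderOf, ea, eb])
  have : b = 1 := by simpa using (congrArg Prod.snd hk).symm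
  rw [this, orderOf_one] at eb
  exact hp.one_lt.ne eb

theorem even_finrank {K V : Type*} [Field K] [AddCommGroup V] [Module K V] [FiniteDimensional K V]
    (h2 : (2 : K) ≠ 0) (i j : V →ₗ[K] V) (hi : Function.Injective i) (hj : Function.Injective j)
    (h : ∀ v, i (j v) = -j (i v)) : Even (Module.finrank K V) := by
  have e : i ∘ₗ j = (-1 : K) • (j ∘ₗ i) := LinearMap.ext fun v => by simp [h]
  have d := congrArg LinearMap.det e
  have ne : ∀ f : V →ₗ[K] V, Function.Injective f → LinearMap.det f ≠ 0 := fun f a =>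
    ((LinearMap.isUnit_iff_ker_eq_bot f).2 (LinearMap.ker_eq_bot.2 a)).map LinearMap.det |>.ne_zero
  rw [LinearMap.det_smul, LinearMap.det_comp, LinearMap.det_comp, mul_comm (LinearMap.det i),
    eq_comm, mul_eq_right₀ (mul_ne_zero (ne j hj) (ne i hi))] at d
  exact (neg_one_pow_eq_one_iff_even fun a => h2 (by linear_combination -a)).1 d

theorem sq_elem {p : ℕ} (hp : p.Prime) (h2 : p ≠ 2) {V : Type*} [AddCommGroup V] [Finite V]
    [Module (ZMod p) V] (i j : V →+ V) (hi : Function.Injective i) (hj : Function.Injective j)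
    (h : ∀ v, i (j v) = -j (i v)) : IsSquare (Nat.card V) := by
  have := Fact.mk hp
  obtain ⟨m, hm⟩ := even_finrank (K := ZMod p) (V := V) (fun e => h2 ((Nat.prime_dvd_prime_iff_eq hp
    Nat.prime_two).1 ((ZMod.natCast_eq_zero_iff 2 p).1 (by exact_mod_cast e))))
    (i.toZModLinearMap p) (j.toZModLinearMap p) hi hj h
  rw [Module.natCard_eq_pow_finrank (K := ZMod p), hm, pow_add]
  exact ⟨_, rfl⟩

universe u
theorem sq_card (n : ℕ) : ∀ (K : Type u) [AddCommGroup K] [Finite K], Nat.card K = n → Odd n →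
    ∀ i j : K →+ K, Function.Injective i → Function.Injective j → (∀ v, i (j v) = -j (i v)) →
      IsSquare n := by
  induction n using Nat.strong_induction_on with | _ n ih =>
  intro K _ _ hn ho i j hi hj h
  rcases eq_or_ne n 1 with rfl | h1
  · exact IsSquare.one
  obtain ⟨p, hp, hd⟩ := Nat.exists_prime_and_dvd h1
  have := Fact.mk hp
  let f : K →+ K := nsmulAddMonoidHom p
  have res : ∀ (S : AddSubgroup K) (i : K →+ K), (∀ x ∈ S, i x ∈ S) → Function.Injective i →
      ∃ i' : S →+ S, Function.Injective i' ∧ ∀ x, (i' x : K) = i x := fun S i a b =>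
    ⟨(i.comp S.subtype).codRestrict S fun x => a x x.2,
      fun x y e => Subtype.ext (b (congrArg Subtype.val e)), fun _ => rfl⟩
  have k1 : ∀ i : K →+ K, ∀ x ∈ f.ker, i x ∈ f.ker := fun i x a => by
    rw [AddMonoidHom.mem_ker] at a ⊢
    exact (map_nsmul i p x).symm.trans (by rw [show p • x = 0 from a, map_zero])
  have k2 : ∀ i : K →+ K, ∀ x ∈ f.range, i x ∈ f.range := by
    rintro i _ ⟨x, rfl⟩; exact ⟨i x, (map_nsmul i p x).symm⟩
  have c := AddSubgroup.card_eq_card_quotient_mul_card_addSubgroup f.ker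
  rw [Nat.card_congr (QuotientAddGroup.quotientKerEquivRange f).toEquiv, hn] at c
  have o := Nat.odd_mul.1 (c ▸ ho)
  obtain ⟨x, hx⟩ := exists_prime_addOrderOf_dvd_card' (G := K) p (hn ▸ hd)
  have nt : 1 < Nat.card f.ker := Finite.one_lt_card_iff_nontrivial.2 ⟨⟨⟨x,
    show p • x = 0 from hx ▸ addOrderOf_nsmul_eq_zero x⟩, 0, fun e => by
      rw [show x = 0 from congrArg Subtype.val e, addOrderOf_zero] at hx
      exact hp.one_lt.ne hx⟩⟩
  obtain ⟨i1, a1, b1⟩ := res _ i (k1 i) hi
  obtain ⟨j1, a2, b2⟩ := res _ j (k1 j) hj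
  obtain ⟨i2, a3, b3⟩ := res _ i (k2 i) hi
  obtain ⟨j2, a4, b4⟩ := res _ j (k2 j) hj
  rw [c]
  refine (ih _ (by have := o.1.pos; nlinarith) f.range rfl o.1 i2 j2 a3 a4 fun v =>
    Subtype.ext (by simp [b3, b4, h])).mul ?_
  let _ : Module (ZMod p) f.ker := AddCommGroup.zmodModule fun x => Subtype.ext x.2
  exact sq_elem hp (fun e => ho.not_two_dvd_nat (e ▸ hd)) i1 j1 a1 a2
    fun v => Subtype.ext (by simp [b1, b2, h])

theorem odd_sq_of_fpf {G K : Type*} [Group G] [Group K] [Finite K] (φ : G →* MulAut K) {x y z : G}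
    (hz : ∀ k, φ z k = k → k = 1) (h2 : z * z = 1) (h : x * y = z * (y * x)) :
    Odd (Nat.card K) ∧ IsSquare (Nat.card K) := by
  have f : MonoidHom.FixedPointFree (φ z) := fun k => hz k
  have i : Function.Involutive (φ z) := fun k => by
    rw [← MulAut.mul_apply, ← map_mul, h2, map_one]; rfl
  have o := f.odd_card_of_involutive i
  refine ⟨o, ?_⟩
  let _ := f.commGroupOfInvolutive i
  refine sq_card _ (Additive K) rfl o (MonoidHom.toAdditive (φ x).toMonoidHom)
    (MonoidHom.toAdditive (φ y).toMonoidHom) (φ x).injective (φ y).injective fun v => ?_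
  change φ x (φ y v.toMul) = (φ y (φ x v.toMul))⁻¹
  rw [← MulAut.mul_apply, ← map_mul, h, map_mul, MulAut.mul_apply, map_mul, MulAut.mul_apply,
    f.coe_eq_inv_of_involutive i]

theorem odd_sq_of_quat {L : Type*} [Group L] [Finite L] {H : Subgroup L} (hF : IsFrobeniusComplement H)
    {n : ℕ} (hn : 1 ≤ n) (f : QuaternionGroup (2 ^ n) →* H) (hf : Function.Injective f) :
    Odd (Nat.card (frobeniusKernel H)) ∧ IsSquare (Nat.card (frobeniusKernel H)) := by
  obtain ⟨n, rfl⟩ := Nat.exists_eq_add_of_le' hn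
  have z : ((2 ^ (n + 1) : ℕ) : ZMod (2 * 2 ^ (n + 1))) + (2 ^ (n + 1) : ℕ) = 0 := by
    rw [← Nat.cast_add, ← two_mul, ZMod.natCast_self]
  refine odd_sq_of_fpf (K := H5.frobKer hF) ((MulAut.conjNormal.comp H.subtype).comp f)
    (x := .a (2 ^ n : ℕ)) (y := .xa 0) (z := .a (2 ^ (n + 1) : ℕ)) (fun k e => Subtype.ext ?_)
    (by rw [QuaternionGroup.a_mul_a, z]; rfl) ?_
  · refine H5.frob_eq_one_of_commute hF (f (.a (2 ^ (n + 1) : ℕ))).2 (fun a => ?_) k.2
      (mul_inv_eq_iff_eq_mul.1 (congrArg Subtype.val e))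
    have := hf ((Subtype.ext a).trans (map_one f).symm)
    rw [QuaternionGroup.one_def, QuaternionGroup.a.injEq, ZMod.natCast_eq_zero_iff] at this
    have := Nat.le_of_dvd (by positivity) this
    have : 0 < 2 ^ (n + 1) := by positivity
    omega
  · simp only [QuaternionGroup.a_mul_xa, QuaternionGroup.xa_mul_a, pow_succ]
    congr 1; push_cast; ring

/-- a homomorphism from the quaternion group -/
def quatHom {R : Type*} [Ring R] (I J : R) (h1 : I * I = -1) (h2 : J * J = -1) (h3 : I * J = -(J * I)) :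
    QuaternionGroup 2 →* R where
  toFun q := match q with
    | .a i => I ^ i.val
    | .xa i => J * I ^ i.val
  map_one' := pow_zero I
  map_mul' := by
    have h4 : I ^ (2 * 2) = 1 := by rw [pow_mul, sq I, h1, neg_one_sq]
    have h5 : ∀ i j : ZMod (2 * 2), I ^ (i + j).val = I ^ i.val * I ^ j.val := fun i j => by
      rw [ZMod.val_add, ← pow_eq_pow_mod _ h4, pow_add]
    have h6 : ∀ k : ℕ, I ^ k * J * I ^ k = J := fun k => by
      induction k with
      | zero => simp
      | succ k ih =>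
        nth_rewrite 1 [pow_succ']
        rw [pow_succ, mul_assoc I, mul_assoc I, ← mul_assoc _ _ I, ih, ← mul_assoc, h3,
          neg_mul, mul_assoc, h1, mul_neg_one, neg_neg]
    have h7 : ∀ i j : ZMod (2 * 2), J * I ^ (j - i).val = I ^ i.val * (J * I ^ j.val) := fun i j => by
      conv_rhs => rw [← add_sub_cancel i j, h5, ← mul_assoc J, ← mul_assoc, ← mul_assoc, h6]
    rintro (i | i) (j | j)
    · exact h5 i j
    · exact h7 i j
    · exact (congrArg _ (h5 i j)).trans (mul_assoc _ _ _).symm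
    · show I ^ ((2 : ℕ) + j - i : ZMod (2 * 2)).val = J * I ^ i.val * (J * I ^ j.val)
      rw [mul_assoc, ← h7, ← mul_assoc, h2, add_sub_assoc, h5, ← h1]
      exact congrArg (· * _) (sq I)

theorem quat_sq (q : QuaternionGroup 2) : q = 1 ∨ q = .a 2 ∨ q * q = .a 2 := by revert q; decide

theorem exists_quat (k : ℕ) (hk : Odd k) : ∃ (K : Type) (_ : Group K) (_ : Finite K)
    (φ : QuaternionGroup 2 →* MulAut K), Nat.card K = k * k ∧ ∀ q, q ≠ 1 → ∀ x, φ q x = x → x = 1 := by
  induction k using induction_on_primes with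
  | zero => simp at hk
  | one => exact ⟨PUnit, inferInstance, inferInstance, 1, by simp, fun _ _ _ _ => rfl⟩
  | prime_mul p k hp ih =>
    obtain ⟨K, _, _, φ, c, h⟩ := ih (Nat.odd_mul.1 hk).2
    have := Fact.mk hp
    obtain ⟨a, b, e⟩ := ZMod.sq_add_sq p (-1)
    let f := quatHom (R := Matrix (Fin 2) (Fin 2) (ZMod p)) !![0, -1; 1, 0] !![a, b; b, -a]
      (by ext i j; fin_cases i <;> fin_cases j <;> simp)
      (by ext i j; fin_cases i <;> fin_cases j <;> simp <;> first | ring1 | linear_combination e)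
      (by ext i j; fin_cases i <;> fin_cases j <;> simp)
    let ρ : Representation (ZMod p) (QuaternionGroup 2) (Fin 2 → ZMod p) :=
      (Matrix.toLinAlgEquiv' (R := ZMod p) (n := Fin 2)).toMonoidHom.comp f
    have h2 : ∀ v, ρ (.a 2) v = v → v = 0 := fun v a => by
      have k : f (.a 2) = -1 := by
        show !![(0 : ZMod p), -1; 1, 0] ^ 2 = -1
        ext i j; fin_cases i <;> fin_cases j <;> simp [sq]
      have k2 : (2 : ZMod p) ≠ 0 := fun e => by
        have := (ZMod.natCast_eq_zero_iff 2 p).1 (by exact_mod_cast e)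
        rw [(Nat.prime_dvd_prime_iff_eq hp Nat.prime_two).1 this] at hk
        exact hk.not_two_dvd_nat (dvd_mul_right _ _)
      change (f _).mulVec v = v at a
      rw [k, Matrix.neg_mulVec, Matrix.one_mulVec, neg_eq_iff_add_eq_zero, ← two_smul (ZMod p)] at a
      exact (smul_eq_zero.1 a).resolve_left k2
    let ψ := H26.repMulAut ρ
    refine ⟨K × Multiplicative (Fin 2 → ZMod p), inferInstance, inferInstance,
      ⟨⟨fun q => MulEquiv.prodCongr (φ q) (ψ q), by rw [map_one, map_one]; rfl⟩,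
        fun _ _ => by simp only [map_mul]; rfl⟩,
      by simp [c]; ring, fun q hq x hx => Prod.ext (h q hq _ (congrArg Prod.fst hx)) ?_⟩
    have k : ρ q x.2.toAdd = x.2.toAdd := congrArg (fun y => y.2.toAdd) hx
    rcases quat_sq q with a | rfl | a
    · exact absurd a hq
    · exact h2 _ k
    · exact h2 x.2.toAdd (by rw [← a, map_mul, Module.End.mul_apply, k, k])

end H23.Fl
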