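import Cfsg.Agent.H73.GSSpec

/-! # S3275, chapter C4, part II: the job `S3`. -/

set_option autoImplicit false

namespace H23.GSS3

open Subgroup Cfsg H98 H48.DP H57.DPC H48.DP2 H98.DP0C H73.GS
open scoped commutatorElement

universe u

section kit

variable {G X : Type u} [Group G] [Group X] {H : Subgroup G} (π : H →* X)

theorem bar_sup {A B : Subgroup G} (hA : A ≤ H) (hB : B ≤ H) :
    bar π (A ⊔ B) = bar π A ⊔ bar π B := by
  unfold bar
  rw [Subgroup.subgroupOf_sup hA hB, Subgroup.map_sup]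

theorem bar_zp {s : G} (hs : s ∈ H) : bar π (zpowers s) = zpowers (π ⟨s, hs⟩) := by
  unfold bar
  have : (zpowers s).subgroupOf H = zpowers (⟨s, hs⟩ : H) := by
    apply Subgroup.map_injective H.subtype_injective
    rw [MonoidHom.map_zpowers, Subgroup.subgroupOf_map_subtype,
      inf_eq_left.2 (zpowers_le.2 hs)]
    rfl
  rw [this, MonoidHom.map_zpowers]

theorem bar_mem {A : Subgroup G} {g : G} (hg : g ∈ H) (h : g ∈ A) : π ⟨g, hg⟩ ∈ bar π A :=
  mem_map_of_mem _ (mem_subgroupOf.2 h)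

theorem bar_no {A : Subgroup G} {g : G} (hg : g ∈ H) (h : g ∈ No A) :
    π ⟨g, hg⟩ ∈ No (bar π A) := by
  have h1 : (⟨g, hg⟩ : H) ∈ No (A.subgroupOf H) :=
    Subgroup.le_normalizer_comap H.subtype (mem_comap.2 h)
  exact Subgroup.le_normalizer_map π (mem_map_of_mem _ h1)

theorem bar_p {A : Subgroup G} {p : ℕ} (h : IsPGroup p A) : IsPGroup p (bar π A) :=
  (h.comap_of_injective H.subtype H.subtype_injective).map π

/-- The image of a `Tq` configuration. -/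
theorem tq_bar {Y : Subgroup G} {x s q : G} (h : Tq Y x s q) (hY : Y ≤ H) (hx : x ∈ H)
    (hs : s ∈ H) (hq : q ∈ H) (x1 : π ⟨x, hx⟩ ≠ 1) (act : ¬ bar π Y ≤ C1 (π ⟨x, hx⟩)) :
    Tq (bar π Y) (π ⟨x, hx⟩) (π ⟨s, hs⟩) (π ⟨q, hq⟩) := by
  have e1 : bar π (Y ⊔ zpowers s) = bar π Y ⊔ zpowers (π ⟨s, hs⟩) := by
    rw [bar_sup π hY (zpowers_le.2 hs), bar_zp π hs]
  have e2 : bar π (Y ⊔ zpowers s ⊔ zpowers q) =
      bar π Y ⊔ zpowers (π ⟨s, hs⟩) ⊔ zpowers (π ⟨q, hq⟩) := by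
    rw [bar_sup π (sup_le hY (zpowers_le.2 hs)) (zpowers_le.2 hq), e1, bar_zp π hq]
  haveI : Fact (Nat.Prime 3) := ⟨Nat.prime_three⟩
  refine ⟨orderOf_eq_prime ?_ x1, bar_no π hx h.xY, bar_no π hs h.sY, ?_, ?_, ?_, ?_, ?_, act⟩
  · rw [← map_pow]
    have : (⟨x, hx⟩ : H) ^ 3 = 1 := Subtype.ext (by
      have := pow_orderOf_eq_one x
      rw [h.x3] at this
      simpa using this)
    rw [this, map_one]
  · rw [← map_inv, ← map_mul, ← map_mul, ← map_inv]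
    exact congrArg π (Subtype.ext h.sx)
  · rw [← map_mul]
    exact bar_mem π (mul_mem hs hs) h.s2
  · rw [← e2]
    exact bar_p π h.two
  · rw [← e1]
    exact bar_no π hq h.qT
  · rw [← e1, ← map_mul]
    exact bar_mem π (mul_mem hq hq) h.q2

/-- Pulling back. -/
theorem pull [Finite G] {Y : Subgroup G} {x s q : G} (h : Tq Y x s q) (hY : Y ≤ H)
    (hs : s ∈ H) (hq : q ∈ H) (sn : π ⟨s, hs⟩ ∉ bar π Y) (qn : π ⟨q, hq⟩ ∈ No (bar π Y)) :
    q ∈ No Y := by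
  refine mem_normalizer_fintype fun t ht => ?_
  have h1 : q * t * q⁻¹ ∈ Y ⊔ zpowers s :=
    (mem_normalizer_iff.1 h.qT t).1 (mem_sup_left ht)
  rcases mem_two h.sY h.s2 h1 with h2 | h2
  · exact h2
  · exfalso
    apply sn
    have a : π ⟨q, hq⟩ * π ⟨t, hY ht⟩ * (π ⟨q, hq⟩)⁻¹ ∈ bar π Y :=
      (mem_normalizer_iff.1 qn _).1 (bar_mem π (hY ht) ht)
    have b := bar_mem π (hY h2) h2
    have e : π ⟨q * t * q⁻¹ * s⁻¹, hY h2⟩ =
        π ⟨q, hq⟩ * π ⟨t, hY ht⟩ * (π ⟨q, hq⟩)⁻¹ * (π ⟨s, hs⟩)⁻¹ := by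
      rw [← map_inv, ← map_inv, ← map_mul, ← map_mul, ← map_mul]
      rfl
    rw [e] at b
    have := mul_mem (inv_mem b) a
    simpa [mul_assoc] using this

/-- `[Y, ⟨x⟩] ≤ W` when `Y` normalises `W` and `x ∈ W`. -/
theorem comm_le {Y W : Subgroup G} {x : G} (hY : Y ≤ No W) (hx : x ∈ W) :
    ⁅Y, zpowers x⁆ ≤ W := by
  refine commutator_le.2 fun a ha b hb => ?_
  have hb' : b ∈ W := zpowers_le.2 hx hb
  rw [commutatorElement_def]
  exact mul_mem ((mem_normalizer_iff.1 (hY ha) b).1 hb') (inv_mem hb')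

theorem no_ce {K : Subgroup G} {g : G} (hg : g ∈ No K) : g ∈ No (Ce K) := by
  have key : ∀ {g : G}, g ∈ No K → ∀ c ∈ Ce K, g * c * g⁻¹ ∈ Ce K := fun {g} hg c hc => by
    refine mem_centralizer_iff.2 fun k hk => ?_
    have hk' : g⁻¹ * k * g⁻¹⁻¹ ∈ K := (mem_normalizer_iff.1 (inv_mem hg) k).1 hk
    have := mem_centralizer_iff.1 hc _ hk'
    calc k * (g * c * g⁻¹) = g * ((g⁻¹ * k * g⁻¹⁻¹) * c) * g⁻¹ := by group
      _ = g * (c * (g⁻¹ * k * g⁻¹⁻¹)) * g⁻¹ := by rw [this]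
      _ = g * c * g⁻¹ * k := by group
  refine mem_normalizer_iff.2 fun c => ⟨key hg c, fun hc => ?_⟩
  have := key (inv_mem hg) _ hc
  convert this using 1
  group

end kit

theorem jobS3 : JobS3.{u} := by
  intro fs pr nc k2 n33 s3a X _ _ N Y x s q hS hT hI
  haveI : Fact (Nat.Prime 3) := ⟨Nat.prime_three⟩
  have IY : ⁅Y, zpowers x⁆ ≤ Y := by
    refine commutator_le.2 fun a ha b hb => ?_
    have hb' : b ∈ No Y := zpowers_le.2 hT.xY hb
    rw [commutatorElement_def]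
    have := (mem_normalizer_iff.1 hb' a⁻¹).1 (inv_mem ha)
    convert mul_mem ha this using 1
    group
  obtain ⟨K, hK, IK⟩ : ∃ K : Subgroup X, IsComponentOf K ⊤ ∧ ¬ ⁅Y, zpowers x⁆ ≤ Ce K := by
    by_contra hc
    push Not at hc
    have := fs X hS.nd ⊤ _ hS.o2 le_top (hT.twoY.to_le IY) (s3a X N Y x hS hT.twoY hT.xY hI) hc
    exact hI (this ▸ bot_le)
  obtain ⟨cm, three⟩ := hS.cm K hK
  have two : ∀ g ∈ Y ⊔ zpowers s ⊔ zpowers q, g ∈ No K := fun g hg =>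
    cm.two g (mem_top g) (hT.two.to_le (zpowers_le.2 hg))
  have hY : Y ≤ No K := fun g hg => two g (mem_sup_left (mem_sup_left hg))
  have hs : s ∈ No K := two s (mem_sup_left (mem_sup_right (mem_zpowers s)))
  have hq : q ∈ No K := two q (mem_sup_right (mem_zpowers q))
  have hx : x ∈ No K := (nc X K x hS.toSec hK hS.x3).1
  have xc : x ∉ Ce K := fun h => IK (comm_le (fun g hg => no_ce (hY hg)) h)
  obtain ⟨π, πK, πC, π1⟩ := (pr X K cm.sm.cen cm.inn).1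
  have x1 : π ⟨x, hx⟩ ≠ 1 := fun h => xc ((π1 _).1 h)
  have hx3 : x ^ 3 = 1 := by
    have := pow_orderOf_eq_one x
    rwa [hS.x3] at this
  have hK2 : IsL27 K ∨ IsU33 K := by
    by_cases h27 : IsL27 K
    · exact .inl h27
    rcases three with h | h | h
    · exact .inl h
    · exfalso
      have xK : x ∈ K := by
        by_contra xK
        have c : (π ⟨x, hx⟩)⁻¹ * x ∈ Ce K := πC ⟨x, hx⟩
        have cc : Commute (π ⟨x, hx⟩) ((π ⟨x, hx⟩)⁻¹ * x) := mem_centralizer_iff.1 c _ (πK _)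
        have p3 : π ⟨x, hx⟩ ^ 3 = 1 := by
          rw [← map_pow]
          have : (⟨x, hx⟩ : No K) ^ 3 = 1 := Subtype.ext (by simpa using hx3)
          rw [this, map_one]
        have c3 : ((π ⟨x, hx⟩)⁻¹ * x) ^ 3 = 1 := by
          have := cc.mul_pow 3
          rw [mul_inv_cancel_left, hx3, p3, one_mul] at this
          exact this.symm
        have c1 : (π ⟨x, hx⟩)⁻¹ * x ≠ 1 := fun e => xK (by
          rw [← inv_mul_eq_one.1 e]
          exact πK _)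
        exact h27 ((nc X K _ hS.toSec hK (orderOf_eq_prime c3 c1)).2 c)
      exact hI ((comm_le hY xK).trans (n33 X N K x hS h xK))
    · exact .inr h
  have act : ¬ bar π Y ≤ C1 (π ⟨x, hx⟩) := fun h => IK (by
    refine commutator_le.2 fun a ha b hb => ?_
    have hb' : b ∈ No K := zpowers_le.2 hx hb
    have h1 : Commute (π ⟨a, hY ha⟩) (π ⟨x, hx⟩) :=
      mem_centralizer_singleton_iff.1 (h (bar_mem π (hY ha) ha))
    have h2 : π ⟨b, hb'⟩ ∈ zpowers (π ⟨x, hx⟩) := by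
      rw [← bar_zp π hx]
      exact bar_mem π hb' hb
    obtain ⟨n, hn⟩ := mem_zpowers_iff.1 h2
    have h3 : Commute (π ⟨a, hY ha⟩) (π ⟨b, hb'⟩) := hn ▸ h1.zpow_right n
    have h4 : π ⁅(⟨a, hY ha⟩ : No K), ⟨b, hb'⟩⁆ = 1 := by
      rw [map_commutatorElement]
      exact commutatorElement_eq_one_iff_commute.2 h3
    exact (π1 _).1 h4)
  have hT' := tq_bar π hT hY hx hs hq x1 act
  have le : bar π Y ⊔ zpowers (π ⟨s, hs⟩) ⊔ zpowers (π ⟨q, hq⟩) ≤ K := by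
    refine sup_le (sup_le ?_ (zpowers_le.2 (πK _))) (zpowers_le.2 (πK _))
    rintro _ ⟨g, -, rfl⟩
    exact πK g
  exact pull π hT hY hs hq hT'.sn (k2 X K _ _ _ _ hK2 le hT')

end H23.GSS3
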