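/- Two relative character degrees: derived length at most two (blueprints/GARR.md, Theorem B). -/
import Cfsg.Agent.H23.GarrS
import Cfsg.Agent.H32.FullyRam

set_option autoImplicit false
set_option linter.style.haveILetI false

open Cfsg H28 H32 H33 H44 H93.DG MulAction
open scoped commutatorElement

namespace H23.Garr

universe u

variable {G : Type*} [Group G] [Finite G]

theorem normal_sup {q : ℕ} [Fact q.Prime] {Y M Q : Subgroup G} [Y.Normal] [M.Normal] (h1 : ⁅M, M⁆ ≤ Y)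
    (h2 : Y ≤ M) (h : H98.IsSyl q Q M) : (Y ⊔ Q).Normal := by
  refine Subgroup.normalizer_eq_top_iff.1 (eq_top_iff.2 fun g _ => ?_)
  obtain ⟨u, hu, n, hn, rfl⟩ := h.frattini_mem (g := g) (Subgroup.le_normalizer_of_normal (K := ⊤) trivial)
  refine mul_mem (H1.le_normalizer_sup (A := Subgroup.normalizer (Q : Set G))
    Subgroup.le_normalizer_of_normal le_rfl hu) (H1.le_normalizer_of_commutator_le (A := M) ?_ hn)
  exact (Subgroup.commutator_mono (sup_le h2 h.le) le_rfl).trans (h1.trans le_sup_left)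

omit [Finite G] in
theorem comm_of_le {r q : ℕ} [Fact r.Prime] [Fact q.Prime] (hne : q ≠ r) {Y M Q : Subgroup G}
    (h1 : ⁅M, M⁆ ≤ Y) (hY : IsPGroup r Y) (h : H98.IsSyl q Q M) : ∀ x ∈ Q, ∀ y ∈ Q, x * y = y * x :=
  fun x hx y hy => commutatorElement_eq_one_iff_mul_comm.1
    ((hY.disjoint_of_ne r q hne.symm _ _ h.isPGroup).le_bot (show ⁅x, y⁆ ∈ Y ⊓ Q from
      ⟨h1 (Subgroup.commutator_mem_commutator (h.le hx) (h.le hy)),
        Subgroup.commutator_le_self Q (Subgroup.commutator_mem_commutator hx hy)⟩))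

theorem cent_bot {q : ℕ} [Fact q.Prime] (h : ∀ M : Subgroup G, M.Normal → IsPGroup q M → M = ⊥)
    {Y Q : Subgroup G} [(Y ⊔ Q).Normal] (hQ : IsPGroup q Q) (hc : ∀ x ∈ Q, ∀ y ∈ Q, x * y = y * x) :
    Q ⊓ Subgroup.centralizer (Y : Set G) = ⊥ := by
  haveI : IsMulCommutative ((Y ⊔ Q) ⊓ Subgroup.centralizer (Y ⊔ Q : Subgroup G) : Subgroup G) :=
    ⟨⟨fun x y => Subtype.ext (y.2.2 x x.2.1)⟩⟩
  obtain ⟨k, hk⟩ := IsPGroup.iff_card.1 hQ
  obtain ⟨K, h1, h2⟩ := H2.exists_normal_pow_eq_one ((Y ⊔ Q) ⊓ Subgroup.centralizer (Y ⊔ Q : Subgroup G)) (q ^ k)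
  refine eq_bot_iff.2 fun x hx => (h K h1 (H98.isPGroup_iff_forall.2 fun y hy => ⟨k, ((h2 y).1 hy).2⟩)).le
    ((h2 x).2 ⟨⟨Subgroup.mem_sup_right hx.1, ?_⟩, ?_⟩)
  · exact fun g hg => (show Y ⊔ Q ≤ Subgroup.centralizer {x} from sup_le
      (fun y hy z hz => by rw [show z = x from hz]; exact (hx.2 y hy).symm)
      (fun y hy z hz => by rw [show z = x from hz]; exact hc x hx.1 y hy)) hg x rfl |>.symm
  · exact congrArg Subtype.val (hk ▸ pow_card_eq_one' (x := (⟨x, hx.1⟩ : Q)))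

theorem ex_deg {D : Subgroup G} [D.Normal] {a b : ℕ} (h : RD D a b) (hV : ⁅D, D⁆ ≠ ⊥) :
    ∃ χ, IsIrrCharacter G χ ∧ ¬ D ≤ charKer χ ∧ charDegree χ = a := by
  by_contra! k
  exact hV (comm_of_one (a := b) fun χ h1 h2 => Or.inl ((h χ h1 h2).resolve_left (k χ h1 h2)))

omit [Finite G] in
theorem comm_sub {R W : Subgroup G} (h : R ≤ W) :
    (⁅R, R⁆ : Subgroup G).subgroupOf W = ⁅R.subgroupOf W, R.subgroupOf W⁆ := by
  conv_lhs => rw [← Subgroup.map_subgroupOf_eq_of_le h, ← Subgroup.map_commutator]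
  exact Subgroup.comap_map_eq_self_of_injective W.subtype_injective _

/-- all characters over a linear character of order prime to `r` have the same degree -/
theorem dvd_of_lin {r : ℕ} [hr : Fact r.Prime] {W : Subgroup G} [hW : W.Normal] [Fintype W] {δ : Lin W}
    {m : ℕ} (hm : ¬ r ∣ m) (h1 : δ ^ m = 1) {a : ℕ}
    (h : ∀ χ, IsIrrCharacter G χ → classInner (fun n : W => χ n) (ch δ) ≠ 0 → charDegree χ = a) :
    ¬ (stabilizer G δ).index * r ∣ a := fun hd => by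
  haveI := Fintype.ofFinite G
  obtain ⟨P, hP⟩ := H98.exists_isSyl r (stabilizer G δ)
  haveI := Fintype.ofFinite (W ⊔ P : Subgroup G)
  have hS : W ⊔ P ≤ stabilizer G δ := sup_le (le_stab δ) hP.le
  obtain ⟨k, hk⟩ := IsPGroup.iff_card.1 hP.isPGroup
  obtain ⟨μ, hμ, -⟩ := exists_hom_ext_orderOf_eq (N := W.subgroupOf (W ⊔ P))
    (δ.hom.comp (Subgroup.subgroupOfEquivOfLe (le_sup_left : W ≤ W ⊔ P)).toMonoidHom)
    (fun g n => hom_conj (hS g.2) ⟨_, n.2⟩) (by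
      refine (((Nat.Prime.coprime_iff_not_dvd hr.out).2 hm).pow_left k |>.coprime_dvd_left
        ?_).coprime_dvd_right (orderOf_dvd_of_pow_eq_one (MonoidHom.ext fun n =>
          DFunLike.congr_fun (show δ.hom ^ m = 1 from h1) _))
      rw [← hk]
      exact (Subgroup.relIndex_sup_left P W).dvd.trans (Subgroup.index_dvd_card _))
  have h2 := dvd_deg (isCharacter_of_hom μ).indFun (c := a) fun χ hχ ho => (h χ hχ ?_).ge.antisymm
    (h χ hχ ?_).le ▸ dvd_rfl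
  · rw [(isCharacter_of_hom μ).charDegree_indFun, charDegree_hom, mul_one,
      ← Subgroup.relIndex_mul_index hS, mul_comm] at h2
    exact hP.not_dvd_relIndex ((Nat.dvd_of_mul_dvd_mul_left (Nat.pos_of_ne_zero
      (stabilizer G δ).index_ne_zero_of_finite) (hd.trans h2)).trans
      (Subgroup.relIndex_dvd_of_le_left _ le_sup_right))
  all_goals
    rw [classInner_indFun_left _ _ hχ.isClassFunction] at ho
    refine classInner_over_trans le_sup_left hχ.isCharacter (isIrrCharacter_of_hom μ)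
      (fun e => ho ((classInner_eq_zero_comm _ _).1 e)) (isIrr_ch δ).isCharacter ?_
    rw [show (fun z : W => (μ ⟨z, Subgroup.mem_sup_left z.2⟩ : ℂ)) = ch δ from funext fun z =>
      congrArg Units.val (hμ ⟨⟨z, Subgroup.mem_sup_left z.2⟩, z.2⟩), (isIrr_ch δ).classInner_self]
    exact one_ne_zero

/-- a homomorphism as a linear character -/
def toLin {H : Type*} [Group H] (f : H →* ℂˣ) : Lin H := f

theorem alpha {r q : ℕ} [hr : Fact r.Prime] [hq : Fact q.Prime] (hne : q ≠ r) {R Q : Subgroup G} [R.Normal]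
    [hW : (R ⊔ Q).Normal] (h1 : IsPGroup r R) (h2 : IsPGroup q Q) (hc : ⁅R ⊔ Q, R ⊔ Q⁆ ≤ R)
    (h0 : ¬ Q ≤ R) (h3 : ⁅R, R⁆ ≠ ⊥) {a b : ℕ} (h : RD (R ⊔ Q) a b) (hq' : Pq q b a)
    (hA : ∀ χ, IsIrrCharacter G χ → ¬ ⁅R, R⁆ ≤ charKer χ → charDegree χ = a)
    (hB : ∀ χ, IsIrrCharacter G χ → R ≤ charKer χ → charDegree χ ≠ b) : False := by
  have hR : R ≤ R ⊔ Q := le_sup_left
  have hi : ∃ j, (R.subgroupOf (R ⊔ Q)).index = q ^ j := by
    obtain ⟨k, hk⟩ := IsPGroup.iff_card.1 h2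
    obtain ⟨j, -, e⟩ := (Nat.dvd_prime_pow hq.out).1
      (hk ▸ (Subgroup.relIndex_sup_left Q R).dvd.trans (Subgroup.index_dvd_card _))
    exact ⟨j, e⟩
  obtain ⟨j, hj⟩ := hi
  obtain ⟨x, x1, x2⟩ := SetLike.not_le_iff_exists.1 h0
  replace x1 : x ∈ R ⊔ Q := Subgroup.mem_sup_right x1
  generalize R ⊔ Q = W at *
  haveI := Fintype.ofFinite G
  haveI := Fintype.ofFinite W
  haveI := Fintype.ofFinite (R.subgroupOf W)
  have hR' : ⁅R, R⁆ ≤ W := (Subgroup.commutator_le_left R R).trans hR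
  have key : ∀ ξ, IsIrrCharacter W ξ → ¬ (⁅R, R⁆ : Subgroup G).subgroupOf W ≤ charKer ξ →
      ¬ q ∣ charDegree ξ ∧ (inertia ξ).index * r ∣ a := fun ξ hξ hk => by
    obtain ⟨χ, c1, c2⟩ := exists_irr_over hξ
    have c3 := hA χ c1 (mt (le_ker_of_over hR' c1 hξ c2).1 hk)
    refine ⟨fun e => hq'.asymm (lemA h c1 c3 hξ c2 hq.out e),
      (mul_dvd_mul_left _ ?_).trans (c3 ▸ H38.charDegree_dvd_of_over c1 hξ c2)⟩
    obtain ⟨θ, t1, t2⟩ := exists_constituent_res (H := R.subgroupOf W) hξ.isCharacter hξ.apply_one_ne_zero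
    obtain ⟨k, e⟩ := t1.exists_pow_charDegree (H98.isPGroup_subgroupOf h1 W)
    refine (Dvd.dvd.mul_left (e ▸ dvd_pow_self r fun e0 => hk ?_) _).trans
      (H38.charDegree_dvd_of_over hξ t1 t2)
    rw [comm_sub hR, deg_ne_one hξ t1 t2, e, e0, pow_zero]
  have fin : ∀ ξ, IsIrrCharacter W ξ → ¬ (⁅R, R⁆ : Subgroup G).subgroupOf W ≤ charKer ξ →
      toLin (detH ξ) ^ Nat.card R = 1 := fun ξ hξ hk => by_contra fun hδ => by
    have d1 : ∀ n ∈ R.subgroupOf W, (toLin (detH ξ) ^ Nat.card R).hom n = 1 := fun n hn => by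
      have : (n : G) ^ Nat.card R = 1 := congrArg Subtype.val (pow_card_eq_one' (x := (⟨n, hn⟩ : R)))
      rw [Lin.pow_hom, ← map_pow, show n ^ Nat.card R = 1 from Subtype.ext this, map_one]
    refine dvd_of_lin (m := q ^ j) (fun e => hne ((Nat.prime_dvd_prime_iff_eq hr.out hq.out).1
      (hr.out.dvd_of_dvd_pow e)).symm) (hj ▸ hom_pow_index_eq_one d1) (fun χ c1 c2 =>
        (h χ c1 (not_le_of_dg hδ c1 c2)).resolve_right (hB χ c1
          ((le_ker_of_over hR c1 (isIrr_ch _) c2).2 fun n hn => (isIrr_ch _).mem_charKer.2 (by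
            rw [ch_apply, d1 n hn, ch_apply_one, Units.val_one]))))
      ((mul_dvd_mul_right (Subgroup.index_dvd_of_le fun g hg => ?_) r).trans (key ξ hξ hk).2)
    refine Lin.ext' fun w => ?_
    have := detH_comp (MulAut.conjNormal g⁻¹ : MulAut W).toMonoidHom hξ.isCharacter w
    rw [show (fun x => ξ ((MulAut.conjNormal g⁻¹ : MulAut W).toMonoidHom x)) = ξ from inv_mem hg] at this
    exact congrArg (· ^ Nat.card R) this.symm
  obtain ⟨χ, c1, c2⟩ : ∃ χ, IsIrrCharacter G χ ∧ ¬ ⁅R, R⁆ ≤ charKer χ := by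
    by_contra! k
    exact h3 (eq_bot_of_le_ker k)
  obtain ⟨ξ, hξ, ho⟩ := exists_constituent_res (H := W) c1.isCharacter c1.apply_one_ne_zero
  have hk := mt (le_ker_of_over hR' c1 hξ ho).2 c2
  obtain ⟨μ, m1, m2⟩ := exists_hom_ne_one_of_commutator_le (R.subgroupOf W)
    (comm_subgroupOf W ▸ Subgroup.comap_mono hc) (a := ⟨x, x1⟩) x2
  have f1 := fin ξ hξ hk
  have f2 := fin _ (isIrr_mul_ch hξ (toLin μ)) fun e => hk fun n hn => hξ.mem_charKer.2 (by
    have := apply_of_mem_charKer (e hn)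
    rwa [Pi.mul_apply, Pi.mul_apply, ch_apply_one, ch_apply, show (toLin μ).hom n = 1 from
      m1 n (Subgroup.commutator_le_left R R hn), Units.val_one, mul_one, mul_one] at this)
  refine m2 (DFunLike.congr_fun (hom_eq_one_of_pow_eq_one m1 (d := charDegree ξ * Nat.card R) (hj ▸
    ((Nat.Prime.coprime_iff_not_dvd hq.out).2 fun e => (hq.out.dvd_mul.1 e).elim (key ξ hξ hk).1
      (H98.not_dvd_card_of_isPGroup_ne hq.out hne h1)).pow_left j) (MonoidHom.ext fun w => ?_)) _)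
  have e1 : detH ξ w ^ Nat.card R = 1 := DFunLike.congr_fun (show (detH ξ) ^ Nat.card R = 1 from f1) w
  have e2 : detH (ξ * ch (toLin μ)) w ^ Nat.card R = 1 :=
    DFunLike.congr_fun (show (detH (ξ * ch (toLin μ))) ^ Nat.card R = 1 from f2) w
  rwa [detH_mul_ch hξ.isCharacter, mul_pow, e1, one_mul, ← pow_mul] at e2

theorem card_quot_lt {M : Subgroup G} [M.Normal] (h : M ≠ ⊥) : Nat.card (G ⧸ M) < Nat.card G := by
  rw [← Subgroup.index_eq_card, ← M.index_mul_card]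
  exact lt_mul_of_one_lt_right (Nat.pos_of_ne_zero M.index_ne_zero_of_finite) (M.one_lt_card_iff_ne_bot.2 h)

theorem alpha' {r : ℕ} [hr : Fact r.Prime] (core : ∀ q, q.Prime → q ≠ r → ∀ M : Subgroup G, M.Normal →
    IsPGroup q M → M = ⊥) {N R : Subgroup G} [N.Normal] [R.Normal] (h1 : H98.IsSyl r R N)
    (h2 : ⁅N, N⁆ ≤ R) (hV : ⁅⁅N, N⁆, ⁅N, N⁆⁆ ≠ ⊥) {a b : ℕ} (h : RD N a b) (hab : ¬ a ∣ b)
    (hba : ¬ b ∣ a) (hp : Pq r a b) : False := by
  obtain ⟨χ, c1, c2, c3⟩ := ex_deg (h.mono (Subgroup.commutator_le_left N N)).symm hV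
  obtain ⟨q, hq, q1, q2⟩ := exists_Pq h.symm c1 c3 c2
  haveI := Fact.mk hq
  have hne : q ≠ r := fun e => hp.asymm (e ▸ q2)
  obtain ⟨Q, hQ⟩ := H98.exists_isSyl q N
  haveI := normal_sup h2 h1.le hQ
  have hW : R ⊔ Q ≤ N := sup_le h1.le hQ.le
  have hc := comm_of_le hne h2 h1.isPGroup hQ
  have h0 : Q ≠ ⊥ := fun e => hQ.eq_bot_iff.1 e q1
  obtain ⟨t, t1, t2, t3⟩ := SP hne h1.isPGroup (hQ.of_le le_sup_right hW) hc h0
    (cent_bot (core q hq hne) hQ.isPGroup hc) (h.mono hW) hab hba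
  rcases t1 with rfl | rfl
  · exact q2.asymm (t2 b (h.mono hW))
  refine alpha hne h1.isPGroup hQ.isPGroup ((Subgroup.commutator_mono hW hW).trans h2)
    (fun e => h0 ((h1.isPGroup.disjoint_of_ne r q hne.symm _ _ hQ.isPGroup).eq_bot_of_ge e))
    (fun e => hV (eq_bot_iff.2 ((Subgroup.commutator_mono h2 h2).trans e.le))) (h.mono hW) q2
    (fun χ c1 c2 => (h.mono h1.le χ c1 fun e => c2 ((Subgroup.commutator_le_left R R).trans e)).resolve_right
      fun e => ?_) t3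
  obtain ⟨s, hs, s1, s2⟩ := exists_Pq (h.mono h1.le).symm c1 e c2
  obtain ⟨k, hk⟩ := IsPGroup.iff_card.1 h1.isPGroup
  exact hp.asymm ((Nat.prime_dvd_prime_iff_eq hs hr.out).1 (hs.dvd_of_dvd_pow (hk ▸ s1)) ▸ s2)

theorem thmB_aux (n : ℕ) : ∀ {G : Type u} [Group G] [Finite G] [Group.IsSolvable G], Nat.card G = n →
    ∀ (N : Subgroup G) [N.Normal] (a b : ℕ), RD N a b → ⁅⁅N, N⁆, ⁅N, N⁆⁆ = ⊥ := by
  induction n using Nat.strong_induction_on with
  | _ n ih =>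
  intro G _ _ _ hn N _ a b h
  by_contra hV
  have hD := Subgroup.commutator_le_left N N
  have hmin : ∀ M : Subgroup G, M.Normal → M ≠ ⊥ → ⁅⁅N, N⁆, ⁅N, N⁆⁆ ≤ M := fun M _ hM => by
    haveI := Subgroup.Normal.map inferInstance (H := N) _ (QuotientGroup.mk'_surjective M)
    have := ih _ (hn ▸ card_quot_lt hM) rfl _ a b (h.map _ (QuotientGroup.mk'_surjective M))
    rwa [← Subgroup.map_commutator, ← Subgroup.map_commutator, Subgroup.map_eq_bot_iff,
      QuotientGroup.ker_mk'] at this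
  obtain ⟨r, hr, r1, -, r2⟩ := H2.exists_elementaryAbelian_of_minimal_normal hV fun K hK e =>
    (em (K = ⊥)).imp_right fun k => e.antisymm (hmin K hK k)
  haveI := Fact.mk hr
  have core : ∀ q, q.Prime → q ≠ r → ∀ M : Subgroup G, M.Normal → IsPGroup q M → M = ⊥ :=
    fun q hq hne M h1 h2 => by_contra fun k =>
      haveI := Fact.mk hq
      hV ((r2.disjoint_of_ne r q hne.symm _ _ h2).eq_bot_of_le (hmin M h1 k))
  have nd : ∀ {a b}, RD N a b → ¬ a ∣ b := fun h => by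
    obtain ⟨χ, c1, c2, c3⟩ := ex_deg (h.mono hD) hV
    obtain ⟨q, -, -, q2⟩ := exists_Pq h c1 c3 c2
    exact q2.not_dvd
  by_cases hp : IsPGroup r (⁅N, N⁆ : Subgroup G)
  · obtain ⟨R, h1, h2⟩ := H98.exists_isSyl_le hp hD
    haveI : R.Normal := sup_eq_right.2 h2 ▸ normal_sup le_rfl hD h1
    obtain ⟨k, hk⟩ := IsPGroup.iff_card.1 h1.isPGroup
    obtain ⟨χ, c1, c2⟩ : ∃ χ, IsIrrCharacter G χ ∧ ¬ ⁅R, R⁆ ≤ charKer χ := by
      by_contra! k
      exact hV (eq_bot_of_le_ker fun χ hχ => (Subgroup.commutator_mono h2 h2).trans (k χ hχ))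
    have k : ∀ {a b}, RD N a b → charDegree χ ≠ a := fun h e => by
      obtain ⟨s, hs, s1, s2⟩ := exists_Pq (h.mono h1.le) c1 e c2
      exact alpha' core h1 h2 hV h (nd h) (nd h.symm)
        ((Nat.prime_dvd_prime_iff_eq hs hr).1 (hs.dvd_of_dvd_pow (hk ▸ s1)) ▸ s2)
    exact (h.mono h1.le χ c1 fun e => c2 ((Subgroup.commutator_le_left R R).trans e)).elim (k h) (k h.symm)
  obtain ⟨q, hq, q1, hne⟩ : ∃ q, q.Prime ∧ q ∣ Nat.card (⁅N, N⁆ : Subgroup G) ∧ q ≠ r := by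
    by_contra! k
    exact hp (IsPGroup.iff_card.2 ⟨_, Nat.eq_prime_pow_of_unique_prime_dvd Nat.card_pos.ne' (k _)⟩)
  haveI := Fact.mk hq
  obtain ⟨Q, hQ⟩ := H98.exists_isSyl q ⁅N, N⁆
  have hV' := Subgroup.commutator_le_left ⁅N, N⁆ ⁅N, N⁆
  haveI := normal_sup le_rfl hV' hQ
  have hW := sup_le hV' hQ.le
  have hc := comm_of_le hne le_rfl r2 hQ
  obtain ⟨t, t1, -, t3⟩ := SP hne r2 (hQ.of_le le_sup_right hW) hc (fun e => hQ.eq_bot_iff.1 e q1)
    (cent_bot (core q hq hne) hQ.isPGroup hc) (h.mono (hW.trans hD)) (nd h) (nd h.symm)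
  have k : ∀ {s}, RD N t s → False := fun {s} h => by
    have hf := QuotientGroup.mk'_surjective ⁅⁅N, N⁆, ⁅N, N⁆⁆
    haveI := Subgroup.Normal.map inferInstance (H := N) _ hf
    have := comm_of_one (N := N.map (QuotientGroup.mk' ⁅⁅N, N⁆, ⁅N, N⁆⁆)) (a := s) fun χ c1 c2 =>
      Or.inl ((h.map _ hf χ c1 c2).resolve_left fun e => t3 _ (c1.comp_surjective _ hf)
        ((QuotientGroup.ker_mk' _).ge.trans (ker_le_charKer _)) ((charDegree_comp χ _).trans e))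
    rw [← Subgroup.map_commutator, Subgroup.map_eq_bot_iff, QuotientGroup.ker_mk'] at this
    exact hp (r2.to_le this)
  rcases t1 with rfl | rfl
  exacts [k h, k h.symm]

/-- Isaacs-Knutson: two relative degrees -/
theorem thmB [Group.IsSolvable G] {N : Subgroup G} [N.Normal] {a b : ℕ} (h : RD N a b) :
    ⁅⁅N, N⁆, ⁅N, N⁆⁆ = ⊥ := thmB_aux _ rfl N a b h

end H23.Garr
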