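/- Garrison: four character degrees, derived length at most four (blueprints/GARR.md). -/
import Cfsg.Agent.H23.GarrB
import Cfsg.Agent.H26.NilpComm

set_option autoImplicit false
set_option linter.style.haveILetI false

open Cfsg H28 H32 H33 H44 H93.DG MulAction
open scoped commutatorElement

namespace H23.Garr

universe u

variable {G : Type*} [Group G] [Finite G]

theorem le_of_small {H M : Subgroup G} (hH : H ≠ ⊤)
    (hM : ∀ ψ, IsIrrCharacter G ψ → charDegree ψ < H.index → M ≤ charKer ψ) : M ≤ H := by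
  haveI := Fintype.ofFinite G
  haveI := Fintype.ofFinite H
  have h1 : IsCharacter G (indFun H fun _ => 1) := isCharacter_one.indFun
  have hd : charDegree (indFun H fun _ => (1 : ℂ)) = H.index := by
    rw [isCharacter_one.charDegree_indFun, charDegree_one, mul_one]
  refine fun g hg => charKer_indFun_le isCharacter_one one_ne_zero
    (h1.mem_charKer_iff_constituents.2 fun ψ hψ hc => hM ψ hψ (lt_of_le_of_ne
      (hd ▸ h1.charDegree_le_of_constituent hψ hc) fun e => ?_) hg)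
  have e1 := h1.eq_irr_of_degree_eq hψ hc (by rw [← h1.cast_charDegree, ← hψ.cast_charDegree, hd, e])
  have e2 := hψ.eq_of_classInner_ne_zero isIrrCharacter_one (by
    rw [← e1, classInner_indFun_left _ _ (isClassFunction_const 1), classInner_one_one]
    exact one_ne_zero)
  rw [e2, charDegree_one] at e
  exact hH (Subgroup.index_eq_one.1 e.symm)

/-- the set `{1, m, n, m n}` -/
def S4 (m n d : ℕ) : Prop := d = 1 ∨ d = m ∨ d = n ∨ d = m * n

theorem S4.dvd {m n d : ℕ} (h : S4 m n d) : d ∣ m * n := by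
  rcases h with rfl | rfl | rfl | rfl <;> simp

theorem S4.pow_dvd {m n d p i : ℕ} (h : S4 m n d) (hc : m.Coprime n) (hp : p.Prime) (h1 : p ∣ d)
    (h2 : p ^ i ∣ m * n) : p ^ i ∣ d := by
  have k : ∀ {m n : ℕ}, m.Coprime n → p ∣ m → p ^ i ∣ m * n → p ^ i ∣ m := fun hc h1 h2 =>
    ((hc.coprime_dvd_left h1).pow_left i).dvd_of_dvd_mul_right h2
  rcases h with rfl | rfl | rfl | rfl
  exacts [absurd (Nat.dvd_one.1 h1) hp.one_lt.ne', k hc h1 h2, k hc.symm h1 (mul_comm m d ▸ h2), h2]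

theorem lemN {m n p : ℕ} [hp : Fact p.Prime] (hc : m.Coprime n) (h : ∀ d ∈ charDegrees G, S4 m n d)
    {P U : Subgroup G} [P.Normal] (h1 : IsPGroup p P) (h2 : ¬ p ∣ P.index) (hU : S4 m n U.index) :
    ⁅P, P⁆ ≤ U := by
  by_cases e : P ≤ U
  · exact (Subgroup.commutator_le_left P P).trans e
  obtain ⟨k, hk⟩ := IsPGroup.iff_card.1 h1
  obtain ⟨i, -, hi⟩ := (Nat.dvd_prime_pow hp.out).1 (hk ▸ (U.subgroupOf P).index_dvd_card)
  have cop := (Nat.Prime.coprime_iff_not_dvd hp.out).2 h2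
  have h3 : p ^ i ∣ U.index := by
    refine ((cop.coprime_dvd_right (P.relIndex_dvd_index_of_normal U)).pow_left i).dvd_of_dvd_mul_left ?_
    rw [← Subgroup.inf_relIndex_right, Subgroup.relIndex_mul_index inf_le_right,
      ← Subgroup.relIndex_mul_index (inf_le_left : P ⊓ U ≤ P), Subgroup.inf_relIndex_left, ← hi]
    exact dvd_mul_right _ _
  rw [← Subgroup.map_subtype_commutator, Subgroup.map_le_iff_le_comap]
  refine le_of_small (mt Subgroup.subgroupOf_eq_top.1 e) fun ψ hψ hd => hψ.charDegree_eq_one_iff.1 ?_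
  obtain ⟨j, hj⟩ := hψ.exists_pow_charDegree h1
  obtain ⟨c, c1, c2⟩ := cd_over P (mem_cd hψ)
  by_contra e1
  refine hd.not_ge (Nat.le_of_dvd hψ.charDegree_pos ((show _ = _ from hi) ▸
    ((cop.coprime_dvd_right c1).pow_left i).dvd_of_dvd_mul_left ((h _ c2).pow_dvd hc hp.out
      (Dvd.dvd.mul_left (hj ▸ dvd_pow_self p fun e0 => e1 (by rw [hj, e0, pow_zero])) _) (h3.trans hU.dvd))))

theorem lemTB {m n : ℕ} (hc : m.Coprime n) (c : ℕ) : ∀ {G : Type u} [Group G] [Finite G]
    [Group.IsSolvable G], Nat.card G = c → (∀ d ∈ charDegrees G, S4 m n d) → ¬ Group.IsNilpotent G →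
    ∃ L : Subgroup G, L.Normal ∧ ⁅commutator G, commutator G⁆ ≤ L ∧ ¬ commutator G ≤ L ∧
      commutator G ≤ L ⊔ ⁅commutator G, ⊤⁆ := by
  induction c using Nat.strong_induction_on with
  | _ c ih =>
  intro G _ _ _ hn h hG
  by_cases hq : ∃ M : Subgroup G, ∃ _ : M.Normal, M ≠ ⊥ ∧ ¬ Group.IsNilpotent (G ⧸ M)
  · obtain ⟨M, _, h1, h2⟩ := hq
    obtain ⟨L, _, l1, l2, l3⟩ := ih _ (hn ▸ card_quot_lt h1) rfl (fun d hd => h d (cd_quot M hd)) h2
    have hf := QuotientGroup.mk'_surjective M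
    have e0 : (⊤ : Subgroup G).map (QuotientGroup.mk' M) = ⊤ := Subgroup.map_top_of_surjective _ hf
    have e : (commutator G).map (QuotientGroup.mk' M) = commutator (G ⧸ M) := by
      rw [commutator_def, Subgroup.map_commutator, e0, commutator_def]
    refine ⟨L.comap (QuotientGroup.mk' M), inferInstance, Subgroup.map_le_iff_le_comap.1 ?_,
      fun a => l2 (e ▸ Subgroup.map_le_iff_le_comap.2 a), ?_⟩
    · rwa [Subgroup.map_commutator, e]
    · rw [← e, ← e0, ← Subgroup.map_commutator, Subgroup.map_le_iff_le_comap,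
        ← Subgroup.comap_sup_eq _ _ _ hf, Subgroup.comap_map_eq] at l3
      exact l3.trans (sup_le le_sup_left (sup_le le_sup_right
        ((Subgroup.ker_le_comap _ _).trans le_sup_left)))
  push Not at hq
  haveI : Nontrivial G := not_subsingleton_iff_nontrivial.1 fun _ => hG inferInstance
  obtain ⟨Y, hY, y0, y1⟩ := H2.exists_minimal_normal G
  haveI := H2.isMulCommutative_of_minimal_normal y1
  have yc : ∀ a ∈ Y, ∀ b ∈ Y, a * b = b * a := fun a ha b hb =>
    congrArg Subtype.val (mul_comm' (⟨a, ha⟩ : Y) ⟨b, hb⟩)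
  obtain ⟨q, hq', Q, hQ⟩ : ∃ q, ∃ _ : Fact q.Prime, ∃ Q : Sylow q G, ¬ (Q : Subgroup G).Normal := by
    by_contra! k
    exact hG (H2.isNilpotent_of_forall_sylow_normal k)
  haveI := hq Y hY y0
  haveI : (Y ⊔ Q).Normal := by
    have : ((Q : Subgroup G).map (QuotientGroup.mk' Y)).Normal :=
      (inferInstance : (Q.mapSurjective (QuotientGroup.mk'_surjective Y)).Normal)
    rw [sup_comm, ← QuotientGroup.ker_mk' Y, ← Subgroup.comap_map_eq]
    infer_instance
  have hJ : Y ⊔ Subgroup.normalizer (Q : Set G) = ⊤ := eq_top_iff.2 fun g _ => by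
    obtain ⟨u, hu, n, hn, rfl⟩ := (H98.isSyl_sylow_of_le Q (le_sup_right : _ ≤ Y ⊔ Q)).frattini_mem (g := g)
      (Subgroup.le_normalizer_of_normal (K := ⊤) trivial)
    exact mul_mem (Subgroup.mem_sup_right hu) (sup_le_sup_left Subgroup.le_normalizer _ hn)
  have hn : ¬ Y ≤ Subgroup.normalizer (Q : Set G) := fun e =>
    hQ (Subgroup.normalizer_eq_top_iff.1 (sup_eq_right.2 e ▸ hJ))
  have cJ : ∀ g ∈ Subgroup.center G, g ∈ Subgroup.normalizer (Q : Set G) := fun g hg =>
    Subgroup.center_le_normalizer _ hg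
  generalize Subgroup.normalizer (Q : Set G) = J at *
  have nrm : ∀ K : Subgroup G, K.Normal → K ≤ Subgroup.centralizer (Y : Set G) → (K ⊓ J).Normal :=
    fun K hK e => ⟨fun x hx g => ⟨hK.conj_mem x hx.1 g, by
      obtain ⟨y, hy, j, hj, rfl⟩ := Subgroup.mem_sup_of_normal_left.1 (hJ.ge (Subgroup.mem_top g))
      rw [show y * j * x * (y * j)⁻¹ = y * (j * x * j⁻¹) * y⁻¹ by group,
        e (hK.conj_mem x hx.1 j) y hy, mul_inv_cancel_right]
      exact J.mul_mem (J.mul_mem hj hx.2) (J.inv_mem hj)⟩⟩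
  have hYC : Y ≤ Subgroup.centralizer (Y : Set G) := fun a ha b hb => yc b hb a ha
  have hYJ : Y ⊓ J = ⊥ := (y1 _ (nrm Y hY hYC) inf_le_left).resolve_right fun e => hn (inf_eq_left.1 e)
  haveI := Fintype.ofFinite Y
  have hC : commutator G ≤ Subgroup.centralizer (Y : Set G) := by
    generalize hC : Subgroup.centralizer (Y : Set G) = C at *
    haveI : C.Normal := hC ▸ inferInstance
    haveI := hq C inferInstance fun e => y0 (eq_bot_iff.2 (e ▸ hYC))
    refine Subgroup.Normal.quotient_commutative_iff_commutator_le.1 (H26.isMulCommutative_of_sylow fun p _ P =>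
      ⟨⟨fun a b => Subtype.ext (commutatorElement_eq_one_iff_mul_comm.1 ?_)⟩⟩)
    obtain ⟨g, e⟩ := QuotientGroup.mk'_surjective C ⁅(a : G ⧸ C), b⁆
    rw [← e, QuotientGroup.mk'_apply, QuotientGroup.eq_one_iff, ← hC]
    refine mem_centralizer_of_inertia yc fun θ hθ => ?_
    obtain ⟨l, rfl⟩ := exists_ch hθ.isCharacter (eq_one_of_mem_cd_of_comm mul_comm' (mem_cd hθ))
    obtain ⟨μ, hμ⟩ := exists_ext hJ (l := l) fun y hy => by
      rw [show y = 1 from Subtype.ext (hYJ.le ⟨y.2, hy⟩), map_one]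
    have h1 := (dg_of_ext hμ isIrrCharacter_one (by rw [charKer_one]; exact le_top)).mem_cd
    have h2 : (QuotientGroup.mk' C).ker ≤ stabilizer G l := fun x hx => Lin.ext' fun y => by
      rw [QuotientGroup.ker_mk', ← hC] at hx
      rw [smul_hom]
      exact congrArg _ (Subtype.ext (by simp [mul_assoc, hx y y.2]))
    rw [inertia_ch, ← Subgroup.comap_map_eq_self h2, Subgroup.mem_comap, e]
    refine lemN hc (fun d hd => h d (cd_quot C hd)) P.2 P.not_dvd_index ?_
      (Subgroup.commutator_mem_commutator a.2 b.2)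
    rw [Subgroup.index_map_eq _ (QuotientGroup.mk'_surjective C) h2]
    simpa [charDegree_one] using h _ h1
  have dec : ∀ g ∈ commutator G, ∃ y ∈ Y, ∃ j ∈ Subgroup.centralizer (Y : Set G) ⊓ J, y * j = g :=
    fun g hg => by
      obtain ⟨y, hy, j, hj, rfl⟩ := Subgroup.mem_sup_of_normal_left.1 (hJ.ge (Subgroup.mem_top g))
      exact ⟨y, hy, j, ⟨(mul_mem_cancel_left (hYC hy)).1 (hC hg), hj⟩, rfl⟩
  have hYT : ⁅Y, ⊤⁆ = Y := (y1 _ inferInstance (Subgroup.commutator_le_left _ _)).resolve_left fun e =>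
    hn fun y hy => cJ y (Subgroup.centralizer_univ (G := G) ▸
      Subgroup.commutator_eq_bot_iff_le_centralizer.1 e hy)
  have hYG : Y ≤ commutator G := hYT ▸ Subgroup.commutator_mono le_top le_rfl
  refine ⟨_, nrm _ inferInstance le_rfl, Subgroup.commutator_le.2 fun a ha b hb => ?_,
    fun e => hn (hYG.trans (e.trans inf_le_right)), fun g hg => ?_⟩
  · obtain ⟨y, hy, j, hj, rfl⟩ := dec a ha
    obtain ⟨z, hz, k, hk, rfl⟩ := dec b hb
    have c1 : Commute y (z * k) := hC hb y hy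
    have c2 : Commute z j := hj.1 z hz
    have c3 : Commute y j := hj.1 y hy
    have c4 : Commute z k := hk.1 z hz
    have : ⁅y * j, z * k⁆ = ⁅j, k⁆ := by
      rw [commutatorElement_def, commutatorElement_def, c3.eq, mul_assoc j, c1.eq, c4.eq]
      calc _ = j * k * (z * j⁻¹) * z⁻¹ * k⁻¹ := by group
        _ = _ := by rw [c2.inv_right.eq]; group
    rw [this]
    exact Subgroup.commutator_le_self _ (Subgroup.commutator_mem_commutator hj hk)
  · obtain ⟨y, hy, j, hj, rfl⟩ := dec g hg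
    exact mul_mem (Subgroup.mem_sup_right (Subgroup.commutator_mono hYG le_rfl (hYT.ge hy)))
      (Subgroup.mem_sup_left hj)

theorem rest {S : Set ℕ} (hS : S.Finite) {k a : ℕ} (h : S.ncard ≤ k + 1) (ha : a ∈ S) :
    (S \ {a}).ncard ≤ k := by
  have := Set.ncard_sdiff_singleton_add_one ha hS
  omega

theorem ex1 {S : Set ℕ} (hS : S.Finite) (h : S.ncard ≤ 1) : ∃ m, ∀ d ∈ S, d = m := by
  rcases S.eq_empty_or_nonempty with rfl | ⟨m, hm⟩
  exacts [⟨0, by simp⟩, ⟨m, fun d hd => (Set.ncard_le_one hS).1 h d hd m hm⟩]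

theorem derived_le3 {k : ℕ} (hk : k ≤ 3) (h : (charDegrees G).ncard ≤ k) : derivedSeries G k = ⊥ := by
  interval_cases k
  · exact absurd h ((Set.ncard_pos cd_finite).2 ⟨1, one_mem_cd⟩).not_ge
  · exact eq_bot_iff.2 (Subgroup.commutator_le.2 fun a _ b _ => commutatorElement_eq_one_iff_mul_comm.2
      (comm_of_cd (fun d hd => (Set.ncard_le_one cd_finite).1 h d hd 1 one_mem_cd) a b))
  · obtain ⟨m, hm⟩ := ex1 (cd_finite.subset Set.sdiff_subset) (rest cd_finite h one_mem_cd)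
    exact derived_two (m := m) fun d hd => (em (d = 1)).imp_right fun e => hm d ⟨hd, e⟩
  · obtain ⟨m, n, e⟩ := exists_of_ncard_le_three h
    exact derived_three e

theorem topA_mul {p a : ℕ} {K N : Subgroup G} [N.Normal] (h : TopA p a K N) (hp : p.Prime) {g : ℕ}
    (hg : g ∈ charDegrees G) (hc : ¬ p ∣ g) : p ^ a * g ∈ charDegrees G := by
  haveI := Fintype.ofFinite G
  haveI := Fintype.ofFinite N
  obtain ⟨ψ, hψ, -, hN, -, e, e', -⟩ := h
  obtain ⟨χ, hχ, rfl⟩ := exists_of_mem_cd hg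
  have h1 := isIrrCharacter_res_of_coprime (N := N) hχ hχ.cast_charDegree.symm (by
    rw [← e']; exact (((Nat.Prime.coprime_iff_not_dvd hp).2 hc).symm.pow_right _).pow_right _)
  obtain ⟨l, hl⟩ := exists_hom_of_le_charCenter hψ.ne_zero hN.ge
  have hv : (fun z : N => ψ z) = ψ 1 • fun z => (l z : ℂ) := funext fun z => by
    simpa [mul_comm] using hl z 1
  have h2 := isIrrCharacter_of_hom l
  have := mem_cd (isIrrCharacter_mul_of_ext h2 (eq_top_iff.2 fun g _ => funext fun z =>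
    mul_left_cancel₀ hψ.apply_one_ne_zero ((congrFun hv _).symm.trans
      ((hψ.isClassFunction z g).trans (congrFun hv z))))
    (mul_comm _ (fun z => (l z : ℂ)) ▸ h1.mul_linear h2.isCharacter (by simp)) hχ.isCharacter
    (fun _ => rfl) hψ (by
      rw [classInner_indFun_left _ _ hψ.isClassFunction, ne_eq, classInner_eq_zero_comm, hv,
        classInner_smul_left, h2.classInner_self, mul_one]
      exact hψ.apply_one_ne_zero))
  rwa [hψ.isCharacter.charDegree_mul hχ.isCharacter, e] at this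

theorem topB_four [Group.IsSolvable G] {p : ℕ} {K N : Subgroup G} [K.Normal] [N.Normal] (hp : p.Prime)
    (hB : TopB p K N) (hN : commutator G ≤ N) (h : (charDegrees G).ncard ≤ 4)
    (hnc : ∀ s, s.Prime → ∃ d ∈ charDegrees G, d ≠ 1 ∧ ¬ s ∣ d) : derivedSeries G 4 = ⊥ := by
  haveI := Fintype.ofFinite N
  have f1 := hB.one_lt
  have h1 := rest (cd_finite.subset Set.sdiff_subset) (rest cd_finite h one_mem_cd) ⟨hB.mem_cd hp, f1.ne'⟩
  have hf := (cd_finite (G := G).subset (Set.sdiff_subset (t := {1}))).subset (Set.sdiff_subset (t := {N.index}))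
  by_cases hd : ∀ d ∈ charDegrees N, d ≠ 1 → p ∣ d
  · obtain ⟨x, y, e⟩ : ∃ x y, ∀ d ∈ (charDegrees G \ {1}) \ {N.index}, d = x ∨ d = y := by
      rcases ((charDegrees G \ {1}) \ {N.index}).eq_empty_or_nonempty with e | ⟨x, hx⟩
      · exact ⟨0, 0, by simp [e]⟩
      · obtain ⟨y, hy⟩ := ex1 (hf.subset Set.sdiff_subset) (rest hf h1 hx)
        exact ⟨x, y, fun d hd => (em (d = x)).imp_right fun e => hy d ⟨hd, e⟩⟩
    have := thmB (N := ⁅N, N⁆) (a := x) (b := y) fun χ hχ hk => by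
      obtain ⟨θ, t1, t2⟩ := exists_constituent_res (H := N) hχ.isCharacter hχ.apply_one_ne_zero
      have := ((hd _ (mem_cd t1) (mt (deg_ne_one hχ t1 t2).2 hk)).mul_left _).trans
        (H38.charDegree_dvd_of_over hχ t1 t2)
      exact e _ ⟨⟨mem_cd hχ, fun e => hp.one_lt.ne' (Nat.dvd_one.1 ((show _ = _ from e) ▸ this))⟩,
        fun e => hB.not_dvd ((show _ = _ from e) ▸ this)⟩
    have m1 := Subgroup.commutator_mono hN hN
    have m2 := Subgroup.commutator_mono m1 m1
    exact eq_bot_iff.2 ((Subgroup.commutator_mono m2 m2).trans this.le)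
  push Not at hd
  obtain ⟨d, d1, d2, d3⟩ := hd
  have d4 := (hB.cd hp d1).resolve_right fun e => d3 e.1
  obtain ⟨y, hy⟩ := ex1 (hf.subset Set.sdiff_subset) (rest hf h1 ⟨⟨d4, fun e =>
    f1.ne' (Nat.eq_one_of_mul_eq_one_right e)⟩, fun e => d2 ((Nat.mul_eq_left (by omega)).1 e)⟩)
  have c : ∀ x ∈ charDegrees G, x = 1 ∨ x = N.index ∨ x = N.index * d ∨ x = y := fun x hx => by
    by_contra! k
    exact k.2.2.2 (hy x ⟨⟨⟨hx, k.1⟩, k.2.1⟩, k.2.2.1⟩)
  have cop : ∀ k, k ∣ N.index → k ∣ y → k = 1 := fun k k1 k2 => by_contra fun k3 => by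
    obtain ⟨s, hs, s1⟩ := Nat.exists_prime_and_dvd k3
    obtain ⟨x, x1, x2, x3⟩ := hnc s hs
    rcases (c x x1).resolve_left x2 with rfl | rfl | rfl
    exacts [x3 (s1.trans k1), x3 ((s1.trans k1).mul_right _), x3 (s1.trans k2)]
  have := derived_le_map (N := N) (i := 0) (j := 1) (by
    rwa [derivedSeries_zero, ← MonoidHom.range_eq_map, N.range_subtype]) 3
  rwa [derived_three (m := d) (n := y) fun x hx => ?_, Subgroup.map_bot, le_bot_iff] at this
  rcases hB.cd hp hx with e | ⟨e, -⟩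
  · rcases c _ e with e | e | e | e
    exacts [Or.inl (Nat.eq_one_of_mul_eq_one_left e), Or.inl ((Nat.mul_eq_left (by omega)).1 e),
      Or.inr (Or.inl (Nat.eq_of_mul_eq_mul_left (by omega) e)), absurd (cop _ dvd_rfl ⟨x, e.symm⟩) f1.ne']
  · obtain ⟨k, k1, k2⟩ := cd_over N hx
    have e1 := e.mul_left k
    rcases c _ k2 with e | e | e | e <;> rw [e] at e1
    exacts [absurd (Nat.dvd_one.1 e1) hp.one_lt.ne', absurd e1 hB.not_dvd,
      ((hp.dvd_mul.1 e1).elim hB.not_dvd d3).elim,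
      Or.inr (Or.inr (by rw [← e, cop k k1 ⟨x, e.symm⟩, one_mul]))]

theorem four_aux (c : ℕ) : ∀ {G : Type u} [Group G] [Finite G] [Group.IsSolvable G], Nat.card G = c →
    ∀ k ≤ 4, (charDegrees G).ncard ≤ k → derivedSeries G k = ⊥ := by
  induction c using Nat.strong_induction_on with
  | _ c ih =>
  intro G _ _ _ hc k hk h
  rcases hk.eq_or_lt with rfl | hk
  swap
  · exact derived_le3 (by omega) h
  haveI := Fintype.ofFinite G
  have tak : ∀ N : Subgroup G, ∀ _ : N.Normal, ⁅N, N⁆ = ⊥ → Group.IsNilpotent (G ⧸ N) →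
      derivedSeries G 4 = ⊥ := fun N _ h1 h2 => derivedSeries_eq_bot_of_monomial (fun χ =>
    monomial_of_abelian_normal N (fun a ha b hb => commutatorElement_eq_one_iff_mul_comm.1
      (h1.le (Subgroup.commutator_mem_commutator ha hb))) h2) h
  by_cases hnc : ∀ s, s.Prime → ∃ d ∈ charDegrees G, d ≠ 1 ∧ ¬ s ∣ d
  · obtain ⟨d, d1, d2, -⟩ := hnc 2 Nat.prime_two
    obtain ⟨p, K, N, _, _, hp, -, -, hN, -, -, -, ⟨a, hA⟩ | hB⟩ :=
      top_cases _ le_rfl (not_le_commutator_of_isSolvable d1 d2)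
    swap
    · exact topB_four hp hB hN h hnc
    by_cases hG : Group.IsNilpotent G
    · exact tak ⊥ inferInstance (Subgroup.commutator_bot_left _) inferInstance
    obtain ⟨n, n1, n2, n3⟩ := hnc p hp
    have m1 := hA.one_lt hp
    have n4 := pos_of_mem_cd n1
    have f1 := cd_finite (G := G).subset (Set.sdiff_subset (t := {1}))
    have f2 := f1.subset (Set.sdiff_subset (t := {p ^ a}))
    obtain ⟨y, hy⟩ := ex1 (f2.subset Set.sdiff_subset) (rest f2 (rest f1 (rest cd_finite h one_mem_cd)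
      ⟨hA.mem_cd, m1.ne'⟩) ⟨⟨n1, n2⟩, fun e => n3 ((show _ = _ from e) ▸ hA.dvd)⟩)
    have e := hy _ ⟨⟨⟨topA_mul hA hp n1 n3, fun e => n2 (Nat.eq_one_of_mul_eq_one_left e)⟩,
      fun e => n2 ((Nat.mul_eq_left (by omega)).1 e)⟩, fun e => m1.ne' ((Nat.mul_eq_right n4.ne').1 e)⟩
    obtain ⟨L, _, l1, l2, l3⟩ := lemTB (((Nat.Prime.coprime_iff_not_dvd hp).2 n3).pow_left a) _ rfl
      (fun x hx => by
        by_contra k
        simp only [S4, not_or] at k
        exact k.2.2.2 (e ▸ hy x ⟨⟨⟨hx, k.1⟩, k.2.1⟩, k.2.2.1⟩)) hG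
    obtain ⟨p, K, N, _, _, hp, hK, -, hN, hn, -, -, ⟨a, ψ, hψ, rfl, rfl, -⟩ | hB⟩ := top_cases L l1 l2
    · exact absurd (l3.trans (sup_le hK (Subgroup.commutator_le.2 fun z hz g _ =>
        hψ.isClassFunction.commutator_mem_charKer (hN hz) g))) hn
    · exact topB_four hp hB hN h hnc
  push Not at hnc
  obtain ⟨p, hp, hd⟩ := hnc
  haveI := Fact.mk hp
  obtain ⟨N, hN, h1, j, hj⟩ := exists_npc hp hd
  by_cases e : ⁅N, N⁆ = ⊥
  · exact tak N hN e (H7.isPGroup_quotient_iff_index.2 ⟨j, hj⟩).isNilpotent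
  by_cases e3 : (charDegrees G).ncard ≤ 3
  · rw [derivedSeries_succ, derived_le3 le_rfl e3, Subgroup.commutator_bot_left]
  obtain ⟨d, d1, d2⟩ : ∃ d ∈ charDegrees G, d ≠ 1 := by
    by_contra! k
    exact e3 (((Set.ncard_le_one cd_finite).2 fun a ha b hb => (k a ha).trans (k b hb).symm).trans (by omega))
  set A := {d ∈ charDegrees G | ordCompl[p] d = 1} with hA
  have a0 : A ⊆ charDegrees G := Set.sep_subset _ _
  have a1 := Set.ncard_sdiff_add_ncard_of_subset a0 cd_finite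
  have a2 : 0 < A.ncard := (Set.ncard_pos (cd_finite.subset a0)).2 ⟨1, one_mem_cd, by simp⟩
  have b1 := ih _ (hc ▸ card_quot_lt e) rfl A.ncard (by omega) (Set.ncard_le_ncard (fun d hd =>
    ⟨cd_quot _ hd, by
      obtain ⟨i, -, rfl⟩ := (Nat.dvd_prime_pow hp).1 (hj ▸ dvd_index_of_mem_cd_quot N hd)
      simpa using eq_ordCompl (j := i) hp hp.not_dvd_one⟩) (cd_finite.subset a0))
  have b2 := ih _ (hc ▸ card_lt_of_ne_top' (ne_top_of_not_dvd h1 d1 (hd d d1 d2))) rfl (1 + (4 - A.ncard))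
    (by omega) ((Set.ncard_le_ncard (t := insert 1 ((fun d => ordCompl[p] d) '' (charDegrees G \ A)))
      (fun d hd => by
        obtain ⟨x, hx, rfl⟩ := cd_npc hp h1 hj hd
        exact (em _).imp_right fun e => ⟨x, ⟨hx, fun a => e a.2⟩, rfl⟩)
      (((cd_finite.subset Set.sdiff_subset).image _).insert _)).trans ((Set.ncard_insert_le _ _).trans (by
        have := Set.ncard_image_le (f := fun d => ordCompl[p] d) (cd_finite.subset
          (Set.sdiff_subset (s := charDegrees G) (t := A)))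
        omega)))
  have := derived_le_map (N := N) (i := 1) (j := A.ncard) (by
    rw [derivedSeries_one, Subgroup.map_subtype_commutator, ← QuotientGroup.ker_mk' ⁅N, N⁆,
      ← Subgroup.map_eq_bot_iff, map_derivedSeries_eq (QuotientGroup.mk'_surjective _), b1]) (4 - A.ncard)
  rwa [b2, Subgroup.map_bot, le_bot_iff, show A.ncard + (4 - A.ncard) = 4 by omega] at this

/-- Garrison -/
theorem garrison [Group.IsSolvable G] (h : (charDegrees G).ncard ≤ 4) : derivedSeries G 4 = ⊥ :=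
  four_aux _ rfl 4 le_rfl h

end H23.Garr
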