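import Cfsg.Agent.H7.HKSSpec
import Cfsg.Agent.H57.St2
import Cfsg.Agent.H5.FrobCompl

/-! Tower HKS, jobs Sub and Aff. -/

set_option autoImplicit false
set_option linter.unusedSectionVars false

namespace H23.HKS

open MulAction Cfsg Subgroup H89.K H65 H7.HKS

universe u

section Tr

variable {L G Ω : Type*} [Group L] [Group G] [MulAction L Ω] [MulAction G Ω] {j : L →* G}
  (ij : Function.Injective j)
include ij

theorem mc (A : Subgroup L) (S : Set L) :
    (A ⊓ centralizer S).map j = A.map j ⊓ centralizer (j '' S) := by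
  ext g
  refine ⟨?_, ?_⟩
  · rintro ⟨x, hx, rfl⟩
    refine ⟨⟨x, hx.1, rfl⟩, ?_⟩
    rintro _ ⟨s, hs, rfl⟩
    rw [← map_mul, ← map_mul, hx.2 s hs]
  · rintro ⟨⟨x, hx, rfl⟩, hc⟩
    exact ⟨x, ⟨hx, fun s hs => ij (by rw [map_mul, map_mul, hc _ ⟨s, hs, rfl⟩])⟩, rfl⟩

theorem ld_map (hj : ∀ g (c : Ω), j g • c = g • c) {F : Type} [Field F] {x y : F → L}
    {A B : Subgroup L} {a b : Ω} (h : LD x y A B a b) :
    LD (fun c => j (x c)) (fun c => j (y c)) (A.map j) (B.map j) a b := by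
  refine ⟨⟨fun s t => by rw [← map_mul, h.rel.x_add], fun s t => by rw [← map_mul, h.rel.y_add],
    fun t s ht => ?_, fun s t hs ht => ?_⟩, ij.comp h.inj, fun g => ?_, fun g => ?_, fun c hc => ?_⟩
  · simpa only [map_mul] using congrArg j (h.rel.n_x t s ht)
  · simpa only [map_mul] using congrArg j (h.rel.h_mul s t hs ht)
  · exact ⟨fun ⟨l, hl, e⟩ => let ⟨c, e'⟩ := (h.rx l).1 hl; ⟨c, e' ▸ e⟩,
      fun ⟨c, e⟩ => ⟨x c, (h.rx _).2 ⟨c, rfl⟩, e⟩⟩
  · exact ⟨fun ⟨l, hl, e⟩ => let ⟨c, e'⟩ := (h.ry l).1 hl; ⟨c, e' ▸ e⟩,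
      fun ⟨c, e⟩ => ⟨y c, (h.ry _).2 ⟨c, rfl⟩, e⟩⟩
  · have := h.sw c hc
    simpa only [Sw, sl2n, ← map_mul, hj] using this

variable {V : Ω → Subgroup L} {U : Ω → Subgroup G} (hV : ∀ a, (V a).map j = U a)
include hV

theorem cu (a : Ω) : (CU V ∅ a).map j = CU U ∅ a := by rw [mc ij, Set.image_empty, hV]

theorem zu (a : Ω) : (ZU V ∅ a).map j = ZU U ∅ a := by rw [mc ij, ← coe_map, cu ij hV]

theorem lx : (LX V ∅).map j = LX U ∅ := by
  simp only [LX, Subgroup.map_iSup, cu ij hV, Set.mem_ofPred_eq, Set.mem_empty_iff_false, false_imp_iff,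
    implies_true]

theorem card_cu (a : Ω) : Nat.card (CU U ∅ a) = Nat.card (CU V ∅ a) := by
  rw [← cu ij hV, card_map_of_injective ij]

theorem cu1 (a : Ω) (w : L) :
    CU U ∅ a ⊓ centralizer {j w} = (CU V ∅ a ⊓ centralizer {w}).map j := by
  rw [mc ij, Set.image_singleton, cu ij hV]

variable (hj : ∀ g (c : Ω), j g • c = g • c) {a b : Ω}
include hj

theorem tl_map (h : TL V ∅ a b) : TL U ∅ a b := by
  obtain ⟨F, _, _, x, y, h⟩ := h
  exact ⟨F, inferInstance, inferInstance, _, _, cu ij hV a ▸ cu ij hV b ▸ ld_map ij hj h⟩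

theorem tu_map (h : TU V ∅ a b) : TU U ∅ a b := by
  obtain ⟨F, _, _, x, y, h, h1, h2, h3⟩ := h
  refine ⟨F, inferInstance, inferInstance, _, _, zu ij hV a ▸ zu ij hV b ▸ ld_map ij hj h,
    (card_cu ij hV a).trans h1, ?_, fun g hg n => ?_⟩
  · rw [← zu ij hV, ← h2, ← cu1 ij hV]
    simp only [sl2h, sl2n, map_mul]
  · rw [← cu ij hV] at hg
    obtain ⟨g, hg, rfl⟩ := hg
    rw [cu1 ij hV, card_map_of_injective ij]
    exact h3 g hg fun e => n (zu ij hV a ▸ ⟨g, e, rfl⟩)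

theorem tr_map (h : TR V ∅ a b) : TR U ∅ a b := by
  obtain ⟨q, w, h⟩ := h
  have st : ∀ g, j g ∈ St G a b ↔ g ∈ St L a b := fun g => by rw [mem_St, mem_St, hj, hj]
  refine ⟨q, j w, lx ij hV ▸ ⟨w, h.mem, rfl⟩, (st w).2 h.st, (orderOf_injective j ij w).trans h.ord,
    h.pow, ?_, (card_cu ij hV a).trans h.card, ?_, ?_, ?_, ?_, ?_, ?_, ?_⟩
  · rw [← lx ij hV]
    rintro _ ⟨v, hv, rfl⟩ s o
    rw [h.uniq v hv ((st v).1 s) ((orderOf_injective j ij v).symm.trans o)]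
  · rw [cu1 ij hV, card_map_of_injective ij, h.cardw]
  · rw [cu1 ij hV]
    rintro _ ⟨g, hg, rfl⟩ _ ⟨k, hk, rfl⟩
    rw [← map_mul, ← map_mul, h.comm g hg k hk]
  · rw [cu1 ij hV]
    rintro _ ⟨g, hg, rfl⟩
    rw [← map_pow, h.exp g hg, map_one]
  · rw [← zu ij hV, ← Set.image_singleton, ← mc ij, h.disj, Subgroup.map_bot]
  · rw [← cu ij hV, ← map_commutator, card_map_of_injective ij]
    exact h.der
  · obtain ⟨E, h1, h2, h3, h4⟩ := h.syl
    refine ⟨E.map j, lx ij hV ▸ map_mono h1, (card_map_of_injective ij).trans h2, ?_, ?_⟩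
    · rintro _ ⟨e, he, rfl⟩
      rw [← map_mul, h3 e he, map_one]
    · rwa [← lx ij hV, relIndex_map_map_of_injective _ _ ij]
  · rw [← lx ij hV]
    rintro _ ⟨v, hv, rfl⟩ o
    obtain ⟨g, hg, e⟩ := h.one v hv ((orderOf_injective j ij v).symm.trans o)
    exact ⟨j g, ⟨g, hg, rfl⟩, by rw [← e, map_mul, map_mul, map_inv]⟩

theorem ad_map {E : Subgroup L} (h : AD V ∅ a E) (hn : (E.map j).Normal) : AD U ∅ a (E.map j) := by
  refine ⟨?_, by rw [← cu ij hV, ← Subgroup.map_sup, h.sup, lx ij hV], fun c _ d _ => ?_,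
    by rw [normalizer_eq_top]; exact le_top, ?_⟩
  · rintro _ ⟨e, he, rfl⟩
    rw [← map_mul, h.sq e he, map_one]
  · obtain ⟨e, he, un⟩ := h.reg c (fun _ hg => hg.elim) d (fun _ hg => hg.elim)
    refine ⟨j e, ⟨⟨e, he.1, rfl⟩, (hj e c).trans he.2⟩, ?_⟩
    rintro _ ⟨⟨f, hf, rfl⟩, e'⟩
    rw [un f ⟨hf, (hj f c).symm.trans e'⟩]
  · have := h.cyc
    rw [← cu ij hV]
    exact isCyclic_of_surjective _ (equivMapOfInjective _ j ij).surjective

end Tr

theorem cu_eq {G Ω : Type*} [Group G] (U : Ω → Subgroup G) (a : Ω) : CU U ∅ a = U a :=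
  inf_eq_left.2 fun _ _ _ hx => hx.elim

theorem lx_eq {G Ω : Type*} [Group G] [MulAction G Ω] (U : Ω → Subgroup G) :
    LX U ∅ = ⨆ a, U a := by
  simp [LX, cu_eq]

theorem jobSub (k2 : Kit2.{u}) : JobSub.{u} := by
  intro G Ω _ _ _ U L h hL
  have le : ∀ a, U a ≤ L := fun a => hL ▸ le_iSup U a
  have nL : L.Normal := ⟨fun x hx g => by
    rw [hL] at hx ⊢
    refine iSup_induction U (C := fun x => g * x * g⁻¹ ∈ ⨆ a, U a) hx
      (fun a u hu => mem_iSup_of_mem _ (h.conj g a u hu)) (by simp) fun x y a b => ?_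
    rw [← conj_mul]; exact mul_mem a b⟩
  obtain ⟨a0, -⟩ := h.t2.big
  have r : Rg (fun a => (U a).subgroupOf L) :=
    ⟨⟨h.t2.t2_normal L (a := a0) fun y z hy hz =>
        let ⟨u, hu, e⟩ := h.tr hy hz; ⟨u, le _ hu, h.fix _ u hu, e⟩,
      fun a u hu => h.fix a u hu, fun g a u hu => h.conj g a u hu,
      fun a => have := h.nil a; Group.nilpotent_of_mulEquiv (subgroupOfEquivOfLe (le a)).symm,
      fun hb hc => let ⟨u, hu, e⟩ := h.tr hb hc; ⟨⟨u, le _ hu⟩, hu, e⟩⟩,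
      fun a b hb u hu e => Subtype.ext (h.reg hb u hu e),
      fun a => by rw [Nat.card_congr (subgroupOfEquivOfLe (le a)).toEquiv]; exact h.odd a⟩
  have hV : ∀ a, ((U a).subgroupOf L).map L.subtype = U a := fun a => map_subgroupOf_eq_of_le (le a)
  have top : (⨆ a, (U a).subgroupOf L) = ⊤ := map_injective L.subtype_injective (by
    simp only [Subgroup.map_iSup, hV, ← hL, ← MonoidHom.range_eq_map, range_subtype])
  refine ⟨r, top, fun a b ab t => ?_⟩
  have ij := L.subtype_injective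
  have hj : ∀ (g : L) (c : Ω), L.subtype g • c = g • c := fun _ _ => rfl
  rcases t with ⟨h7, E, hE⟩ | t | t | t
  · refine Or.inl ⟨(card_cu ij hV a).symm ▸ h7, _, ad_map ij hV hj hE ⟨?_⟩⟩
    rintro _ ⟨e, he, rfl⟩ g
    refine ⟨⟨_, nL.conj_mem e e.2 g⟩, (k2.aa r ab (Set.empty_subset _) hE).2.2.2.1 _
      (by rw [lx_eq, top]; trivial) (Subtype.ext ?_), rfl⟩
    show g * e * g⁻¹ * (g * e * g⁻¹) = 1
    rw [conj_mul, ← L.coe_mul, hE.sq e he]; simp
  · exact Or.inr (Or.inl (tl_map ij hV hj t))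
  · exact Or.inr (Or.inr (Or.inl (tu_map ij hV hj t)))
  · exact Or.inr (Or.inr (Or.inr (tr_map ij hV hj t)))

theorem x3 {G : Type*} [Group G] {u : G} (h : u ^ 3 = 1) (s t : ZMod 3) :
    u ^ s.val * u ^ t.val = u ^ (s + t).val := by
  rw [← pow_add, ZMod.val_add, ← pow_eq_pow_mod _ h]

theorem four {G Ω : Type*} [Group G] [Finite G] [MulAction G Ω] {U : Ω → Subgroup G} {a b : Ω}
    (h : Rg U) (ab : a ≠ b) (h4 : Nat.card Ω = 4) (h3 : ∀ a, Nat.card (U a) = 3) : TL U ∅ a b := by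
  classical
  have p3 : ∀ a, ∀ u ∈ U a, u ^ 3 = 1 := fun a u hu => by
    have := pow_card_eq_one' (x := (⟨u, hu⟩ : U a))
    rw [h3] at this
    exact congrArg Subtype.val this
  have mv : ∀ {a b : Ω} {u : G}, u ∈ U a → b ≠ a → u • b ≠ b →
      u • b ≠ a ∧ u • u • b ≠ b ∧ u • u • u • b = b := fun {a b u} hu ba n => by
    have e : u • u • u • b = b := by
      rw [← mul_smul, ← mul_smul, ← pow_three', p3 a u hu, one_smul]
    exact ⟨fun e => ba (by rw [← inv_smul_smul u b, e, h.fix a _ (inv_mem hu)]),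
      fun e' => n (by rw [e'] at e; exact e), e⟩
  obtain ⟨c, ca, cb⟩ := h.t2.exists_third a b
  obtain ⟨u, hu, ub⟩ := h.tr ab.symm ca
  obtain ⟨v, hv, va⟩ := h.tr ab cb
  have ua := h.fix a u hu
  have vb := h.fix b v hv
  obtain ⟨-, db, ud⟩ := mv hu ab.symm (ub ▸ cb)
  rw [ub] at db ud
  have dc : u • c ≠ c := fun e => db (by rw [e] at ud; exact ud)
  have da := (mv hu ca dc).1
  generalize uc : u • c = d at db ud dc da
  have := h.t2.finite
  have := Fintype.ofFinite Ω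
  have all : ∀ p, p = a ∨ p = b ∨ p = c ∨ p = d := fun p => by
    have : ({a, b, c, d} : Finset Ω) = Finset.univ := Finset.eq_univ_of_card _ (by
      rw [← Nat.card_eq_fintype_card, h4, Finset.card_insert_of_notMem (by simp [ab, ca.symm, da.symm]),
        Finset.card_insert_of_notMem (by simp [cb.symm, db.symm]), Finset.card_pair dc.symm])
    simpa using this.ge (Finset.mem_univ p)
  obtain ⟨-, v2, vd⟩ := mv hv ab (va ▸ ca)
  rw [va] at v2 vd
  have v3 : v • c ≠ c := fun e => v2 (by rw [e] at vd; exact vd)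
  have vc : v • c = d :=
    (((all _).resolve_left v2).resolve_left (mv hv cb v3).1).resolve_left v3
  rw [vc] at vd
  have ext : ∀ g k : G, g • a = k • a → g • b = k • b → g • c = k • c → g • d = k • d → g = k :=
    fun g k e1 e2 e3 e4 => by
      rw [← inv_mul_eq_one]
      refine h.t2.faith _ fun p => ?_
      rw [mul_smul, inv_smul_eq_iff]
      rcases all p with rfl | rfl | rfl | rfl <;> simp only [*]
  have z3 : ∀ t : ZMod 3, t = 0 ∨ t = 1 ∨ t = -1 := by decide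
  have iv : ∀ t : ZMod 3, t ≠ 0 → t⁻¹ = t := fun t ht =>
    inv_eq_of_mul_eq_one_right (by revert t; decide)
  have m1 : (-1 : ZMod 3).val = 2 := rfl
  have o1 : (1 : ZMod 3).val = 1 := rfl
  have rg : ∀ {a b : Ω} {u : G}, u ∈ U a → b ≠ a → (∀ p, p = a ∨ p = b ∨ p = u • b ∨ p = u • u • b) →
      ∀ g, g ∈ CU U ∅ a ↔ ∃ s : ZMod 3, u ^ s.val = g := fun {a b u} hu ba al g => by
    refine ⟨fun hg => ?_, fun ⟨s, e⟩ => e ▸ ⟨pow_mem hu _, fun _ hx => hx.elim⟩⟩
    have k : ∀ w ∈ U a, g • b = w • b → w = g := fun w hw e => inv_mul_eq_one.1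
      (h.reg ba _ (mul_mem (inv_mem hw) hg.1) (by rw [mul_smul, e, inv_smul_smul]))
    rcases al (g • b) with e | e | e | e
    · exact (ba (by rw [← inv_smul_smul g b, e, h.fix a _ (inv_mem hg.1)])).elim
    · exact ⟨0, k _ (pow_mem hu _) (by simpa using e)⟩
    · exact ⟨1, k _ (pow_mem hu _) (by simpa [o1] using e)⟩
    · exact ⟨-1, k _ (pow_mem hu _) (by simpa [m1, sq, mul_smul] using e)⟩
  refine ⟨ZMod 3, inferInstance, inferInstance, fun s => u ^ s.val, fun s => v ^ s.val,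
    H57.St2.sl2Rel ⟨x3 (p3 a u hu), x3 (p3 b v hv), fun t s ht => ?_⟩, fun s t e => ?_,
    rg hu ab.symm (by simpa only [ub, uc] using all),
    rg hv ab (fun p => by rw [va, vc]; have := all p; tauto), fun t ht => ?_⟩
  · have : t ^ 2 = 1 := by revert t; decide
    simp only [sl2n, iv t ht, this, one_mul]
    rcases z3 t with rfl | rfl | rfl
    · exact (ht rfl).elim
    all_goals
      rcases z3 s with rfl | rfl | rfl <;> apply ext <;>
        simp [m1, o1, sq, mul_smul, ua, ub, uc, ud, va, vb, vc, vd]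
  · have e' : u ^ s.val • b = u ^ t.val • b := congrArg (· • b) e
    rcases z3 s with rfl | rfl | rfl <;> rcases z3 t with rfl | rfl | rfl <;>
      simp [m1, o1, sq, mul_smul, ub, uc, cb, cb.symm, db, db.symm, dc, dc.symm] at e' ⊢
  · simp only [Sw, sl2n, iv t ht]
    rcases z3 t with rfl | rfl | rfl
    · exact (ht rfl).elim
    all_goals simp [m1, o1, sq, mul_smul, ua, ub, uc, ud, va, vb, vc, vd]

theorem jobAff (k1 : Kit1.{u}) : JobAff.{u} := by
  intro G Ω _ _ _ U a b h ⟨N, nN, ht, hr⟩ ab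
  obtain ⟨-, -, p, d, pp, hp, hc⟩ := h.t2.elem_of_regular ht hr
  have hk := k1.card h
  have p2 : p = 2 := by
    have : 2 ∣ p ^ d := by rw [← hc, hk a]; exact (h.odd a).add_one.two_dvd
    exact ((Nat.prime_dvd_prime_iff_eq Nat.prime_two pp).1 (Nat.prime_two.dvd_of_dvd_pow this)).symm
  subst p2
  have h2 := h.t2.two_lt
  by_cases h4 : Nat.card Ω = 4
  · exact Or.inr (four h ab h4 fun c => by have := hk c; omega)
  have h8 : 2 ^ 3 ≤ Nat.card Ω := by
    rw [hc] at h2 h4 ⊢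
    refine Nat.pow_le_pow_right two_pos ?_
    by_contra e
    have : d ≤ 2 := by omega
    interval_cases d <;> simp at h2 h4
  have ce := cu_eq U a
  have fpf : ∀ u ∈ U a, u ≠ 1 → N ⊓ centralizer {u} = ⊥ := fun u hu u1 => eq_bot_iff.2 fun n hn =>
    hr a n hn.1 (by
      by_contra e
      exact u1 (h.reg e u hu
        (fix_of_comm (mem_centralizer_singleton_iff.1 hn.2) (h.fix a u hu))))
  obtain ⟨m, hm, ma⟩ := ht a b
  have m1 : m ≠ 1 := by rintro rfl; exact ab (by simpa using ma)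
  have un : ∀ c, ∀ e ∈ N, ∀ f ∈ N, e • c = f • c → e = f := fun c e he f hf k =>
    (inv_mul_eq_one.1 (hr c _ (mul_mem (inv_mem hf) he) (by rw [mul_smul, k, inv_smul_smul]))).symm
  refine Or.inl ⟨by rw [ce]; have := hk a; omega, N, fun e he => by rw [← sq, hp e he], ?_,
    fun c _ d _ => ?_, by rw [normalizer_eq_top]; exact le_top, ?_⟩
  · rw [ce, lx_eq]
    refine le_antisymm (sup_le (fun n hn => ?_) (le_iSup U a)) (iSup_le fun c w hw => ?_)
    · by_cases n1 : n = 1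
      · rw [n1]; exact one_mem _
      obtain ⟨c, ca, cb⟩ := h.t2.exists_third a b
      obtain ⟨u, hu, ub⟩ := h.tr ab.symm ca
      have u1 : u ≠ 1 := by rintro rfl; exact cb (by simpa using ub.symm)
      have eN : u * m * u⁻¹ * m⁻¹ ∈ N := mul_mem (nN.conj_mem m hm u) (inv_mem hm)
      have eL : u * m * u⁻¹ * m⁻¹ ∈ ⨆ a, U a := by
        rw [mul_assoc, mul_assoc, ← mul_assoc m]
        exact mul_mem (mem_iSup_of_mem a hu) (mem_iSup_of_mem _ (h.conj m a _ (inv_mem hu)))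
      have e1 : u * m * u⁻¹ * m⁻¹ ≠ 1 := fun e => m1 (mem_bot.1 (fpf u hu u1 ▸ ⟨hm,
        mem_centralizer_singleton_iff.2 (by
          rw [mul_inv_eq_one, mul_inv_eq_iff_eq_mul] at e; exact e.symm)⟩))
      generalize u * m * u⁻¹ * m⁻¹ = e at eN eL e1
      obtain ⟨v, hv, k⟩ := h.tr (a := a) (fun k => e1 (hr a e eN k)) (fun k => n1 (hr a n hn k))
      rw [← un a _ (nN.conj_mem e eN v) n hn (by
        rw [mul_smul, mul_smul, h.fix a _ (inv_mem hv), k])]
      exact mul_mem (mul_mem (mem_iSup_of_mem a hv) eL) (inv_mem (mem_iSup_of_mem a hv))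
    · obtain ⟨n, hn, e⟩ := ht c a
      have := h.conj n c w hw
      rw [e] at this
      have := mul_mem (mul_mem (mem_sup_left (inv_mem hn)) (mem_sup_right this))
        (mem_sup_left (T := U a) hn)
      simpa [mul_assoc] using this
  · obtain ⟨e, he, k⟩ := ht c d
    exact ⟨e, ⟨he, k⟩, fun f hf => un c f hf.1 e he (hf.2.trans k.symm)⟩
  · rw [ce]
    have := H5.isZGroup_of_fpf_of_odd (K := N) (H := U a) (fun e => m1 (mem_bot.1 (e ▸ hm)))
      (by rw [normalizer_eq_top]; exact le_top) fpf (h.odd a)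
    have := h.nil a
    infer_instance

end H23.HKS
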