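import Cfsg.Agent.H82.HPKit
import Cfsg.Agent.H90.HrLK

/-! HP tower, job B3: in case B the Sylow subgroups do not form a linear space. -/

set_option autoImplicit false
set_option linter.unusedSectionVars false

namespace H23.HP

open MulAction Cfsg Subgroup H89.K H98 H82.HR H82.HP
open H90.HR (ncard_part smul_mem_Fx Fx_cj stab_Fx)

universe u v

theorem arith {m f : ℕ} (hf : 2 ≤ f) (hd : f ∣ 2 ^ m)
    (hi : 1 + (2 * 2 ^ m + 1) * (f - 1) ∣ (2 ^ m - 1) * ((2 ^ m) ^ 2 * (2 ^ m + 2))) : False := by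
  obtain ⟨s, hs⟩ := hd
  obtain ⟨r, -, rfl⟩ := (Nat.dvd_prime_pow Nat.prime_two).1 (Dvd.intro_left f hs.symm)
  obtain ⟨g, rfl⟩ : ∃ g, f = g + 1 := ⟨f - 1, by omega⟩
  have ev : 2 ∣ g + 1 := by
    obtain ⟨k, -, e⟩ := (Nat.dvd_prime_pow Nat.prime_two).1 (Dvd.intro _ hs.symm)
    obtain _ | k := k
    · omega
    · exact e ▸ Dvd.intro_left _ (pow_succ 2 k).symm
  have co : (2 * 2 ^ r * g + 1).Coprime ((2 ^ m) ^ 2) :=
    ((Nat.coprime_two_right.2 ⟨2 ^ r * g, by ring⟩).pow_right m).pow_right 2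
  have h1 : 2 * 2 ^ r * g + 1 ∣ (2 ^ m - 1) * (2 ^ m + 2) := co.dvd_of_dvd_mul_left (by
    rw [mul_left_comm]
    refine Dvd.dvd.trans ⟨g + 1, ?_⟩ hi
    rw [hs, Nat.add_sub_cancel]; ring)
  obtain ⟨q, hq⟩ : ∃ q, 2 ^ m = q + 1 := ⟨2 ^ m - 1, by have := Nat.pos_of_ne_zero (by positivity : 2 ^ m ≠ 0); omega⟩
  rw [hq, Nat.add_sub_cancel] at h1
  rw [hq] at hs
  have h2 : ((2 * 2 ^ r * g + 1 : ℕ) : ℤ) ∣ (2 * 2 ^ r) ^ 2 - 9 := by
    have e : (q : ℤ) = (g + 1) * 2 ^ r - 1 := by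
      have : ((q + 1 : ℕ) : ℤ) = (((g + 1) * 2 ^ r : ℕ) : ℤ) := congrArg _ hs
      push_cast at this; linarith
    obtain ⟨k, hk⟩ := Int.natCast_dvd_natCast.2 h1
    refine ⟨4 * k - (2 * 2 ^ r * g + 1) - 4 * 2 ^ r, ?_⟩
    push_cast at hk ⊢
    rw [e] at hk
    linear_combination 4 * hk
  push_cast at h2
  obtain ⟨k, hk⟩ := h2
  have g1 : (1 : ℤ) ≤ g := by omega
  have g2 : (2 : ℤ) ∣ g + 1 := by exact_mod_cast ev
  generalize (g : ℤ) = y at hk g1 g2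
  obtain _ | _ | _ | r := r
  · have := Int.le_of_dvd (by decide : (0 : ℤ) < 5) (show 2 * y + 1 ∣ 5 from ⟨-k, by linear_combination -hk⟩)
    obtain rfl : y = 1 := by omega
    omega
  · have := Int.le_of_dvd (by decide : (0 : ℤ) < 7) (show 4 * y + 1 ∣ 7 from ⟨k, by linear_combination hk⟩)
    obtain rfl : y = 1 := by omega
    omega
  · have := Int.le_of_dvd (by decide : (0 : ℤ) < 55) (show 8 * y + 1 ∣ 55 from ⟨k, by linear_combination hk⟩)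
    have : y ≤ 6 := by omega
    interval_cases y <;> omega
  obtain ⟨w, hw, w0⟩ : ∃ w : ℤ, (2 : ℤ) ^ (r + 1 + 1 + 1) = 8 * w ∧ 1 ≤ w :=
    ⟨2 ^ r, by ring, one_le_pow₀ (by decide)⟩
  rw [hw, show 2 * (8 * w) = 16 * w by ring] at hk
  have k0 : 0 < k := by
    by_contra! e
    nlinarith [mul_nonneg (show 0 ≤ 16 * w * y + 1 by positivity) (neg_nonneg.2 e)]
  have k1 : k < 16 * w := by
    by_contra! e
    nlinarith [mul_le_mul_of_nonneg_left e (show 0 ≤ 16 * w * y + 1 by positivity),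
      mul_le_mul_of_nonneg_left g1 (show 0 ≤ 16 * w * (16 * w) by positivity)]
  have e : k + 9 = 16 * w * (16 * w - y * k) := by linear_combination -hk
  generalize 16 * w - y * k = t at e
  obtain rfl : t = 1 := by
    have : 0 < t := by
      by_contra! e'
      nlinarith
    by_contra e'
    nlinarith [mul_le_mul_of_nonneg_left (show 2 ≤ t by omega) (show 0 ≤ 16 * w by omega)]
  have h72 : k ∣ 72 := ⟨16 * w * y + 1 - k - 18, by
    rw [mul_one] at e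
    rw [← e] at hk ⊢
    linear_combination hk⟩
  have := Int.le_of_dvd (by decide) h72
  have : k = 7 ∨ k = 23 ∨ k = 39 ∨ k = 55 ∨ k = 71 := by omega
  rcases this with rfl | rfl | rfl | rfl | rfl <;> omega

section Plane

variable {G : Type u} [Group G] [Finite G] {N p l : Subgroup G} {P L : Set (Subgroup G)} {m : ℕ} {z : G}
  (h : PL N P L m)
include h

theorem syl_line (hl : l ∈ L) : {U | IsSyl 2 U N ∧ l ≤ U}.ncard = 2 ^ m + 1 := by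
  rw [← h.a.cI l hl, ← Set.InjOn.ncard_image (f := fun p => p ⊔ l) (s := {p | p ∈ P ∧ Inc p l})
    fun p hp p' hp' e => (h.flag_eq hp'.1 hl hp'.2 hp.1 hl e).1]
  congr 1
  ext U
  constructor
  · rintro ⟨hU, e⟩
    obtain ⟨p, hp, l', hl', i, rfl⟩ := h.flag hU
    rcases h.le_flag hp hl' i e (h.a'.sq l hl) (h.a'.card l hl) with rfl | rfl
    exacts [absurd hl (h.a.disj _ hp), ⟨p, ⟨hp, i⟩, rfl⟩]
  · rintro ⟨p, hp, rfl⟩
    exact ⟨h.a.syl p hp.1 l hl hp.2, le_sup_right⟩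

theorem mem_syl {U : Subgroup G} (hp : p ∈ P) (hl : l ∈ L) (h1 : z ∈ p) (h2 : z ∈ l) (z1 : z ≠ 1)
    (hU : IsSyl 2 U N) (hz : z ∈ U) : p ≤ U ∨ l ≤ U := by
  obtain ⟨p', hp', l', hl', i, rfl⟩ := h.flag hU
  rcases h.a.inv2 p' hp' l' hl' i z hz (h.a.sq p hp z h1) with e | e
  · obtain rfl : p = p' := by_contra fun n => z1 (mem_bot.1 (h.symm.inf_bot hp hp' n ▸ mem_inf.2 ⟨h1, e⟩))
    exact Or.inl le_sup_left
  · obtain rfl : l = l' := by_contra fun n => z1 (mem_bot.1 (h.inf_bot hl hl' n ▸ mem_inf.2 ⟨h2, e⟩))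
    exact Or.inr le_sup_right

theorem syl_inv (hz : z ∈ N) (h2 : z * z = 1) (z1 : z ≠ 1) :
    {U | IsSyl 2 U N ∧ zpowers z ≤ U}.ncard = 2 * 2 ^ m + 1 := by
  obtain ⟨l, hl, zl⟩ := h.exists_axis hz h2
  obtain ⟨p, hp, zp⟩ := h.symm.exists_axis hz h2
  have i := inc_of_mem zp zl z1
  have e := Set.ncard_union_add_ncard_inter {U | IsSyl 2 U N ∧ p ≤ U} {U | IsSyl 2 U N ∧ l ≤ U}
  rw [syl_line h hl, syl_line h.symm hp, show {U | IsSyl 2 U N ∧ p ≤ U} ∩ {U | IsSyl 2 U N ∧ l ≤ U} = {p ⊔ l} from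
    Set.ext fun U => ⟨fun k => (h.a.syl p hp l hl i).eq_of_le k.1.1.isPGroup (sup_le k.1.2 k.2.2) k.1.1.le,
      fun k => k ▸ ⟨⟨h.a.syl p hp l hl i, le_sup_left⟩, h.a.syl p hp l hl i, le_sup_right⟩⟩, Set.ncard_singleton,
    show {U | IsSyl 2 U N ∧ p ≤ U} ∪ {U | IsSyl 2 U N ∧ l ≤ U} = {U | IsSyl 2 U N ∧ zpowers z ≤ U} from
    Set.ext fun U => ⟨fun k => k.elim (fun k => ⟨k.1, zpowers_le.2 (k.2 zp)⟩) fun k => ⟨k.1, zpowers_le.2 (k.2 zl)⟩,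
      fun k => (mem_syl h hp hl zp zl z1 k.1 (zpowers_le.1 k.2)).imp (fun e => ⟨k.1, e⟩) fun e => ⟨k.1, e⟩⟩] at e
  omega

end Plane

variable {G : Type u} {Ω : Type v} [Group G] [Finite G] [MulAction G Ω] {N : Ω → Subgroup G} {m : ℕ}
  {a c d : Ω} {g z : G} {U U' X : Subgroup G} (H : Hp N m) (B : CB N)
include H

theorem fx_of_syl (h : IsSyl 2 U (N c)) : c ∈ Fx Ω U := fun _ hx => H.le c (h.le hx)

theorem ncard_Fx (h : IsSyl 2 U (N a)) (h' : IsSyl 2 U' (N c)) : (Fx Ω U').ncard = (Fx Ω U).ncard := by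
  have : Fact (Nat.Prime 2) := Nat.fact_prime_two
  obtain ⟨g, rfl⟩ := H.t2.trans a c
  obtain ⟨k, -, rfl⟩ := (H.equi g a ▸ h.cj g : IsSyl 2 _ (N (g • a))).exists_cj_eq h'
  rw [cj_cj, Fx_cj, Set.ncard_image_of_injective _ (MulAction.injective _)]

include B

/-- a `2`-subgroup of `N c` fixing `d` lies in every Sylow subgroup fixing `d` -/
theorem le_syl (hcd : c ≠ d) (h : IsSyl 2 U (N c)) (hd : d ∈ Fx Ω U) (hX : IsPGroup 2 X) (h1 : X ≤ N c)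
    (h2 : d ∈ Fx Ω X) : X ≤ U := by
  have : Fact (Nat.Prime 2) := Nat.fact_prime_two
  obtain ⟨V, hV, -, e⟩ := B c d hcd
  exact h.eq_of_le hV.isPGroup (hV.le_of_le_normalizer' h.isPGroup h.le ((le_inf h.le hd).trans e)) hV.le ▸
    hV.le_of_le_normalizer' hX h1 ((le_inf h1 h2).trans e)

theorem syl_eq (hcd : c ≠ d) (h : IsSyl 2 U (N c)) (hd : d ∈ Fx Ω U) (h' : IsSyl 2 U' (N c))
    (hd' : d ∈ Fx Ω U') : U' = U :=
  le_antisymm (le_syl H B hcd h hd h'.isPGroup h'.le hd') (le_syl H B hcd h' hd' h.isPGroup h.le hd)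

theorem card_Fx {f : ℕ} (hf : ∀ c U, IsSyl 2 U (N c) → (Fx Ω U).ncard = f) (hX : IsPGroup 2 X) (h1 : X ≤ N a) :
    (Fx Ω X).ncard = 1 + {U | IsSyl 2 U (N a) ∧ X ≤ U}.ncard * (f - 1) := by
  have := H.t2.finite
  have ha : a ∈ Fx Ω X := fun x hx => H.le a (h1 hx)
  rw [← ncard_part (Fx Ω X \ {a}) _ (fun c W => c ∈ Fx Ω W) (n := f - 1)
    (fun c hc => by
      obtain ⟨W, k, e, -⟩ := B a c (Ne.symm hc.2)
      exact ⟨W, ⟨⟨k, le_syl H B (Ne.symm hc.2) k e hX h1 hc.1⟩, e⟩, fun W' k' =>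
        syl_eq H B (Ne.symm hc.2) k e k'.1.1 k'.2⟩)
    fun W hW => by
      rw [← hf a W hW.1, ← Set.ncard_sdiff_singleton_of_mem (fx_of_syl H hW.1)]
      congr 1
      ext c
      exact ⟨fun k => ⟨k.2, k.1.2⟩, fun k => ⟨⟨fun x hx => k.1 x (hW.2 hx), k.2⟩, k.1⟩⟩, add_comm,
    Set.ncard_sdiff_singleton_add_one ha]

variable (L : LN N)
include L

theorem syl (h : IsSyl 2 U (N c)) (hd : d ∈ Fx Ω U) : IsSyl 2 U (N d) := by
  by_cases e : c = d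
  · exact e ▸ h
  obtain ⟨V, h1, h2⟩ := L c d e
  exact syl_eq H B e h1 (fx_of_syl H h2) h hd ▸ h2

theorem sc (hX : IsPGroup 2 X) (h1 : X ≤ N c) (h2 : d ∈ Fx Ω X) : X ≤ N d := by
  by_cases e : c = d
  · exact e ▸ h1
  obtain ⟨V, k1, k2⟩ := L c d e
  exact (le_syl H B e k1 (fx_of_syl H k2) hX h1 h2).trans k2.le

omit H B L in
theorem jobB3 : JobB3.{u, v} := by
  intro G Ω _ _ _ N m H B L
  have := H.t2.finite
  have : Fact (Nat.Prime 2) := Nat.fact_prime_two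
  obtain ⟨a, b, -, hab, -⟩ := H.t2.big
  obtain ⟨U₀, ha, hb⟩ := L a b hab
  obtain ⟨f, hf⟩ : ∃ f, (Fx Ω U₀).ncard = f := ⟨_, rfl⟩
  have cF : ∀ c U, IsSyl 2 U (N c) → (Fx Ω U).ncard = f := fun c U h => hf ▸ ncard_Fx H ha h
  have two : 2 ≤ f := hf ▸ (Set.one_lt_ncard (Set.toFinite _)).2 ⟨a, fx_of_syl H ha, b, fx_of_syl H hb, hab⟩
  have zp : ∀ z : G, z * z = 1 → IsPGroup 2 (zpowers z) := fun z e =>
    isPGroup_zpowers (k := 1) (by rw [pow_one, pow_two, e])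
  have fz : ∀ (z : G) (c : Ω), c ∈ Fx Ω (zpowers z) ↔ z • c = c := fun z c =>
    ⟨fun k => k z (mem_zpowers z), fun k _ hx => zpowers_le.2 (mem_stabilizer_iff.2 k) hx⟩
  have sc' : ∀ (z : G) (c d : Ω), z * z = 1 → z ∈ N c → z • d = d → z ∈ N d := fun z c d e h1 h2 =>
    zpowers_le.1 (sc H B L (zp z e) (zpowers_le.2 h1) ((fz z d).2 h2))
  obtain ⟨P, Q, h⟩ := H.pl a
  have q2 := h.q2
  refine arith two (m := m) ?_ ?_
  · obtain ⟨p, hp, l, hl, i⟩ := h.exists_flag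
    have l2 : IsPGroup 2 l := (h.a.syl p hp l hl i).isPGroup.to_le le_sup_right
    obtain ⟨z, zp', zl⟩ : ∃ z ∈ p, z ∉ l := by
      by_contra! e
      exact h.a.disj p hp (eq_of_le_of_card_ge e (by rw [h.a.card p hp, h.a'.card l hl]) ▸ hl)
    have zz := h.a.sq p hp z zp'
    have zN := h.a.le p hp zp'
    have zn : z ∈ nor l := h.a'.fix p hp l hl i.symm zp'
    have s0 := h.a.syl p hp l hl i
    have fx : ∀ c ∈ Fx Ω l, z • c = c → c ∈ Fx Ω (p ⊔ l) := fun c hc e => by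
      by_cases hca : a = c
      · exact hca ▸ fx_of_syl H s0
      obtain ⟨W, k, e', -⟩ := B a c hca
      have k1 := le_syl H B hca k e' l2 (h.a'.le l hl) hc
      have k2 := zpowers_le.1 (le_syl H B hca k e' (zp z zz) (zpowers_le.2 zN) ((fz z c).2 e))
      obtain ⟨p', hp', l', hl', i', rfl⟩ := h.flag k
      rcases h.le_flag hp' hl' i' k1 (h.a'.sq l hl) (h.a'.card l hl) with rfl | rfl
      · exact absurd hl (h.a.disj _ hp')
      obtain rfl : p = p' := by_contra fun n => zl (mem_bot.1 (h.symm.inf_bot hp hp' n ▸ mem_inf.2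
        ⟨zp', (h.a.inv2 p' hp' l hl i' z k2 zz).resolve_right zl⟩) ▸ one_mem _)
      exact e'
    have k := ncard_part (Fx Ω l \ Fx Ω (p ⊔ l)) {W | (∃ c, IsSyl 2 W (N c)) ∧ l ≤ W ∧ z ∈ nor W ∧ z ∉ W}
      (fun c W => c ∈ Fx Ω W) (n := f)
      (fun c hc => by
        have ne : c ≠ z • c := fun e => hc.2 (fx c hc.1 e.symm)
        obtain ⟨W, k1, k2⟩ := L c _ ne
        have e2 : z • z • c = c := by rw [smul_smul, zz, one_smul]
        refine ⟨W, ⟨⟨⟨c, k1⟩, le_syl H B ne k1 (fx_of_syl H k2) l2 (sc H B L l2 (h.a'.le l hl) hc.1)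
          (stab_Fx zn hc.1), cj_eq_self_iff.1 (syl_eq H B ne k1 (fx_of_syl H k2) ?_
            (smul_mem_Fx.2 (fx_of_syl H k1))), fun e => ne (fx_of_syl H k1 z e).symm⟩, fx_of_syl H k1⟩,
          fun W' ⟨⟨⟨_, k3⟩, _, k4, _⟩, k5⟩ => syl_eq H B ne k1 (fx_of_syl H k2) (syl H B L k3 k5) (stab_Fx k4 k5)⟩
        have := k2.cj z
        rwa [← H.equi, e2] at this)
      fun W ⟨⟨d, hd⟩, k1, k2, k3⟩ => by
        rw [← cF d W hd]
        congr 1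
        ext c
        refine ⟨fun k => k.2, fun k => ⟨⟨fun x hx => k x (k1 hx), fun k' => k3 ?_⟩, k⟩⟩
        exact zpowers_le.1 ((syl H B L hd k).le_of_le_normalizer' (zp z zz)
          (zpowers_le.2 (sc' z a c zz zN (k' z (mem_sup_left zp')))) (zpowers_le.2 k2))
    rw [Set.ncard_sdiff (show Fx Ω (p ⊔ l) ⊆ Fx Ω l from fun c hc x hx => hc x (mem_sup_right hx)), card_Fx H B cF l2 (h.a'.le l hl),
      syl_line h hl, cF a _ s0] at k
    have co : f.Coprime (f - 1) := by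
      obtain ⟨f, rfl⟩ : ∃ n, f = n + 1 := ⟨f - 1, by omega⟩
      simp
    exact co.dvd_of_dvd_mul_right ⟨_, by rw [mul_comm f, ← k, add_mul]; omega⟩
  have n0 := card_Fx H B cF (a := a) (X := ⊥) IsPGroup.of_bot bot_le
  rw [show Fx Ω (⊥ : Subgroup G) = Set.univ from Set.eq_univ_of_forall fun c x hx => by
    rw [mem_bot.1 hx, one_smul], Set.ncard_univ] at n0
  simp only [bot_le, and_true, h.card_syl] at n0
  have cj : ∀ x ∈ {z : G | orderOf z = 2 ∧ ∃ c, z ∈ N c}, ∀ g : G, g * x * g⁻¹ ∈ {z : G | orderOf z = 2 ∧ ∃ c, z ∈ N c} :=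
    fun x ⟨h1, c, h2⟩ g => ⟨by rw [← MulAut.conj_apply, MulEquiv.orderOf_eq, h1], _, H.conj_mem g h2⟩
  have sq : ∀ x : G, orderOf x = 2 → x * x = 1 := fun x e => by rw [← pow_two, ← e, pow_orderOf_eq_one]
  have ci : ∀ x ∈ {z : G | orderOf z = 2 ∧ ∃ c, z ∈ N c},
      Nat.card {c : Ω // x • c = c} = 1 + (2 * 2 ^ m + 1) * (f - 1) := fun x ⟨h1, c, h2⟩ => by
    obtain ⟨P', Q', h'⟩ := H.pl c
    rw [← syl_inv h' h2 (sq x h1) (fun e => by simp [e] at h1), ← card_Fx H B cF (zp x (sq x h1)) (zpowers_le.2 h2),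
      show Fx Ω (zpowers x) = {c | x • c = c} from Set.ext (fz x)]
    rfl
  have e1 := H.t2.count_one _ cj ci a
  have e2 := H.t2.count_move _ cj ci hab
  have e3 : {x | x ∈ {z : G | orderOf z = 2 ∧ ∃ c, z ∈ N c} ∧ x • a = a}.ncard = nI (N a) := by
    rw [nI, ← Set.ncard_image_of_injective _ (N a).subtype_injective]
    congr 1
    ext x
    exact ⟨fun ⟨⟨h1, c, h2⟩, h3⟩ => ⟨⟨x, sc' x c a (sq x h1) h2 h3⟩, (orderOf_coe _).symm.trans h1, rfl⟩,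
      fun ⟨y, h1, e⟩ => e ▸ ⟨⟨(orderOf_coe y).trans h1, a, y.2⟩, H.le a y.2⟩⟩
  rw [e3, h.nI] at e1
  generalize {x | x ∈ {z : G | orderOf z = 2 ∧ ∃ c, z ∈ N c} ∧ x • a = b}.ncard = β at e2
  generalize {z : G | orderOf z = 2 ∧ ∃ c, z ∈ N c}.ncard = j at e1 e2
  obtain ⟨g, rfl⟩ : ∃ n, f = n + 2 := ⟨f - 2, by omega⟩
  obtain ⟨q, hq⟩ : ∃ q, 2 ^ m = q + 1 := ⟨2 ^ m - 1, by omega⟩
  rw [hq] at n0 e1 e2 ⊢
  rw [show g + 2 - 1 = g + 1 from rfl] at n0 e1 e2 ⊢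
  rw [show Nat.card Ω - (1 + (2 * (q + 1) + 1) * (g + 1)) = (g + 1) * ((q + 1) ^ 2 * (q + 1 + 2)) from
    Nat.sub_eq_of_eq_add (by rw [n0]; ring), show Nat.card Ω - 1 = ((q + 1) ^ 2 + (q + 1) + 1) * (q + 1 + 1) * (g + 1) by
      omega] at e2
  rw [show (q + 1) ^ 2 - 1 = q * (q + 2) from Nat.sub_eq_of_eq_add (by ring)] at e1
  refine ⟨β, Nat.eq_of_mul_eq_mul_left (show 0 < Nat.card Ω * (((q + 1) ^ 2 + (q + 1) + 1) * (q + 1 + 1) * (g + 1)) by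
    rw [n0]; positivity) ?_⟩
  rw [Nat.add_sub_cancel]
  zify at e1 e2 ⊢
  linear_combination (1 + (2 * (q + 1) + 1) * (g + 1) : ℤ) * e2 - ((g + 1) * ((q + 1) ^ 2 * (q + 1 + 2)) : ℤ) * e1

end H23.HP
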