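import Cfsg.Agent.H82.HPKit
import Cfsg.Agent.H90.HrLK

/-! HP tower, job PG: the geometry of case P. -/

set_option autoImplicit false
set_option linter.unusedSectionVars false

namespace H23.HP

open MulAction Cfsg Subgroup H89.K H98 H82.HR H82.HP
open H90.HR (ncard_part smul_mem_Fx Fx_cj stab_Fx)

universe u v

theorem jobPG : JobPG.{u, v} := by
  intro G Ω _ _ _ N P L x m H C E
  have := H.t2.finite
  have fa : ∀ a (X : Subgroup G), X ≤ N a → a ∈ Fx Ω X := fun a X h g hg => H.le a (h hg)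
  have k1 : ∀ a, ∀ p ∈ P a, ∀ c, a ≠ c → (c ∈ Fx Ω p ↔ x a c = p) := fun a p hp c hc =>
    ⟨fun k => (C.pl a).fix_only hp (C.mem a c hc) ((le_inf ((C.pl a).a.le p hp) k).trans (C.nor a c hc)),
      fun e => e ▸ fun _ hg => C.le a c hc ((C.pl a).self_le (C.mem a c hc) hg)⟩
  have k2 : ∀ a, ∀ l ∈ L a, ∀ c, a ≠ c → Inc (x a c) l → c ∈ Fx Ω l := fun a l hl c hc i _ hg =>
    C.le a c hc (le_MM hl i hg)
  have k3 : ∀ a, ∀ l ∈ L a, ∀ z ∈ l, z ≠ 1 → ∀ c, a ≠ c → z • c = c → Inc (x a c) l := fun a l hl z hz z1 c hc e =>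
    ((C.pl a).nor_iff hl hz z1 (C.mem a c hc)).1 (C.nor a c hc ⟨(C.pl a).a'.le l hl hz, e⟩)
  have k4 : ∀ a, ∀ l ∈ L a, ∀ c ∈ Fx Ω l, a ≠ c → Inc (x a c) l := fun a l hl c k hc => by
    obtain ⟨p, -, i, -⟩ := (C.pl a).third hl ⊥ ⊥
    obtain ⟨z, -, hz, z1⟩ := i.exists
    exact k3 a l hl z hz z1 c hc (k z hz)
  have memP : ∀ a, ∀ p ∈ P a, ∀ c, p ∈ P c ↔ c ∈ Fx Ω p := fun a p hp c =>
    ⟨fun k => fa c p ((C.pl c).a.le p k), fun k => by
      by_cases e : a = c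
      · exact e ▸ hp
      · rw [← (k1 a p hp c e).1 k, (E a c e).1]
        exact C.mem c a (Ne.symm e)⟩
  have memL : ∀ a, ∀ l ∈ L a, ∀ c, l ∈ L c ↔ c ∈ Fx Ω l := fun a l hl c =>
    ⟨fun k => fa c l ((C.pl c).a'.le l k), fun k => by
      by_cases e : a = c
      · exact e ▸ hl
      · refine ((C.pl c).max (((le_MM hl (k4 a l hl c k e)).trans (E a c e).2.le).trans (C.pl c).MM_le)
          ((C.pl a).a'.sq l hl) ((C.pl a).a'.card l hl)).resolve_left fun hp => ?_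
        exact (C.pl a).a.disj l ((memP c l hp a).2 (fa a l ((C.pl a).a'.le l hl))) hl⟩
  have line : ∀ c d : Ω, c ≠ d → ∀ p ∈ P c, p ∈ P d → p = x c d := fun c d e p h1 h2 =>
    ((k1 c p h1 d e).1 ((memP c p h1 d).1 h2)).symm
  have sub : ∀ a, ∀ p ∈ P a, ∀ l ∈ L a, Inc p l → Fx Ω p ⊆ Fx Ω l := fun a p hp l hl i c hc => by
    by_cases e : a = c
    · exact e ▸ fa a l ((C.pl a).a'.le l hl)
    · exact k2 a l hl c e ((k1 a p hp c e).1 hc ▸ i)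
  have fixL : ∀ a, ∀ l ∈ L a, ∀ z ∈ l, z ≠ 1 → ∀ c : Ω, z • c = c → c ∈ Fx Ω l := fun a l hl z hz z1 c k => by
    by_cases e : a = c
    · exact e ▸ fa a l ((C.pl a).a'.le l hl)
    · exact k2 a l hl c e (k3 a l hl z hz z1 c e k)
  have sc : SC N := fun c d z hz zz k => by
    by_cases e : d = c
    · exact e ▸ hz
    · exact (C.pl c).MM_le ((E d c e).2.le ((C.pl d).inv_mem_MM hz zz (C.mem d c e) (C.nor d c e ⟨hz, k⟩)))
  obtain ⟨a₀, b₀, -, hab, -⟩ := H.t2.big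
  obtain ⟨f, hf⟩ : ∃ f, (Fx Ω (x a₀ b₀)).ncard = f := ⟨_, rfl⟩
  have cF : ∀ a, ∀ p ∈ P a, (Fx Ω p).ncard = f := fun a p hp => by
    obtain ⟨g, rfl⟩ := H.t2.trans a₀ a
    obtain ⟨k, -, rfl⟩ := (C.pl _).trP (C.equiP g a₀ _ (C.mem a₀ b₀ hab)) hp
    rw [cj_cj, Fx_cj, Set.ncard_image_of_injective _ (MulAction.injective _), hf]
  have cnt : ∀ a (T : Set Ω) (S : Set (Subgroup G)), a ∈ T → S ⊆ P a → (∀ c, a ≠ c → (c ∈ T ↔ x a c ∈ S)) →
      T.ncard = 1 + S.ncard * (f - 1) := fun a T S ha hS hT => by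
    rw [← ncard_part (T \ {a}) S (fun c W => c ∈ Fx Ω W) (n := f - 1)
      (fun c hc => ⟨x a c, ⟨(hT c (Ne.symm hc.2)).1 hc.1, (k1 a _ (C.mem a c (Ne.symm hc.2)) c (Ne.symm hc.2)).2 rfl⟩,
        fun W k => ((k1 a W (hS k.1) c (Ne.symm hc.2)).1 k.2).symm⟩)
      fun W hW => by
        rw [← cF a W (hS hW), ← Set.ncard_sdiff_singleton_of_mem ((memP a W (hS hW) a).1 (hS hW))]
        congr 1
        ext c
        exact ⟨fun k => ⟨k.2, k.1.2⟩, fun k => ⟨⟨(hT c (Ne.symm k.2)).2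
          ((k1 a W (hS hW) c (Ne.symm k.2)).1 k.1 ▸ hW), k.2⟩, k.1⟩⟩, add_comm,
      Set.ncard_sdiff_singleton_add_one ha]
  have cL : ∀ a, ∀ l ∈ L a, (Fx Ω l).ncard = 1 + (2 ^ m + 1) * (f - 1) := fun a l hl =>
    (C.pl a).a.cI l hl ▸ cnt a _ {p | p ∈ P a ∧ Inc p l} (fa a l ((C.pl a).a'.le l hl)) (fun _ k => k.1)
      fun c e => ⟨fun k => ⟨C.mem a c e, k4 a l hl c k e⟩, fun k => k2 a l hl c e k.2⟩
  have two : 2 ≤ f := hf ▸ (Set.one_lt_ncard (Set.toFinite _)).2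
    ⟨a₀, fa _ _ ((C.pl a₀).a.le _ (C.mem _ _ hab)), b₀, (k1 _ _ (C.mem _ _ hab) _ hab).2 rfl, hab⟩
  refine ⟨f, memP, memL, fun c d e => ⟨x c d, ⟨C.mem c d e, (E c d e).1 ▸ C.mem d c e.symm⟩,
    fun p k => line c d e p k.1 k.2⟩, sub, fun a p hp l hl c h1 h2 e =>
      (k1 a p hp c e.symm).1 h1 ▸ k4 a l hl c h2 e.symm, fixL, fun a p hp g hg c hc => ?_, sc,
    fun a p hp g hg k => H.t2.faith g fun c => ?_, cF, cL, ?_, two, ?_, fun a l hl c hc d hd c' hc' d' hd' e e' => ?_⟩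
  · by_cases e : a = c
    · exact e ▸ H.le a ((C.pl a).MM_le hg)
    · exact C.le a c e ((k1 a p hp c e).1 hc ▸ hg)
  · by_cases e : a = c
    · exact k c (e ▸ (memP a p hp a).1 hp)
    obtain ⟨y, hy, e1⟩ := (C.pl a).trP hp (C.mem a c e)
    obtain ⟨c, hc', rfl⟩ : c ∈ (fun c => y • c) '' Fx Ω p :=
      Fx_cj (Ω := Ω) y p ▸ (k1 a _ (e1 ▸ C.mem a c e) c e).2 e1.symm
    exact fix_of_comm (mem_centralizer_iff.1 hg y hy) (k c hc')
  · rw [← Set.ncard_univ, ← (C.pl a₀).a.cP]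
    exact cnt a₀ _ _ trivial subset_rfl fun c e => iff_of_true trivial (C.mem _ c e)
  · have h := C.pl a₀
    obtain ⟨p, hp, l, hl, i⟩ := h.exists_flag
    obtain ⟨l', hl', i', n, -⟩ := h.symm.third hp l l
    obtain ⟨z, zl, zp, z1⟩ := i'.exists
    have zz := h.a.sq p hp z zp
    have k := ncard_part (Fx Ω l \ Fx Ω p)
      {W | (∃ c, W ∈ P c) ∧ Fx Ω W ⊆ Fx Ω l ∧ z ∈ nor W ∧ ¬ Fx Ω W ⊆ Fx Ω l'} (fun c W => c ∈ Fx Ω W) (n := f)
      (fun c hc => by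
        have nl : c ∉ Fx Ω l' := fun k => hc.2 (by
          by_cases e : a₀ = c
          · exact e ▸ (memP _ p hp _).1 hp
          · exact (k1 _ p hp c e).2 (h.symm.line_eq hl hl' n.symm (C.mem _ c e) hp (k4 _ l hl c hc.1 e).symm
              (k4 _ l' hl' c k e).symm i.symm i'))
        have ne : c ≠ z • c := fun e => nl (fixL _ l' hl' z zl z1 c e.symm)
        have e2 : z • z • c = c := by rw [smul_smul, zz, one_smul]
        have m1 := C.mem c _ ne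
        have m2 : x c (z • c) ∈ P (z • c) := (E c _ ne).1 ▸ C.mem _ c ne.symm
        have lc := (memL _ l hl c).2 hc.1
        refine ⟨x c (z • c), ⟨⟨⟨c, m1⟩, sub c _ m1 l lc (k4 c l lc _ (stab_Fx (h.a'.fix p hp l hl i.symm zp) hc.1) ne),
          cj_eq_self_iff.1 (line c _ ne _ (by simpa only [e2] using C.equiP z _ _ m2) (C.equiP z _ _ m1)),
          fun k => nl (k ((memP c _ m1 c).1 m1))⟩, (memP c _ m1 c).1 m1⟩,
          fun W ⟨⟨⟨d, k3⟩, _, k4, _⟩, k5⟩ => line c _ ne W ((memP d W k3 c).2 k5) ((memP d W k3 _).2 (stab_Fx k4 k5))⟩)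
      fun W ⟨⟨d, hd⟩, k1, k2, k3⟩ => by
        rw [← cF d W hd]
        congr 1
        ext c
        refine ⟨fun k => k.2, fun k => ⟨⟨k1 k, fun k' => k3 ?_⟩, k⟩⟩
        have lc := (memL _ l' hl' c).2 (sub _ p hp l' hl' i'.symm k')
        have wc := (memP d W hd c).2 k
        exact sub c W wc l' lc (((C.pl c).nor_iff lc zl z1 wc).1 k2)
    rw [Set.ncard_sdiff (sub _ p hp l hl i), cL _ l hl, cF _ p hp] at k
    have co : f.Coprime (f - 1) := by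
      obtain ⟨f, rfl⟩ : ∃ n, f = n + 1 := ⟨f - 1, by omega⟩
      simp
    exact co.dvd_of_dvd_mul_right ⟨_, by rw [mul_comm f, ← k, add_mul]; omega⟩
  · obtain ⟨g, rfl, rfl⟩ := H.t2.two e e'
    have l1 := C.equiL g c l ((memL a l hl c).2 hc)
    have l2 := (memL a l hl _).2 hc'
    obtain ⟨y, hy, e1⟩ := (C.pl _).MM_tr (C.mem _ _ e') l1 l2 (k4 _ _ l1 _ (smul_mem_Fx.2 hd) e') (k4 _ _ l2 _ hd' e')
    exact ⟨y * g, cj_eq_self_iff.1 (by rw [← cj_cj, e1]), by rw [mul_smul]; exact H.le _ ((C.pl _).MM_le hy),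
      by rw [mul_smul]; exact C.le _ _ e' hy⟩

end H23.HP
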