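import Cfsg.Agent.H23.HkC4
import Cfsg.Agent.H84.K3B

/-! HKS, chapter III-2: the two cases of `2`-rank two (`JobM3a`, `JobP1b`). -/

set_option autoImplicit false
set_option linter.unusedSectionVars false

namespace H23.HK

open MulAction Cfsg Subgroup H89.K H65 H7.HKS
open H72.HKS (kit1)
open H3.HK2 (kit2)
open H84.K3 (kit3)

universe u

variable {G Ω : Type u} [Group G] [Finite G] [MulAction G Ω] {U : Ω → Subgroup G} {a b : Ω} {t : G}

theorem mul_sq_one {v w : G} (hv : v * v = 1) (hw : w * w = 1) (hc : v * w = w * v) :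
    v * w * (v * w) = 1 := by
  rw [mul_assoc, ← mul_assoc w, ← hc, mul_assoc, hw, mul_one, hv]

theorem I4.finite (h : I4 U a b t) : Finite Ω :=
  Nat.finite_of_card_ne_zero (by rw [kit1.card h.rg a]; omega)

/-- an element centralising a four-group of `H` preserves `{a, b}` -/
theorem I4.pres (h : I4 U a b t) {v w : G} (hv : Fr t v a b) (h1 : w * t = t * w) (h2 : w * v = v * w) :
    w ∈ St G a b ∨ Sw w a b := by
  have := h.finite
  have e : ({a, b} : Set Ω) = Fx Ω {v, t} := Set.eq_of_subset_of_ncard_le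
    (by
      rintro _ (rfl | rfl)
      exacts [mem_Fx2.2 ⟨hv.2.1.1.1, h.iv.1.1⟩, mem_Fx2.2 ⟨hv.2.1.1.2, h.iv.1.2⟩])
    (by
      rw [Set.ncard_pair h.ne]
      exact h.le2 (sq_of_ord hv.2.1.2) (mem_Cz.2 hv.2.2.2.symm) (ne_of_ord hv.2.1.2) hv.2.2.1.symm)
  have ha : w • a ∈ ({a, b} : Set Ω) :=
    e ▸ mem_Fx2.2 ⟨fix_of_comm h2 hv.2.1.1.1, fix_of_comm h1 h.iv.1.1⟩
  have hb : w • b ∈ ({a, b} : Set Ω) :=
    e ▸ mem_Fx2.2 ⟨fix_of_comm h2 hv.2.1.1.2, fix_of_comm h1 h.iv.1.2⟩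
  rcases ha with ha | ha <;> rcases hb with hb | hb
  · exact absurd (smul_left_cancel w (ha.trans hb.symm)) h.ne
  · exact Or.inl ⟨ha, hb⟩
  · exact Or.inr ⟨ha, hb⟩
  · exact absurd (smul_left_cancel w (ha.trans hb.symm)) h.ne

namespace S4
variable (h : S4 U a b t)
include h

theorem rank_of (H : ∀ v ∈ Cz t, ∀ w ∈ Cz t, v * v = 1 → w * w = 1 → v * w = w * v → v ≠ 1 → v ≠ t →
    w ≠ 1 → w ≠ t → v * w = 1 ∨ v * w = t) : PRankLE 2 2 G := by
  intro A hA h2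
  have sq : ∀ (g : G), ∀ x ∈ A, g * x * g⁻¹ * (g * x * g⁻¹) = 1 := fun g x hx => by
    rw [cj_sq (y := 1) (by rw [← pow_two, h2 x hx]), mul_one, mul_inv_cancel]
  obtain ⟨g, hg⟩ := h.into (A := A) fun x => ⟨1, Subtype.ext (h2 x x.2)⟩
  obtain ⟨v, hv⟩ : ∃ v : G, ∀ x ∈ A, g * x * g⁻¹ ∈ ({1, t, v, v * t} : Set G) := by
    by_cases e : ∃ x ∈ A, g * x * g⁻¹ ≠ 1 ∧ g * x * g⁻¹ ≠ t
    · obtain ⟨x, hx, x1, xt⟩ := e
      refine ⟨g * x * g⁻¹, fun y hy => ?_⟩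
      by_cases y1 : g * y * g⁻¹ = 1
      · exact Or.inl y1
      by_cases yt : g * y * g⁻¹ = t
      · exact Or.inr (Or.inl yt)
      have xy : x * y = y * x := congrArg Subtype.val (hA.is_comm.comm ⟨x, hx⟩ ⟨y, hy⟩)
      rcases H _ (hg x hx) _ (hg y hy) (sq g x hx) (sq g y hy) (by
        calc _ = g * (x * y) * g⁻¹ := by group
          _ = _ := by rw [xy]; group) x1 xt y1 yt with e | e
      · exact Or.inr (Or.inr (Or.inl (mul_left_cancel (e.trans (sq g x hx).symm))))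
      · exact Or.inr (Or.inr (Or.inr (by
          rw [Set.mem_singleton_iff, ← e, ← mul_assoc, sq g x hx, one_mul])))
    · push Not at e
      exact ⟨1, fun x hx => (em _).imp_right fun h1 => Or.inl (e x hx h1)⟩
  calc Nat.card A = (A : Set G).ncard := rfl
    _ ≤ ({1, t, v, v * t} : Set G).ncard := Set.ncard_le_ncard_of_injOn (fun x => g * x * g⁻¹) hv
      fun x _ y _ e => by simpa using e
    _ ≤ 2 ^ 2 := by
      refine (Set.ncard_insert_le _ _).trans (Nat.succ_le_succ ((Set.ncard_insert_le _ _).trans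
        (Nat.succ_le_succ ((Set.ncard_insert_le _ _).trans ?_))))
      rw [Set.ncard_singleton]

/-- without a quaternion group in the kernel the inner involutions `≠ t` are conjugate -/
theorem inn_conj (hq : ¬ HasQ Ω t) {w w' : G} (hw : w ∈ IK U t) (h2 : w * w = 1) (h1 : w ≠ 1) (ht : w ≠ t)
    (hw' : w' ∈ IK U t) (h2' : w' * w' = 1) (h1' : w' ≠ 1) (ht' : w' ≠ t) : IsConj w w' := by
  have : Fact (Nat.Prime 2) := ⟨Nat.prime_two⟩
  obtain ⟨l, hl, k, hk, rfl, ll, kk⟩ := h.inv_dec hw h2 h1 ht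
  obtain ⟨l', hl', k', hk', rfl, ll', kk'⟩ := h.inv_dec hw' h2' h1' ht'
  have k4 : ∀ x : G, x * x = t → IsPGroup 2 (zpowers x) := fun x e => two_zp (k := 2) (by
    rw [show 2 ^ 2 = 2 * 2 from rfl, pow_mul, pow_two x, e, pow_two, h.sq])
  obtain ⟨R, hR, hR'⟩ := H7.exists_isSylowIn_ge (k4 k' kk') (zpowers_le.2 hk')
  obtain ⟨g, hg, e⟩ := hR.exists_conj_le (k4 k kk) (zpowers_le.2 hk)
  have e1 : g * k * g⁻¹ ∈ R := H7.conj_smul_le_iff.1 e k (mem_zpowers k)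
  have e2 : k' ∈ R := hR' (mem_zpowers k')
  have := h.cyc kit3 hq hR.isPGroup hR.le (kk' ▸ mul_mem e2 e2)
  have hc : k' * (g * k * g⁻¹) = g * k * g⁻¹ * k' :=
    congrArg Subtype.val ((IsCyclic.isMulCommutative (α := R)).is_comm.comm ⟨_, e2⟩ ⟨_, e1⟩)
  have e3 : IsConj (l' * k) (l' * (g * k * g⁻¹)) :=
    isConj_of g (by rw [← mul_assoc, h.KL hg hl']; group)
  refine (h.L4K kit3 hl hl' ll ll' hk).trans (e3.trans ?_)
  rcases h.sq_eq hk' (hR.le e1) kk' (by rw [cj_sq kk, (mem_Kh.1 hg).2, mul_inv_cancel_right]) hc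
    with e4 | e4
  · rw [e4]
  · rw [e4, ← mul_assoc]
    have := mem_Cz.1 (h.LC hl')
    exact h.L4K kit3 (mul_mem hl' h.sl) hl' (by
      rw [mul_assoc, ← mul_assoc t, ← this, mul_assoc, h.sq, mul_one, ll']) ll' hk'

theorem two_inn {w s : G} (hw : w ∈ IK U t) (h2 : w * w = 1) (h1 : w ≠ 1) (ht : w ≠ t)
    (hs : s ∈ IK U t) (h2' : s * s = 1) (h1' : s ≠ 1) (ht' : s ≠ t) (hc : w * s = s * w) :
    HasQ Ω t ∨ w * s = 1 ∨ w * s = t := by
  have ws := mul_sq_one h2 h2' hc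
  obtain ⟨l, hl, k, hk, rfl, ll, kk⟩ := h.inv_dec hw h2 h1 ht
  obtain ⟨l', hl', k', hk', rfl, ll', kk'⟩ := h.inv_dec hs h2' h1' ht'
  have e1 : l * k * (l' * k') = l * l' * (k * k') := by
    rw [mul_assoc, ← mul_assoc k, h.KL hk hl']; group
  have e2 : l' * k' * (l * k) = l' * l * (k' * k) := by
    rw [mul_assoc, ← mul_assoc k', h.KL hk' hl]; group
  have e : (l' * l)⁻¹ * (l * l') = k' * k * (k * k')⁻¹ := by
    rw [e1, e2] at hc
    calc _ = (l' * l)⁻¹ * (l * l' * (k * k')) * (k * k')⁻¹ := by group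
      _ = _ := by rw [hc]; group
  rcases h.LK (mul_mem (inv_mem (mul_mem hl' hl)) (mul_mem hl hl'))
    (e ▸ mul_mem (mul_mem hk' hk) (inv_mem (mul_mem hk hk'))) with e3 | e3
  · have e4 : l * l' * (l * l') = 1 := by
      rw [mul_assoc, ← mul_assoc l', inv_mul_eq_one.1 e3, ← mul_assoc, ← mul_assoc, ll, mul_assoc, ll', h.sq]
    refine Or.inr (h.Kinv ?_ ws)
    rw [e1]
    refine mul_mem ?_ (mul_mem hk hk')
    rcases h.Linv (mul_mem hl hl') e4 with e5 | e5 <;> rw [e5]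
    exacts [one_mem _, t_mem_Kh]
  · refine Or.inl ⟨k, hk, k', hk', kk, kk', ?_⟩
    rw [e3, eq_mul_inv_iff_mul_eq] at e
    rw [← e, ← mul_assoc, mul_inv_cancel_right, eq_inv_iff_mul_eq_one, mul_assoc, kk, h.sq]

theorem p1b_key {v v' w : G} (hv : Fr t v a b) (h1 : Nat.card (U a) % 4 = 1) (hq : ¬ HasQ Ω t)
    (sv : SLt U v) (hv' : Fr t v' a b) (h2 : w * w = 1) (wt : w * t = t * w) (wv : w * v' = v' * w) :
    w = 1 ∨ w = t ∨ w = v' ∨ w = t * v' := by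
  rcases h.pres hv' wt wv with hs | hs
  · exact h.c4.noE8 a b t v' w h.ne hv' hs h2 wt wv
  exfalso
  have inn : ∀ {s x : G}, I4 U a b s → Fr s x a b → x ∈ IK U s := fun h e =>
    (h.in_iff_of_fix kit3 (sq_of_ord e.2.1.2) (mem_Cz.2 e.2.2.2.symm) (ne_of_ord e.2.1.2) e.2.2.1.symm
      e.2.1.1.1).2 h1
  have cj : ∀ {x : G}, Fr t x a b → IsConj t x := fun e =>
    ((h.c4.slc h.ne h.iv h.sl).2.1 v hv.2.1 sv).trans (h.inn_conj hq (inn h.toI4 hv) (sq_of_ord hv.2.1.2)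
      (ne_of_ord hv.2.1.2) hv.2.2.1.symm (inn h.toI4 e) (sq_of_ord e.2.1.2) (ne_of_ord e.2.1.2) e.2.2.1.symm)
  have ns : ∀ x ∈ St G a b, w ≠ x := fun x hx e => h.ne ((e ▸ hx.1 : w • a = a).symm.trans hs.1)
  have fin : ∀ {s x : G}, IsConj t s → Fr s x a b → w * s = s * w → w * x = x * w → ¬ Inn U {s} w := by
    intro s x c e c1 c2 hi
    have h' := h.of_conj e.1 c
    rcases h'.two_inn ((h'.inn_iff (mem_Cz.2 c1)).1 hi) h2 (ns _ (one_mem _)) (ns _ e.1.1)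
      (inn h'.toI4 e) (sq_of_ord e.2.1.2) (ne_of_ord e.2.1.2) e.2.2.1.symm c2 with e1 | e1 | e1
    · exact hq (hasQ_cj e1 c.symm)
    · exact ns _ (inv_mem e.2.1.1) (eq_inv_of_mul_eq_one_left e1)
    · exact ns _ (mul_mem e.1.1 (inv_mem e.2.1.1)) (eq_mul_inv_of_mul_eq e1)
  have vv := sq_of_ord hv'.2.1.2
  have tv : Iv (t * v') a b := ⟨mul_mem h.iv.1 hv'.2.1.1, ord_of (mul_sq_one h.sq vv hv'.2.2.2)
    fun e => hv'.2.2.1 (mul_right_cancel (e.trans vv.symm))⟩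
  have f1 : Fr t (t * v') a b := ⟨h.iv, tv, fun e => ne_of_ord hv'.2.1.2 (left_eq_mul.1 e), by
    rw [mul_assoc t v', ← hv'.2.2.2]⟩
  have wtv : w * (t * v') = t * v' * w := by rw [← mul_assoc, wt, mul_assoc, wv, mul_assoc]
  have n1 := fin (IsConj.refl t) hv' wt wv
  have n2 := fin (cj hv') ⟨hv'.2.1, h.iv, hv'.2.2.1.symm, hv'.2.2.2.symm⟩ wv wt
  exact fin (cj f1) ⟨tv, h.iv, f1.2.2.1.symm, f1.2.2.2.symm⟩ wtv wt
    ((h.c4.inc h.ne hv' h2 hs wt wv).1 (iff_of_false n1 n2))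

end S4

theorem jobM3a : JobM3a.{u} := by
  intro G Ω _ _ _ U a b z c4 hab hz sl h3 hk
  have h : S4 U a b z := ⟨⟨c4, hab, hz⟩, sl⟩
  have no : ∀ w ∈ IK U z, w * w = 1 → w = 1 ∨ w = z := fun w hw h2 => by
    by_contra! e
    obtain ⟨l, -, k, hk', -, -, kk⟩ := h.inv_dec hw h2 e.1 e.2
    exact hk k hk' kk
  refine ⟨h.rank_of fun v hv w hw vv ww vw v1 vz w1 wz => no _ (h.mul_in kit3 hv hw (Or.inl vv) (Or.inl ww)
    (fun e => (no v e vv).elim v1 vz) fun e => (no w e ww).elim w1 wz) (mul_sq_one vv ww vw), ?_⟩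
  obtain ⟨v, hv, hc⟩ := h.ex_fr kit3 h3 fun w hw h2 hz hc =>
    (no w hw h2).elim (fun e => h.t1 (isConj_one_left.1 (e ▸ hc))) hz
  exact ⟨v, hv, (h.of_conj hv.2.1 hc).sl⟩

theorem jobP1b : JobP1b.{u} := by
  intro G Ω _ _ _ U a b z v c4 hab hv sl h1 hq sv
  have h : S4 U a b z := ⟨⟨c4, hab, hv.1⟩, sl⟩
  have key : ∀ x ∈ IK U z, ∀ w ∈ Cz z, x * x = 1 → w * w = 1 → w * x = x * w → x ≠ 1 → x ≠ z →
      w = 1 ∨ w = z ∨ w = x ∨ w = z * x := by
    intro x hx w hw xx ww wx x1 xz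
    obtain ⟨l, hl, e⟩ := h.move ((h.dich kit3 xx (h.IKC hx) x1 xz).resolve_right fun e => by
      have := e.2.1 hx
      omega).1
    have lz : l * z * l⁻¹ = z := by rw [mem_Cz.1 (h.LC hl), mul_inv_cancel_right]
    have hC : ∀ y ∈ Cz z, l * y * l⁻¹ * z = z * (l * y * l⁻¹) := fun y hy =>
      mem_Cz.1 (mul_mem (mul_mem (h.LC hl) hy) (inv_mem (h.LC hl)))
    have inj : ∀ {y y' : G}, l * y * l⁻¹ = l * y' * l⁻¹ → y = y' := fun e => by simpa using e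
    rcases h.p1b_key (w := l * w * l⁻¹) hv h1 hq sv ⟨h.iv, ⟨e, ord_of (by rw [cj_sq xx]; group)
      fun e => x1 (inj (by rw [e]; group))⟩, fun e => xz (inj (e.symm.trans lz.symm)),
      (hC x (h.IKC hx)).symm⟩ (by rw [cj_sq ww]; group) (hC w hw) (by
        calc _ = l * (w * x) * l⁻¹ := by group
          _ = _ := by rw [wx]; group) with e | e | e | e
    · exact Or.inl (inj (by rw [e]; group))
    · exact Or.inr (Or.inl (inj (e.trans lz.symm)))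
    · exact Or.inr (Or.inr (Or.inl (inj e)))
    · exact Or.inr (Or.inr (Or.inr (inj (by rw [e]; nth_rw 1 [← lz]; group))))
  refine h.rank_of fun x hx w hw xx ww xw x1 xz w1 wz => ?_
  by_cases i1 : x ∈ IK U z
  · rcases key x i1 w hw xx ww xw.symm x1 xz with e | e | e | e
    · exact absurd e w1
    · exact absurd e wz
    · exact Or.inl (e ▸ ww)
    · exact Or.inr (by rw [e, ← mul_assoc, mem_Cz.1 hx, mul_assoc, xx, mul_one])
  by_cases i2 : w ∈ IK U z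
  · rcases key w i2 x hx ww xx xw w1 wz with e | e | e | e
    · exact absurd e x1
    · exact absurd e xz
    · exact Or.inl (e ▸ ww)
    · exact Or.inr (by rw [e, mul_assoc, ww, mul_one])
  by_contra! e
  have i3 := h.mul_in kit3 hx hw (Or.inl xx) (Or.inl ww) i1 i2
  rcases key _ i3 x hx (mul_sq_one xx ww xw) xx (by rw [mul_assoc, ← xw]) e.1 e.2 with e | e | e | e
  · exact x1 e
  · exact xz e
  · exact w1 (left_eq_mul.1 e)
  · exact i1 (e ▸ mul_mem (mem_sup_right t_mem_Kh) i3)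

end H23.HK
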