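import Cfsg.Agent.H23.HkM3a

/-! HKS, chapter III-2: `q ≡ 3 (mod 4)`, cyclic kernel of order at least four (`JobM3b`). -/

set_option autoImplicit false
set_option linter.unusedSectionVars false

namespace H23.HK

open MulAction Cfsg Subgroup H89.K H65 H7.HKS
open H72.HKS (kit1)
open H3.HK2 (kit2)
open H84.K3 (kit3)

universe u

variable {G Ω : Type u} [Group G] [Finite G] [MulAction G Ω] {U : Ω → Subgroup G} {a b : Ω}
  {z v c n : G} {S Q : Subgroup G} {s : ℕ}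

theorem two_zp4 {x : G} (e : x * x = z) (h : z * z = 1) : IsPGroup 2 (zpowers x) := two_zp (k := 2) (by
  rw [show 2 ^ 2 = 2 * 2 from rfl, pow_mul, pow_two x, e, pow_two, h])

theorem I4.cyc_gen (h : I4 U a b z) {R : Subgroup G} (hR : IsPGroup 2 R) (hK : R ≤ Kh Ω {z}) (hz : z ∈ R)
    (hc : IsCyclic R) : ∃ ρ ∈ R, ∃ r : ℕ, ρ ^ 2 ^ r = z ∧ ∀ x ∈ R, ∃ i : ℕ, x = ρ ^ i := by
  have : Fact (Nat.Prime 2) := ⟨Nat.prime_two⟩
  obtain ⟨ρ, hρ⟩ := hc.exists_monoid_generator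
  have gen : ∀ x ∈ R, ∃ i : ℕ, x = (ρ : G) ^ i := fun x hx =>
    (hρ ⟨x, hx⟩).imp fun _ e => (congrArg Subtype.val e).symm
  obtain ⟨r, hr⟩ := IsPGroup.iff_orderOf.1 hR ρ
  rw [← orderOf_coe] at hr
  obtain _ | r := r
  · obtain ⟨i, e⟩ := gen z hz
    rw [orderOf_eq_one_iff.1 hr, one_pow] at e
    exact absurd e h.t1
  refine ⟨ρ, ρ.2, r, (h.Kinv (pow_mem (hK ρ.2) _) ?_).resolve_left ?_, gen⟩
  · rw [← pow_two, ← pow_mul, ← pow_succ, ← hr, pow_orderOf_eq_one]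
  · exact pow_ne_one_of_lt_orderOf (by positivity) (by rw [hr, pow_succ]; have := Nat.pos_of_ne_zero (by positivity : 2 ^ r ≠ 0); omega)

namespace Sy
variable (y : Sy U a b z v S Q c n s) (h : S4 U a b z)
include y h

theorem nL : n ∈ LX U {z} := y.QL (y.hn ▸ pow_mem y.cQ _)
theorem nS : n ∈ S := y.QS (y.hn ▸ pow_mem y.cQ _)
theorem zR : z ∈ S ⊓ Kh Ω {z} := mem_inf.2 ⟨y.QS y.zQ, t_mem_Kh⟩
theorem two : IsPGroup 2 ↥(S ⊓ Kh Ω {z}) := y.syl.isPGroup.to_inf_left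

theorem cjR {g r : G} (hg : g ∈ S) (hr : r ∈ S ⊓ Kh Ω {z}) : g * r * g⁻¹ ∈ S ⊓ Kh Ω {z} :=
  mem_inf.2 ⟨mul_mem (mul_mem hg (mem_inf.1 hr).1) (inv_mem hg),
    H7.conj_mem_of_mem_normalizer (nK (y.syl.le hg)) (mem_inf.1 hr).2⟩

theorem nk_St {k x : G} (hk : k ∈ St G a b) (hx : x ∈ St G a b) : n * k ≠ x := fun e => h.ne (by
  rw [← y.sw.1, eq_mul_inv_of_mul_eq e]
  exact (mul_mem hx (inv_mem hk)).1.symm)

theorem nk_sq {k : G} (hk : k ∈ Kh Ω {z}) (kk : k * k = z) : n * k * (n * k) = 1 := by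
  rw [mul_assoc, ← mul_assoc k, h.KL hk (y.nL h), mul_assoc, kk, ← mul_assoc, y.nn, h.sq]

theorem nk_in {k : G} (hk : k ∈ Kh Ω {z}) : n * k ∈ IK U z := mul_mem_sup (y.nL h) hk

theorem sq_out (vv : v * v = 1) {q r : G} (hq : q ∈ Q) (hr : r ∈ Kh Ω {z}) :
    q * r * v * (q * r * v) = q * (v * q * v⁻¹) * (r * (v * r * v⁻¹)) := by
  rw [mul_assoc q (v * q * v⁻¹), ← mul_assoc _ r, ← h.KL hr (h.cjL (y.syl.le y.vS) (y.QL hq)),
    inv_eq_of_mul_eq_one_right vv]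
  calc _ = q * (r * (v * q * (v * v) * r * v)) := by rw [vv]; group
    _ = _ := by group

theorem nrm (vv : v * v = 1) {r : G} (hr : r ∈ S ⊓ Kh Ω {z})
    (hc : r * (v * r * v⁻¹) = v * r * v⁻¹ * r) : r * (v * r * v⁻¹) = 1 ∨ r * (v * r * v⁻¹) = z := by
  refine y.cv _ (mul_mem hr (y.cjR h y.vS hr)) ?_
  calc _ = v * r * v⁻¹ * (v * v * r * (v * v)⁻¹) := by group
    _ = _ := by rw [vv, hc]; group

/-- `v` inverts the elements of order four of `R` commuting with their conjugate -/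
theorem vk (vv : v * v = 1) {k : G} (hk : k ∈ S ⊓ Kh Ω {z}) (kk : k * k = z)
    (hc : k * (v * k * v⁻¹) = v * k * v⁻¹ * k) : v * k * v⁻¹ = k⁻¹ := by
  rcases y.nrm h vv hk hc with e | e
  · exact eq_inv_of_mul_eq_one_right e
  · exfalso
    rcases y.cv k hk (mul_left_cancel (e.trans kk.symm)) with e | e <;> rw [e] at kk
    exacts [h.t1 (by rw [← kk, mul_one]), h.t1 (kk.symm.trans h.sq)]

/-- an element of order four of the kernel is conjugate into `R` -/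
theorem ex4 {k : G} (hk : k ∈ Kh Ω {z}) (kk : k * k = z) : ∃ g ∈ Kh Ω {z}, g * k * g⁻¹ ∈ S ⊓ Kh Ω {z} ∧
    g * k * g⁻¹ * (g * k * g⁻¹) = z := by
  have : Fact (Nat.Prime 2) := ⟨Nat.prime_two⟩
  obtain ⟨g, hg, e⟩ := y.sylR.exists_conj_le (two_zp4 kk h.sq) (zpowers_le.2 hk)
  exact ⟨g, hg, H7.conj_smul_le_iff.1 e k (mem_zpowers k), by
    rw [cj_sq kk, (mem_Kh.1 hg).2, mul_inv_cancel_right]⟩

/-- one of `n k`, `n k⁻¹` is inner on the fixed points of `v` -/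
theorem w0 (h3 : Nat.card (U a) % 4 = 3) (hv : Fr z v a b) {k : G} (hk : k ∈ Kh Ω {z}) (kk : k * k = z)
    (vk : v * k * v⁻¹ = k⁻¹) : ∃ k' ∈ Kh Ω {z}, (k' = k ∨ k' = k⁻¹) ∧ k' * k' = z ∧ v * k' * v⁻¹ = k'⁻¹ ∧
      n * k' ∈ IK U v ∧ IsConj (k' * v) (n * k' * v) ∧ n * k' * v * (n * k' * v) = 1 := by
  have h' : I4 U a b v := ⟨h.c4, h.ne, hv.2.1⟩
  have key : ∀ x ∈ Kh Ω {z}, x * x = z → v * x * v⁻¹ = x⁻¹ → n * x ∈ Cz v ∧ IsConj (x * v) (n * x * v) ∧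
      n * x * v * (n * x * v) = 1 := fun x hx xx vx => by
    have e : n * x * v = v * (n * x) := by
      refine (mul_inv_eq_iff_eq_mul.1 ?_).symm
      calc v * (n * x) * v⁻¹ = v * n * v⁻¹ * (v * x * v⁻¹) := by group
        _ = _ := by
          rw [y.vn, vx, ← mul_inv_rev, h.KL hx (y.nL h), inv_eq_of_mul_eq_one_right (y.nk_sq h hx xx)]
    have e2 := mul_sq_one (y.nk_sq h hx xx) h'.sq e
    refine ⟨mem_Cz.2 e, ?_, e2⟩
    rw [mul_assoc n] at e2 ⊢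
    refine h.lc_out (mul_mem (mem_Cz.2 (mem_Kh.1 hx).2) (y.syl.le y.vS)) (y.nL h) ?_ e2
      fun e => y.vout ((mul_mem_cancel_left (mem_sup_right hx)).1 e)
    calc _ = x * (v * x * v⁻¹) * (v * v) := by group
      _ = 1 := by rw [vx, h'.sq]; group
  by_cases hi : n * k ∈ IK U v
  · exact ⟨k, hk, Or.inl rfl, kk, vk, hi, (key k hk kk vk).2⟩
  have e1 : k⁻¹ * k⁻¹ = z := by rw [← mul_inv_rev, kk, h.tinv]
  have e2 : v * k⁻¹ * v⁻¹ = k⁻¹⁻¹ := by rw [← congrArg (·⁻¹) vk]; group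
  refine ⟨k⁻¹, inv_mem hk, Or.inr rfl, e1, e2, ?_, (key _ (inv_mem hk) e1 e2).2⟩
  have := h'.mul_in kit3 (key k hk kk vk).1 (mem_Cz.2 hv.2.2.2) (Or.inl (y.nk_sq h hk kk)) (Or.inl h.sq) hi
    fun e => by
      have := (h'.in_iff_of_fix kit3 h.sq (mem_Cz.2 hv.2.2.2) h.t1 hv.2.2.1 h.iv.1.1).1 e
      omega
  rwa [← e1, mul_assoc, mul_inv_cancel_left] at this

end Sy

/-- no inner involution is conjugate to `z` -/
theorem S4.m3b_A (h : S4 U a b z) (h3 : Nat.card (U a) % 4 = 3) (hq : ¬ HasQ Ω z) {w : G} (hw : w ∈ IK U z)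
    (h2 : w * w = 1) (hz : w ≠ z) : ¬ IsConj z w := by
  intro hc
  have w1 : w ≠ 1 := fun e => h.t1 (isConj_one_left.1 (e ▸ hc))
  obtain ⟨v, hv⟩ := h.c4.ex h.ne h.iv
  have vv := sq_of_ord hv.2.1.2
  obtain ⟨S, Q, c, n, s, y⟩ := h.sy kit3 h3 hv
  obtain ⟨-, -, k0, hk0, -, -, kk0⟩ := h.inv_dec hw h2 w1 hz
  obtain ⟨g0, -, hk, kk⟩ := y.ex4 h hk0 kk0
  generalize g0 * k0 * g0⁻¹ = k at hk kk
  have cyc := h.cyc kit3 hq (y.two h) inf_le_right (y.zR h)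
  have cm : ∀ x ∈ S ⊓ Kh Ω {z}, ∀ x' ∈ S ⊓ Kh Ω {z}, x * x' = x' * x := fun x hx x' hx' =>
    congrArg Subtype.val ((IsCyclic.isMulCommutative (α := ↥(S ⊓ Kh Ω {z}))).is_comm.comm ⟨_, hx⟩ ⟨_, hx'⟩)
  obtain ⟨ρ, hρ, r, e, gen⟩ := h.cyc_gen (y.two h) inf_le_right (y.zR h) cyc
  have kS := h.KS hk.2
  obtain ⟨g, e1, e2⟩ := kit1.ext S (zpowers ρ) z (n * k) y.syl.isPGroup y.odd
    (fun s hs => mem_Cz.1 (y.syl.le hs)) (hc.trans (h.inn_conj hq hw h2 w1 hz (y.nk_in h hk.2)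
      (y.nk_sq h hk.2 kk) (y.nk_St h kS (one_mem _)) (y.nk_St h kS h.iv.1)))
    ((y.two h).to_le (zpowers_le.2 hρ)) fun x hx => by
      have hx := zpowers_le.2 hρ hx
      rw [← mul_assoc, h.KL hx.2 (y.nL h), mul_assoc, cm x hx k hk, mul_assoc]
  have hL : ∀ x ∈ S ⊓ Kh Ω {z}, x ^ 2 ^ r ∈ LX U {z} := fun x hx => by
    obtain ⟨i, rfl⟩ := gen x hx
    rw [← pow_mul, mul_comm, pow_mul, e]
    exact pow_mem h.sl i
  have hL' : ∀ x ∈ S, x ^ 2 ^ r ∈ LX U {z} := fun x' hx' => by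
    obtain ⟨q, hq, x, hx, rfl | rfl⟩ := y.dec x' hx'
    · rw [(show Commute q x from (h.KL hx.2 (y.QL hq)).symm).mul_pow]
      exact mul_mem (pow_mem (y.QL hq) _) (hL x hx)
    obtain _ | r := r
    · exfalso
      rcases h.LK (by simpa using hL k hk) hk.2 with e | e <;> rw [e] at kk
      exacts [h.t1 (by rw [← kk, mul_one]), h.t1 (kk.symm.trans h.sq)]
    rw [pow_succ', pow_mul, pow_two, y.sq_out h vv hq hx.2]
    refine pow_mem (mul_mem (mul_mem (y.QL hq) (h.cjL (y.syl.le y.vS) (y.QL hq))) ?_) _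
    rcases y.nrm h vv hx (cm _ hx _ (y.cjR h y.vS hx)) with e | e <;> rw [e]
    exacts [one_mem _, h.sl]
  have e3 := hL' _ (e2 ρ (mem_zpowers ρ))
  rw [conj_pow, e] at e3
  rcases h.Linv e3 (by rw [cj_sq h.sq]; group) with e4 | e4
  · exact h.t1 (by simpa using e4)
  · exact y.nk_St h kS h.iv.1 (by simpa using e1.trans e4.symm)

theorem jobM3b : JobM3b.{u} := by
  rintro G Ω _ _ _ U a b z c4 hab hz sl h3 ⟨k0, hk0, kk0⟩ hq
  have h : S4 U a b z := ⟨⟨c4, hab, hz⟩, sl⟩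
  obtain ⟨v, hv, hc⟩ := h.ex_fr kit3 h3 fun w => h.m3b_A h3 hq
  have h' := h.of_conj hv.2.1 hc
  have vv := h'.sq
  obtain ⟨S, Q, c, n, s, y⟩ := h.sy kit3 h3 hv
  have cyc := h.cyc kit3 hq (y.two h) inf_le_right (y.zR h)
  have cm : ∀ x ∈ S ⊓ Kh Ω {z}, ∀ x' ∈ S ⊓ Kh Ω {z}, x * x' = x' * x := fun x hx x' hx' =>
    congrArg Subtype.val ((IsCyclic.isMulCommutative (α := ↥(S ⊓ Kh Ω {z}))).is_comm.comm ⟨_, hx⟩ ⟨_, hx'⟩)
  obtain ⟨ρ, hρ, r, e, gen⟩ := h.cyc_gen (y.two h) inf_le_right (y.zR h) cyc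
  obtain _ | _ | r := r
  · obtain ⟨g, -, hk, kk⟩ := y.ex4 h hk0 kk0
    obtain ⟨i, e1⟩ := gen _ hk
    rw [e1, show ρ = z by simpa using e, ← (Commute.refl z).mul_pow, h.sq, one_pow] at kk
    exact h.t1 kk.symm
  · have kk : ρ * ρ = z := by simpa [pow_two] using e
    have vk := y.vk h vv hρ kk (cm _ hρ _ (y.cjR h y.vS hρ))
    have vQ : v ∈ normalizer (Q : Set G) := y.nQ y.vS
    have vT : v ∈ Q ⊔ zpowers v := mem_sup_right (mem_zpowers v)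
    have mT : ∀ x ∈ Q ⊔ zpowers v, x ∈ Q ∨ x * v⁻¹ ∈ Q := fun x => mem_sup_zp vQ (vv ▸ one_mem _)
    have cv : ∀ g ∈ S, g * v * g⁻¹ ∈ Q ⊔ zpowers v := fun g hg => by
      obtain ⟨q, hq, x, hx, e1⟩ := y.dec g hg
      have e2 : g * v * g⁻¹ = q * (x * v * x⁻¹) * q⁻¹ := by rcases e1 with rfl | rfl <;> group
      rw [e2]
      refine mul_mem (mul_mem (mem_sup_left hq) ?_) (mem_sup_left (inv_mem hq))
      obtain ⟨i, rfl⟩ := gen x hx
      have : ρ ^ i * v * (ρ ^ i)⁻¹ = z ^ i * v := by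
        have e3 : v * ρ ^ i * v⁻¹ = (ρ ^ i)⁻¹ := by rw [← conj_pow, vk, inv_pow]
        calc _ = ρ ^ i * (v * ρ ^ i * v⁻¹)⁻¹ * v := by group
          _ = _ := by rw [e3, inv_inv, ← kk, (Commute.refl ρ).mul_pow]
      rw [this]
      exact mul_mem (mem_sup_left (pow_mem y.zQ i)) vT
    obtain ⟨g, hg, -⟩ := kit1.tho S (Q ⊔ zpowers v) (n * ρ) (kit1.par h.pre).1 y.syl.isPGroup y.odd
      (sup_le y.QS (zpowers_le.2 y.vS)) (fun g hg => H7.mem_normalizer_of_forall fun x hx => by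
        rcases mT x hx with e1 | e1
        · exact mem_sup_left (H7.conj_mem_of_mem_normalizer (y.nQ hg) e1)
        · rw [show g * x * g⁻¹ = g * (x * v⁻¹) * g⁻¹ * (g * v * g⁻¹) by group]
          exact mul_mem (mem_sup_left (H7.conj_mem_of_mem_normalizer (y.nQ hg) e1)) (cv g hg))
      ⟨ρ, hρ.1, le_antisymm (sup_le (sup_le y.QS (zpowers_le.2 y.vS)) (zpowers_le.2 hρ.1)) fun g hg => by
        obtain ⟨q, hq, x, hx, e1⟩ := y.dec g hg
        obtain ⟨i, rfl⟩ := gen x hx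
        have := mul_mem_sup (mem_sup_left (T := zpowers v) hq) (pow_mem (mem_zpowers ρ) i)
        rcases e1 with rfl | rfl
        exacts [this, mul_mem this (mem_sup_left vT)]⟩
      (y.nk_sq h hρ.2 kk) (mul_mem (y.nS h) hρ.1) fun e1 => by
        rcases mT _ e1 with e1 | e1
        · rcases h.LK ((mul_mem_cancel_left (y.nL h)).1 (y.QL e1)) hρ.2 with e | e <;> rw [e] at kk
          exacts [h.t1 (by rw [← kk, mul_one]), h.t1 (kk.symm.trans h.sq)]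
        · exact y.vout (inv_mem_iff.1 ((mul_mem_cancel_left (y.nk_in h hρ.2)).1 (mem_sup_left (y.QL e1))))
    have sq : g * (n * ρ) * g⁻¹ * (g * (n * ρ) * g⁻¹) = 1 := by rw [cj_sq (y.nk_sq h hρ.2 kk)]; group
    refine h.m3b_A h3 hq (y.nk_in h hρ.2) (y.nk_sq h hρ.2 kk) (y.nk_St h (h.KS hρ.2) h.iv.1)
      (IsConj.trans ?_ (isConj_of g rfl).symm)
    rcases mT _ hg with e1 | e1
    · rcases h.Linv (y.QL e1) sq with e2 | e2
      · exact absurd (by simpa using e2) (y.nk_St h (h.KS hρ.2) (one_mem _))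
      · rw [e2]
    · have := h.lc_out (y.syl.le y.vS) (y.QL e1) vv (by rwa [inv_mul_cancel_right]) y.vout
      rw [inv_mul_cancel_right] at this
      exact hc.trans this
  · have hρ1 := pow_mem hρ (2 ^ r)
    generalize e1 : ρ ^ 2 ^ r = σ at hρ1
    have hk := mul_mem hρ1 hρ1
    have kk : σ * σ * (σ * σ) = z := by rw [← e, ← e1, pow_succ, pow_succ, pow_mul, pow_mul, pow_two, pow_two]
    have vk := y.vk h vv hk kk (cm _ hk _ (y.cjR h y.vS hk))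
    obtain ⟨k', hk', ek, -, -, i1, i2, i3⟩ := y.w0 h h3 hv hk.2 kk vk
    refine h'.m3b_A h3 (fun e => hq (hasQ_cj e hc.symm)) (mul_mem i1 (mem_sup_right t_mem_Kh)) i3
      (fun e => y.nk_St h (h.KS hk') (one_mem _) (by simpa using e)) (IsConj.trans ?_ i2)
    have c1 : IsConj (σ * σ * v) ((σ * σ)⁻¹ * v) := isConj_of v (by rw [← vk]; group)
    have c2 : IsConj v (σ * σ * v) := by
      have e2 : σ * v * σ⁻¹ = σ * (v * σ * v⁻¹)⁻¹ * v := by group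
      rcases y.nrm h vv hρ1 (cm _ hρ1 _ (y.cjR h y.vS hρ1)) with e3 | e3
      · exact isConj_of σ (by rw [e2, eq_inv_of_mul_eq_one_right e3, inv_inv])
      · refine (isConj_of σ ?_).trans c1.symm
        rw [e2, eq_inv_mul_of_mul_eq e3, ← kk]; group
    rcases ek with rfl | rfl
    exacts [c2, c2.trans c1]

end H23.HK
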