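import Cfsg.Agent.H23.HkM3b

/-! HKS, chapter III-2: `q ≡ 3 (mod 4)`, quaternion kernel (`JobM3c`). -/

set_option autoImplicit false
set_option linter.unusedSectionVars false

namespace H23.HK

open MulAction Cfsg Subgroup H89.K H65 H7.HKS
open H72.HKS (kit1)
open H3.HK2 (kit2)
open H84.K3 (kit3)

universe u

variable {G Ω : Type u} [Group G] [Finite G] [MulAction G Ω] {U : Ω → Subgroup G} {a b : Ω}
  {z v c n ρ κ k : G} {S Q : Subgroup G} {s : ℕ}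

theorem S4.nf (h : S4 U a b z) (h3 : Nat.card (U a) % 4 = 3) : NF U z a b := by
  rintro g hg gz ⟨j, hj⟩ l hl
  obtain ⟨F, _, _, x, y, ld, -, eL, -, e4⟩ := h.data
  have hn : ∀ c : Ω, g • c = c → g ∈ normalizer (CU U {z} c : Set G) := fun c hc =>
    H7.mem_normalizer_of_forall fun u hu => mem_inf.2 ⟨by simpa [hc] using h.rg.conj g c u hu.1,
      mul_mem (mul_mem (mem_Cz.2 gz) (mem_inf.1 hu).2) (inv_mem (mem_Cz.2 gz))⟩
  obtain ⟨m, σ, -, e1, -, -, e2⟩ := kit2.semi h.rg.sr h.ne inf_le_left inf_le_left ld g hg (hn a hg.1) (hn b hg.2)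
  obtain ⟨d, φ, -, e3, -⟩ := kit3.out h.rg h.ne h.sub ld
  have e5 : σ = 1 := by
    rw [← (e3 ⟨g, nor_sing.2 (mem_Cz.2 gz)⟩ m σ hg e1).1]
    refine ringEquiv_eq_one (e4.trans h3) (j := j) ?_
    rw [← map_pow, ← map_one φ]
    exact congrArg φ (Subtype.ext hj)
  obtain ⟨c, hc, rfl⟩ := (kit2.bas h.rg.sr h.ne inf_le_left inf_le_left ld).2.2.2.2.2.2.2.2.1 l
    (eL ▸ hl.1) hl.2
  exact mul_inv_eq_iff_eq_mul.1 (by rw [e2 c hc, e5]; rfl)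

theorem zp_comm {x x' : G} (hx : x ∈ zpowers ρ) (hx' : x' ∈ zpowers ρ) : x * x' = x' * x := by
  obtain ⟨i, rfl⟩ := hx
  obtain ⟨j, rfl⟩ := hx'
  exact zpow_mul_comm ρ i j

theorem zp_inv {g x : G} (e : g * ρ * g⁻¹ = ρ⁻¹) (hx : x ∈ zpowers ρ) : g * x * g⁻¹ = x⁻¹ := by
  obtain ⟨i, rfl⟩ := hx
  change g * ρ ^ i * g⁻¹ = (ρ ^ i)⁻¹
  rw [← conj_zpow, e, inv_zpow]

/-- the quaternion group `R` with a `v`-invariant cyclic subgroup of index two -/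
structure Dq (U : Ω → Subgroup G) (a b : Ω) (z v : G) (S Q : Subgroup G) (c n : G) (s : ℕ) (ρ κ k : G) :
    Prop where
  y : Sy U a b z v S Q c n s
  h : S4 U a b z
  vv : v * v = 1
  ρR : ρ ∈ S ⊓ Kh Ω {z}
  κR : κ ∈ S ⊓ Kh Ω {z}
  mem : ∀ g ∈ S ⊓ Kh Ω {z}, g ∈ zpowers ρ ∨ g * κ⁻¹ ∈ zpowers ρ
  κκ : κ * κ = z
  κρ : κ * ρ * κ⁻¹ = ρ⁻¹
  kA : k ∈ zpowers ρ
  kk : k * k = z
  vρ : v * ρ * v⁻¹ ∈ zpowers ρ

theorem Sy.dq (y : Sy U a b z v S Q c n s) (h : S4 U a b z) (vv : v * v = 1) (hq : HasQ Ω z) :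
    ∃ ρ κ k, Dq U a b z v S Q c n s ρ κ k := by
  have : Fact (Nat.Prime 2) := ⟨Nat.prime_two⟩
  rcases kit3.quat _ z (y.two h) (y.zR h) h.iv.2 fun g hg => h.Kinv hg.2 with hc | ⟨ρ, κ, r, hr, -, e1, e2, e3, -, e4⟩
  · exfalso
    obtain ⟨k, hk, k', hk', kk, kk', e⟩ := hq
    obtain ⟨g, -, hg⟩ := y.sylR.exists_conj_le ((two_zp4 kk h.sq).to_sup_of_normal_left' (two_zp4 kk' h.sq)
      (zpowers_le.2 (nor_zp (e ▸ inv_mem (mem_zpowers k))))) (sup_le (zpowers_le.2 hk) (zpowers_le.2 hk'))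
    have e1 : g * k' * g⁻¹ * (g * k * g⁻¹) = g * k * g⁻¹ * (g * k' * g⁻¹) := congrArg Subtype.val
      ((IsCyclic.isMulCommutative (α := ↥(S ⊓ Kh Ω {z}))).is_comm.comm
        ⟨_, H7.conj_smul_le_iff.1 hg k' (mem_sup_right (mem_zpowers _))⟩
        ⟨_, H7.conj_smul_le_iff.1 hg k (mem_sup_left (mem_zpowers _))⟩)
    have e2 : k' * k = k * k' := mul_right_cancel (b := g⁻¹) (by simpa [mul_assoc] using e1)
    rw [e2, mul_inv_cancel_right] at e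
    exact h.t1 (by rw [← kk]; exact mul_eq_one_iff_eq_inv.2 e)
  have ρR := (e4 ρ).2 ⟨1, Or.inl (pow_one ρ).symm⟩
  have κR := (e4 κ).2 ⟨0, Or.inr (by simp)⟩
  have κx : ∀ i : ℕ, κ * ρ ^ i * κ⁻¹ = (ρ ^ i)⁻¹ := fun i => zp_inv e3 (pow_mem (mem_zpowers ρ) i)
  obtain ⟨i, e5 | e5⟩ := (e4 _).1 (y.cjR h y.vS ρR)
  · refine ⟨ρ, κ, ρ ^ 2 ^ (r - 2), y, h, vv, ρR, κR, fun g hg => ?_, e2, e3, pow_mem (mem_zpowers ρ) _, ?_,
      e5 ▸ pow_mem (mem_zpowers ρ) _⟩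
    · obtain ⟨j, rfl | rfl⟩ := (e4 g).1 hg
      exacts [Or.inl (pow_mem (mem_zpowers ρ) _), Or.inr (κx j ▸ inv_mem (pow_mem (mem_zpowers ρ) _))]
    · rw [← pow_two, ← pow_mul, ← pow_succ, show r - 2 + 1 = r - 1 by omega, e1]
  have vz : v * z * v⁻¹ = z := by rw [mem_Cz.1 (y.syl.le y.vS), mul_inv_cancel_right]
  have vi : v⁻¹ = v := inv_eq_of_mul_eq_one_right vv
  have e6 : κ * ρ ^ i * (κ * ρ ^ i) = z := by
    calc _ = κ * ρ ^ i * κ⁻¹ * (κ * κ) * ρ ^ i := by group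
      _ = z := by rw [κx, e2, mul_assoc, ← mem_Cz.1 (y.syl.le (pow_mem ρR i).1), inv_mul_cancel_left]
  have e7 : κ * ρ ^ i * ρ * (κ * ρ ^ i)⁻¹ = ρ⁻¹ := by rw [← e3]; group
  have kR := mul_mem κR (pow_mem ρR i)
  have eκ : κ = κ * ρ ^ i * (ρ ^ i)⁻¹ := by group
  generalize κ * ρ ^ i = k at e5 e6 e7 kR eκ
  have vk : v * k * v⁻¹ = ρ := by
    rw [← e5]
    calc _ = v * v * ρ * (v * v)⁻¹ := by group
      _ = ρ := by rw [vv]; group
  have ρρ : ρ * ρ = z := by rw [← vz, ← cj_sq e6, vk]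
  have e8 : ρ * k * (ρ * k) = z := by
    calc _ = ρ * (k * ρ * k⁻¹) * (k * k) := by group
      _ = z := by rw [e7, e6]; group
  have e9 : ρ * (ρ * k) * ρ⁻¹ = (ρ * k)⁻¹ := by
    rw [eq_inv_iff_mul_eq_one]
    calc _ = ρ * ρ * (k * k) := by group
      _ = 1 := by rw [ρρ, e6, h.sq]
  refine ⟨ρ * k, ρ, ρ * k, y, h, vv, mul_mem ρR kR, ρR, fun g hg => ?_, ρρ, e9, mem_zpowers _, e8, ?_⟩
  · refine mem_sup_zp (nor_zp (e9 ▸ inv_mem (mem_zpowers _)))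
      (ρρ ▸ e8 ▸ mul_mem (mem_zpowers _) (mem_zpowers _)) ?_
    have r1 : ρ ∈ zpowers (ρ * k) ⊔ zpowers ρ := mem_sup_right (mem_zpowers _)
    obtain ⟨j, rfl | rfl⟩ := (e4 g).1 hg
    · exact pow_mem r1 j
    · rw [eκ]
      exact mul_mem (mul_mem ((mul_mem_cancel_left r1).1 (mem_sup_left (mem_zpowers _)))
        (inv_mem (pow_mem r1 i))) (pow_mem r1 j)
  · have : v * (ρ * k) * v⁻¹ = (ρ * k)⁻¹ := by
      rw [eq_inv_iff_mul_eq_one]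
      calc _ = v * ρ * v⁻¹ * (v * k * v⁻¹) * ρ * k := by group
        _ = 1 := by rw [e5, vk, mul_assoc k, ρρ, mem_Cz.1 (y.syl.le kR.1), mul_assoc, e6, h.sq]
    exact this ▸ inv_mem (mem_zpowers _)

namespace Dq
variable (d : Dq U a b z v S Q c n s ρ κ k)
include d

theorem AR {x : G} (hx : x ∈ zpowers ρ) : x ∈ S ⊓ Kh Ω {z} := zpowers_le.2 d.ρR hx
theorem vA {x : G} (hx : x ∈ zpowers ρ) : v * x * v⁻¹ ∈ zpowers ρ :=
  H7.conj_mem_of_mem_normalizer (nor_zp d.vρ) hx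
theorem zA : z ∈ zpowers ρ := d.kk ▸ mul_mem d.kA d.kA
theorem vk : v * k * v⁻¹ = k⁻¹ := d.y.vk d.h d.vv (d.AR d.kA) d.kk (zp_comm d.kA (d.vA d.kA))
theorem vvx (x : G) : v * (v * x * v⁻¹) * v⁻¹ = x := by
  calc _ = v * v * x * (v * v)⁻¹ := by group
    _ = x := by rw [d.vv]; group

theorem κn : κ ∉ zpowers ρ := fun e => d.h.t1 (by
  have := zp_inv d.κρ d.kA
  rw [zp_comm e d.kA, mul_inv_cancel_right] at this
  rw [← d.kk]
  exact mul_eq_one_iff_eq_inv.2 this)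

theorem βA : v * κ * v⁻¹ * κ⁻¹ ∈ zpowers ρ :=
  (d.mem _ (d.y.cjR d.h d.y.vS d.κR)).resolve_left fun e => d.κn (d.vvx κ ▸ d.vA e)

theorem ns {x : G} (hx : x ∈ zpowers ρ) : v * κ * v⁻¹ * κ⁻¹ ≠ x * x := by
  have key : ∀ x ∈ zpowers ρ, v * κ * v⁻¹ * κ⁻¹ ≠ (v * x * v⁻¹)⁻¹ * x := fun x hx e => by
    rcases d.y.cv (x * κ) (mul_mem (d.AR hx) d.κR) (by
      calc _ = v * x * v⁻¹ * (v * κ * v⁻¹ * κ⁻¹) * κ := by group
        _ = _ := by rw [e]; group) with e1 | e1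
    · exact d.κn ((mul_mem_cancel_left hx).1 (e1 ▸ one_mem _))
    · exact d.κn ((mul_mem_cancel_left hx).1 (e1 ▸ d.zA))
  intro e
  rcases d.y.nrm d.h d.vv (d.AR hx) (zp_comm hx (d.vA hx)) with e1 | e1
  · exact key x hx (by rw [e, eq_inv_of_mul_eq_one_right e1, inv_inv])
  · refine key (x * k) (mul_mem hx d.kA) ?_
    rw [e, show v * (x * k) * v⁻¹ = v * x * v⁻¹ * (v * k * v⁻¹) by group, d.vk, eq_inv_mul_of_mul_eq e1,
      ← d.kk, show (x⁻¹ * (k * k) * k⁻¹)⁻¹ * (x * k) = k⁻¹ * (x * x * k) by group,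
      zp_comm (mul_mem hx hx) d.kA, inv_mul_cancel_left]

theorem par : (∀ x ∈ zpowers ρ, v * x * v⁻¹ = x⁻¹) ∧
    ∀ x ∈ zpowers ρ, ∃ u ∈ zpowers ρ, x = u * u ∨ x = u * u * (v * κ * v⁻¹ * κ⁻¹) := by
  obtain ⟨m, hm⟩ := mem_zpowers_iff.1 d.βA
  obtain ⟨j, rfl | rfl⟩ := Int.even_or_odd' m
  · exact absurd (by rw [← hm, two_mul, zpow_add]) (d.ns (zpow_mem (mem_zpowers ρ) j))
  refine ⟨fun x => zp_inv ?_, ?_⟩
  · have hc := zp_comm (mem_zpowers ρ) d.vρ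
    rcases d.y.nrm d.h d.vv d.ρR hc with e | e
    · exact eq_inv_of_mul_eq_one_right e
    · exfalso
      have := (show Commute _ _ from hc).mul_zpow (2 * j + 1)
      rw [e, conj_zpow, hm, zpow_add, zpow_mul, zpow_two, d.h.sq, one_zpow, one_mul, zpow_one,
        zp_comm d.βA (d.vA d.βA)] at this
      refine d.h.t1 (this.trans ?_)
      calc _ = v * (v * κ * v⁻¹) * v⁻¹ * κ⁻¹ := by group
        _ = 1 := by rw [d.vvx, mul_inv_cancel]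
  · rintro _ ⟨i, rfl⟩
    obtain ⟨l, rfl | rfl⟩ := Int.even_or_odd' i
    · exact ⟨_, zpow_mem (mem_zpowers ρ) l, Or.inl (by rw [← zpow_add, two_mul])⟩
    · exact ⟨_, zpow_mem (mem_zpowers ρ) (l - j), Or.inr (by
        rw [← hm, ← zpow_add, ← zpow_add]; exact congrArg _ (by ring))⟩

theorem nrm' {x : G} (hx : x ∈ zpowers ρ) :
    x * κ * (v * (x * κ) * v⁻¹) = x * x * z * (v * κ * v⁻¹ * κ⁻¹)⁻¹ := by
  calc _ = x * (κ * (v * x * v⁻¹) * κ⁻¹) * (κ * (v * κ * v⁻¹ * κ⁻¹) * κ⁻¹) * (κ * κ) := by group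
    _ = _ := by
      rw [zp_inv d.κρ (d.vA hx), zp_inv d.κρ d.βA, d.par.1 x hx, inv_inv, d.κκ, mul_assoc _ _ z,
        zp_comm (inv_mem d.βA) d.zA, ← mul_assoc]

theorem memN {g : G} (hg : g ∈ Q ⊔ zpowers ρ) : ∃ q ∈ Q, ∃ x ∈ zpowers ρ, g = q * x :=
  (H7.mem_sup_iff_of_le_normalizer fun _ hx => d.y.nQ (d.AR hx).1).1 hg

theorem clsA {q x : G} (hq : q ∈ Q) (hx : x ∈ zpowers ρ) (h2 : q * x * (q * x) = 1) (h1 : q * x ≠ 1)
    (hz : q * x ≠ z) : IsConj (q * x) (n * k) := by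
  obtain ⟨qq, xx⟩ := d.h.lk_sq (d.y.QL hq) (d.AR hx).2 h2 h1 hz
  rcases d.h.sq_eq (d.AR d.kA).2 (d.AR hx).2 d.kk xx (zp_comm d.kA hx) with rfl | rfl
  · exact d.h.L4K kit3 (d.y.QL hq) (d.y.nL d.h) qq d.y.nn (d.AR hx).2
  · rw [← mul_assoc]
    exact d.h.L4K kit3 (mul_mem (d.y.QL hq) d.h.sl) (d.y.nL d.h) (by
      rw [mul_assoc, ← mul_assoc z, ← mem_Cz.1 (d.h.LC (d.y.QL hq)), mul_assoc, d.h.sq, mul_one, qq])
      d.y.nn (d.AR d.kA).2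

theorem clsN {g : G} (hg : g ∈ Q ⊔ zpowers ρ) (h2 : g * g = 1) (h1 : g ≠ 1) (hz : g ≠ z) :
    IsConj g (n * k) := by
  obtain ⟨q, hq, x, hx, rfl⟩ := d.memN hg
  exact d.clsA hq hx h2 h1 hz

theorem clsB {q x : G} (hq : q ∈ Q) (hx : x ∈ zpowers ρ) (h2 : q * (x * κ) * (q * (x * κ)) = 1)
    (h1 : q * (x * κ) ≠ 1) (hz : q * (x * κ) ≠ z) : IsConj (q * (x * κ)) (n * κ) := by
  have hK := (mem_inf.1 (mul_mem (d.AR hx) d.κR)).2
  have nL := d.y.nL d.h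
  have qq := (d.h.lk_sq (d.y.QL hq) hK h2 h1 hz).1
  have key : ∀ u ∈ zpowers ρ, ∀ t ∈ zpowers ρ, ∀ l ∈ LX U {z}, IsConj (l * (t * κ)) (l * (u * u * t * κ)) :=
    fun u hu t ht l hl => isConj_of u (by
      calc _ = u * l * (t * (κ * u * κ⁻¹)⁻¹) * κ := by group
        _ = _ := by rw [zp_inv d.κρ hu, inv_inv, d.h.KL (d.AR hu).2 hl, zp_comm ht hu]; group)
  obtain ⟨u, hu, rfl | rfl⟩ := d.par.2 x hx
  · refine (d.h.L4K kit3 (d.y.QL hq) nL qq d.y.nn hK).trans ?_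
    simpa using (key u hu 1 (one_mem _) n nL).symm
  · refine (d.h.L4K kit3 (d.y.QL hq) (inv_mem nL) qq (by rw [← mul_inv_rev, d.y.nn, d.h.tinv]) hK).trans
      ((key u hu _ d.βA _ (inv_mem nL)).symm.trans (isConj_of v ?_).symm)
    rw [← d.y.vn]; group

theorem clsC {q x : G} (hq : q ∈ Q) (hx : x ∈ zpowers ρ) : q * (x * κ) * v * (q * (x * κ) * v) ≠ 1 := by
  intro h2
  have hR := mul_mem (d.AR hx) d.κR
  rw [d.y.sq_out d.h d.vv hq hR.2] at h2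
  have hL := mul_mem (d.y.QL hq) (d.h.cjL (d.y.syl.le d.y.vS) (d.y.QL hq))
  rcases d.h.LK (eq_inv_of_mul_eq_one_right h2 ▸ inv_mem hL) (mul_mem hR (d.y.cjR d.h d.y.vS hR)).2
    with e | e <;> rw [d.nrm' hx] at e
  · refine d.ns (mul_mem hx d.kA) ?_
    rw [← mul_inv_eq_one.1 e, ← d.kk, mul_assoc x k, ← mul_assoc k, zp_comm d.kA hx]; group
  · refine d.ns hx ?_
    rw [zp_comm (mul_mem hx hx) d.zA, mul_assoc, mul_eq_left, mul_inv_eq_one] at e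
    exact e.symm

theorem clsD {q x : G} (hq : q ∈ LX U {z}) (hx : x ∈ zpowers ρ) (h2 : q * x * v * (q * x * v) = 1) :
    IsConj (q * x * v) v := by
  rw [mul_assoc q] at h2 ⊢
  refine (d.h.lc_out (mul_mem (d.y.syl.le (d.AR hx).1) (d.y.syl.le d.y.vS)) hq ?_ h2
    fun e => d.y.vout ((mul_mem_cancel_left (mem_sup_right (d.AR hx).2)).1 e)).symm.trans ?_
  · calc _ = x * (v * x * v⁻¹) * (v * v) := by group
      _ = 1 := by rw [d.par.1 x hx, d.vv]; group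
  have key : ∀ u ∈ zpowers ρ, ∀ t ∈ zpowers ρ, IsConj (t * v) (u * u * t * v) := fun u hu t ht =>
    isConj_of u (by
      calc _ = u * (t * (v * u * v⁻¹)⁻¹) * v := by group
        _ = _ := by rw [d.par.1 u hu, inv_inv, zp_comm ht hu]; group)
  obtain ⟨u, hu, rfl | rfl⟩ := d.par.2 x hx
  · simpa using (key u hu 1 (one_mem _)).symm
  · refine (key u hu _ d.βA).symm.trans (isConj_of (v * κ) ?_).symm
    rw [mul_inv_rev, inv_eq_of_mul_eq_one_right d.vv]; group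

theorem cls {g : G} (hg : g ∈ S) (h2 : g * g = 1) (h1 : g ≠ 1) (hz : g ≠ z) :
    IsConj g (n * k) ∨ IsConj g (n * κ) ∨ IsConj g v := by
  obtain ⟨q, hq, r, hr, rfl | rfl⟩ := d.y.dec g hg <;> rcases d.mem r hr with hx | hx
  · exact Or.inl (d.clsA hq hx h2 h1 hz)
  · rw [← inv_mul_cancel_right r κ] at h2 h1 hz ⊢
    exact Or.inr (Or.inl (d.clsB hq hx h2 h1 hz))
  · exact Or.inr (Or.inr (d.clsD (d.y.QL hq) hx h2))
  · rw [← inv_mul_cancel_right r κ] at h2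
    exact absurd h2 (d.clsC hq hx)

theorem NI : Q ⊔ zpowers ρ ≤ IK U z := sup_le_sup d.y.QL fun _ hx => (d.AR hx).2

/-- Thompson transfer -/
theorem tr {g : G} (hg : g = v ∨ g = n * κ) : IsConj g z ∨ IsConj g (n * k) := by
  have nN : ∀ t ∈ S, t * ρ * t⁻¹ ∈ zpowers ρ → t ∈ normalizer (↑(Q ⊔ zpowers ρ) : Set G) := fun t ht e =>
    normalizer_inf_normalizer_le_normalizer_sup _ _ ⟨d.y.nQ ht, nor_zp e⟩
  have vN := nN v d.y.vS d.vρ
  have mT : ∀ x ∈ Q ⊔ zpowers ρ ⊔ zpowers (κ * v), x ∈ Q ⊔ zpowers ρ ∨ x * (κ * v)⁻¹ ∈ Q ⊔ zpowers ρ :=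
    fun x => mem_sup_zp (mul_mem (nN κ d.κR.1 (d.κρ ▸ inv_mem (mem_zpowers ρ))) vN) (mem_sup_right (by
      have := d.nrm' (one_mem _)
      rw [one_mul, inv_eq_of_mul_eq_one_right d.vv] at this
      rw [mul_assoc, ← mul_assoc v, this]
      exact mul_mem (mul_mem (mul_mem (one_mem _) (one_mem _)) d.zA)
        (inv_mem (by simpa only [inv_eq_of_mul_eq_one_right d.vv] using d.βA))))
  have σT : κ * v ∈ Q ⊔ zpowers ρ ⊔ zpowers (κ * v) := mem_sup_right (mem_zpowers _)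
  have TS : Q ⊔ zpowers ρ ⊔ zpowers (κ * v) ≤ S :=
    sup_le (sup_le d.y.QS (zpowers_le.2 d.ρR.1)) (zpowers_le.2 (mul_mem d.κR.1 d.y.vS))
  have eS : Q ⊔ zpowers ρ ⊔ zpowers (κ * v) ⊔ zpowers v = S := by
    refine le_antisymm (sup_le TS (zpowers_le.2 d.y.vS)) fun t ht => ?_
    obtain ⟨q, hq, r, hr, e⟩ := d.y.dec t ht
    have v1 : v ∈ Q ⊔ zpowers ρ ⊔ zpowers (κ * v) ⊔ zpowers v := mem_sup_right (mem_zpowers v)
    have e1 : q * r ∈ Q ⊔ zpowers ρ ⊔ zpowers (κ * v) ⊔ zpowers v := by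
      refine mul_mem (mem_sup_left (mem_sup_left (mem_sup_left hq))) ?_
      rcases d.mem r hr with hx | hx
      · exact mem_sup_left (mem_sup_left (mem_sup_right hx))
      · exact (mul_mem_cancel_right (inv_mem ((mul_mem_cancel_right v1).1 (mem_sup_left σT)))).1
          (mem_sup_left (mem_sup_left (mem_sup_right hx)))
    rcases e with rfl | rfl
    exacts [e1, mul_mem e1 v1]
  have κS := d.h.KS d.κR.2
  have nκ := d.y.nk_sq d.h d.κR.2 d.κκ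
  have g2 : g * g = 1 := by rcases hg with rfl | rfl; exacts [d.vv, nκ]
  have g1 : g ≠ 1 := by
    rcases hg with rfl | rfl
    exacts [fun e => d.y.vout (e ▸ one_mem _), d.y.nk_St d.h κS (one_mem _)]
  have κN : ∀ l ∈ LX U {z}, l * κ ∉ Q ⊔ zpowers ρ := fun l hl e => by
    obtain ⟨q, hq, x, hx, e⟩ := d.memN e
    have e1 : q⁻¹ * l = x * κ⁻¹ := by rw [inv_mul_eq_iff_eq_mul, ← mul_assoc, ← e, mul_inv_cancel_right]
    rcases d.h.LK (mul_mem (inv_mem (d.y.QL hq)) hl) (e1 ▸ (mul_mem (d.AR hx) (inv_mem d.κR)).2)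
      with e2 | e2 <;> rw [e1] at e2
    · exact d.κn (mul_inv_eq_one.1 e2 ▸ hx)
    · exact d.κn (inv_mem_iff.1 ((mul_mem_cancel_left hx).1 (e2 ▸ d.zA)))
  obtain ⟨t, ht, -⟩ := kit1.tho S _ g (kit1.par d.h.pre).1 d.y.syl.isPGroup d.y.odd TS
    (eS ▸ sup_le le_normalizer (zpowers_le.2 (H7.mem_normalizer_of_forall fun x hx => by
      rcases mT x hx with e | e
      · exact mem_sup_left (H7.conj_mem_of_mem_normalizer vN e)
      · rw [show v * x * v⁻¹ = v * (x * (κ * v)⁻¹) * v⁻¹ * (v * κ * v⁻¹ * κ⁻¹) * (κ * v) by group]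
        exact mul_mem (mem_sup_left (mul_mem (H7.conj_mem_of_mem_normalizer vN e) (mem_sup_right d.βA))) σT)))
    ⟨v, d.y.vS, eS⟩ g2 (by rcases hg with rfl | rfl; exacts [d.y.vS, mul_mem (d.y.nS d.h) d.κR.1]) fun e => by
      rcases hg with rfl | rfl <;> rcases mT _ e with e | e
      · exact d.y.vout (d.NI e)
      · have := H7.inv_conj_mem_of_mem_normalizer vN e
        refine κN 1 (one_mem _) (inv_mem_iff.1 ?_)
        simpa using e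
      · exact κN n (d.y.nL d.h) e
      · refine d.y.vout (inv_mem_iff.1 ((mul_mem_cancel_left (d.y.nk_in d.h d.κR.2)).1
          ((mul_mem_cancel_right (mem_sup_right (inv_mem d.κR.2))).1 ?_)))
        simpa [mul_assoc] using d.NI e
  have t2 : t * g * t⁻¹ * (t * g * t⁻¹) = 1 := by rw [cj_sq g2]; group
  rcases mT _ ht with e | e
  · by_cases hz : t * g * t⁻¹ = z
    · exact Or.inl (isConj_of t hz)
    · exact Or.inr ((isConj_of t rfl).trans (d.clsN e t2 (fun e => g1 (by simpa using e)) hz))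
  · obtain ⟨q, hq, x, hx, e⟩ := d.memN e
    refine absurd ?_ (d.clsC hq hx)
    rwa [show q * (x * κ) * v = t * g * t⁻¹ by rw [eq_mul_of_mul_inv_eq e]; group]

theorem caseV (h3 : Nat.card (U a) % 4 = 3) (hv : Fr z v a b) (hc : IsConj z v) : IsConj z (n * k) := by
  have h' := d.h.of_conj hv.2.1 hc
  obtain ⟨k', hk', ek, kk', -, i1, -, i3⟩ := d.y.w0 d.h h3 hv (d.AR d.kA).2 d.kk d.vk
  have kA : k' ∈ zpowers ρ := by rcases ek with rfl | rfl; exacts [d.kA, inv_mem d.kA]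
  have sq := d.y.nk_sq d.h hk' kk'
  have ns := fun x => d.y.nk_St d.h (x := x) (d.h.KS hk')
  refine (hc.trans (d.clsD (d.y.nL d.h) kA i3).symm).trans (IsConj.trans ?_
    (d.clsA (d.y.hn ▸ pow_mem d.y.cQ _) kA sq (ns _ (one_mem _)) (ns _ d.h.iv.1)))
  obtain ⟨l, hl, m, hm, e, ll, -⟩ := h'.inv_dec i1 sq (ns _ (one_mem _)) (ns _ hv.2.1.1)
  rw [e, mul_assoc, (mem_Kh.1 hm).2, ← mul_assoc]
  exact h'.L4K kit3 (mul_mem hl h'.sl) hl (by
    rw [mul_assoc, ← mul_assoc v, ← mem_Cz.1 (h'.LC hl), mul_assoc, h'.sq, mul_one, ll]) ll hm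

theorem caseK (h3 : Nat.card (U a) % 4 = 3) (hc : IsConj z (n * κ)) : IsConj z (n * k) := by
  have : Fact (Nat.Prime 2) := ⟨Nat.prime_two⟩
  have h := d.h
  have κK := (mem_inf.1 d.κR).2
  have yI := d.y.nk_in h κK
  have y2 := d.y.nk_sq h κK d.κκ
  have ns := fun x => d.y.nk_St h (x := x) (h.KS κK)
  have ya : (n * κ) • a ≠ a := by rw [mul_smul, (h.KS κK).1, d.y.sw.1]; exact h.ne.symm
  generalize n * κ = y at hc yI y2 ns ya
  have f0 : Fx Ω {y, z} = ∅ := ((h.dich kit3 y2 (h.IKC yI) (ns _ (one_mem _)) (ns _ h.iv.1)).resolve_left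
    fun e => by have := e.2.1 yI; omega).1
  obtain ⟨g, rfl⟩ := isConj_iff.1 hc
  have zC : g⁻¹ * z * g ∈ Cz z := mem_Cz.2 (by
    calc _ = g⁻¹ * (z * (g * z * g⁻¹)) * g := by group
      _ = _ := by rw [← mem_Cz.1 (h.IKC yI)]; group)
  have z2 : g⁻¹ * z * g * (g⁻¹ * z * g) = 1 := by simpa using cj_sq h.sq g⁻¹
  have z1 : g⁻¹ * z * g ≠ 1 := fun e => h.t1 (by
    calc z = g * (g⁻¹ * z * g) * g⁻¹ := by group
      _ = 1 := by rw [e]; group)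
  have zz : g⁻¹ * z * g ≠ z := fun e => ns z h.iv.1 (by nth_rw 1 [← e]; group)
  obtain ⟨l, hl, m, hm, e, ll, -⟩ := h.inv_dec (((h.dich kit3 z2 zC z1 zz).resolve_left fun e => by
    obtain ⟨p, hp⟩ := Set.nonempty_of_ncard_ne_zero (e.1.trans_ne two_ne_zero)
    have hp := mem_Fx2.1 hp
    rw [mul_smul, mul_smul, inv_smul_eq_iff] at hp
    exact (f0 ▸ mem_Fx2.2 ⟨conj_smul_eq.2 hp.2, hp.1⟩ : g • p ∈ (∅ : Set Ω))).2.2 h3) z2 z1 zz
  obtain ⟨u, hu, e1⟩ := h.L4 kit3 (d.y.nL h) hl d.y.nn ll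
  have cL := h.cjL (h.LC hu) (d.y.QL d.y.cQ)
  obtain ⟨j, hj⟩ : ∃ j, s = j + 2 := ⟨s - 2, by have := d.y.s2; omega⟩
  have cn : c ^ 2 ^ j = n := by rw [← d.y.hn, hj, Nat.add_sub_cancel]
  have cp : (g * (u * c * u⁻¹) * g⁻¹) ^ 2 ^ (j + 1) = g * z * g⁻¹ := by
    rw [conj_pow, conj_pow, pow_succ, pow_mul, cn, pow_two, d.y.nn, mem_Cz.1 (h.LC hu), mul_inv_cancel_right]
  have cC : g * (u * c * u⁻¹) * g⁻¹ ∈ Cz z := mem_Cz.2 (by
    have e2 : u * c * u⁻¹ * (g⁻¹ * z * g) = g⁻¹ * z * g * (u * c * u⁻¹) := by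
      rw [e, mul_assoc l, h.KL hm cL, ← mul_assoc, ← mul_assoc l, ← e1, ← cn]; group
    calc _ = g * (u * c * u⁻¹ * (g⁻¹ * z * g)) * g⁻¹ := by group
      _ = _ := by rw [e2]; group)
  generalize g * (u * c * u⁻¹) * g⁻¹ = η at cp cC
  have η2 : η ^ 2 ^ (j + 2) = 1 := by rw [pow_succ, pow_mul, cp, pow_two, y2]
  have ηI : η ∉ IK U z := fun e => ya (cp ▸ kit3.ex h.rg (j + 1) h.ne h.sub (h.c4.tl h.ne h.iv).1
    ((h.c4.tl h.ne h.iv).2.trans h3) (by simpa only [hj] using d.y.nd) η ⟨_, η2⟩ ((h.inn_iff cC).2 e) a h.aF)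
  obtain ⟨t, ht, e2⟩ := d.y.syl.exists_conj_le (two_zp η2) (zpowers_le.2 cC)
  have e3 : t * η * t⁻¹ * (t * η * t⁻¹) ∈ Q ⊔ zpowers ρ := by
    obtain ⟨q, hq, r, hr, e4 | e4⟩ := d.y.dec _ (H7.conj_smul_le_iff.1 e2 η (mem_zpowers η))
    · refine absurd ?_ ηI
      simpa [mul_assoc] using h.cjI (inv_mem ht) (e4 ▸ mul_mem_sup (d.y.QL hq) hr.2 : t * η * t⁻¹ ∈ IK U z)
    rw [e4, d.y.sq_out h d.vv hq hr.2]
    refine mul_mem_sup (mul_mem hq (H7.conj_mem_of_mem_normalizer (d.y.nQ d.y.vS) hq)) ?_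
    rcases d.mem r hr with hx | hx
    · exact mul_mem hx (d.vA hx)
    · rw [← inv_mul_cancel_right r κ, d.nrm' hx]
      exact mul_mem (mul_mem (mul_mem hx hx) d.zA) (inv_mem d.βA)
  have e5 := pow_mem e3 (2 ^ j)
  rw [← pow_two, ← pow_mul, ← pow_succ', conj_pow, cp] at e5
  refine (hc.trans (isConj_of t rfl)).trans (d.clsN e5 (by rw [cj_sq y2]; group)
    (fun e => ns _ (one_mem _) (by simpa using e)) fun e => ns _ h.iv.1 ?_)
  rw [mul_inv_eq_iff_eq_mul, ← mem_Cz.1 ht] at e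
  exact mul_left_cancel e

end Dq

theorem jobM3c : JobM3c.{u} := by
  intro G Ω _ _ _ U a b z c4 hab hz sl h3 hq
  have : Fact (Nat.Prime 2) := ⟨Nat.prime_two⟩
  have h : S4 U a b z := ⟨⟨c4, hab, hz⟩, sl⟩
  refine ⟨?_, h.nf h3⟩
  obtain ⟨v, hv⟩ := c4.ex hab hz
  obtain ⟨S, Q, c, n, s, y⟩ := h.sy kit3 h3 hv
  obtain ⟨ρ, κ, k, d⟩ := y.dq h (sq_of_ord hv.2.1.2) hq
  have cls : ∀ w ∈ Cz z, w * w = 1 → w ≠ 1 → w ≠ z → IsConj w (n * k) ∨ IsConj w (n * κ) ∨ IsConj w v := by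
    intro w hw w2 w1 wz
    obtain ⟨t, ht, e⟩ := y.syl.exists_conj_le (two_zp (k := 1) (by rw [pow_one, pow_two, w2])) (zpowers_le.2 hw)
    have c := isConj_of t (rfl : t * w * t⁻¹ = _)
    exact (d.cls (H7.conj_smul_le_iff.1 e w (mem_zpowers w)) (by rw [cj_sq w2]; group)
      (fun e => w1 (by simpa using e)) fun e => wz (by
        rw [mul_inv_eq_iff_eq_mul, ← mem_Cz.1 ht] at e
        exact mul_left_cancel e)).imp c.trans (Or.imp c.trans c.trans)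
  have zk : IsConj z (n * k) := by
    obtain ⟨w, hw, wz, e⟩ := kit1.zst h.pre z hz.2
    rcases cls w (mem_Cz.2 e) (by
      obtain ⟨g, rfl⟩ := isConj_iff.1 hw
      rw [cj_sq h.sq]; group) (fun e => h.t1 (isConj_one_left.1 (e ▸ hw))) wz with e | e | e
    exacts [hw.trans e, d.caseK h3 (hw.trans e), d.caseV h3 hv (hw.trans e)]
  have all : ∀ w : G, orderOf w = 2 → IsConj w z := fun w hw => by
    obtain ⟨g, hg⟩ := h.into (two_zp (x := w) (k := 1) (by rw [pow_one, pow_two, sq_of_ord hw]))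
    refine (isConj_of g rfl).trans ?_
    by_cases e : g * w * g⁻¹ = z
    · rw [e]
    rcases cls _ (hg w (mem_zpowers w)) (by rw [cj_sq (sq_of_ord hw)]; group)
      (fun e => ne_of_ord hw (by simpa using e)) e with e | e | e
    · exact e.trans zk.symm
    · exact e.trans ((d.tr (Or.inr rfl)).elim id fun e => e.trans zk.symm)
    · exact e.trans ((d.tr (Or.inl rfl)).elim id fun e => e.trans zk.symm)
  exact fun s t hs ht => (all s hs).trans (all t ht).symm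

end H23.HK
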