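/- Stabilisers of partitions into blocks of equal size. -/
import Cfsg.Agent.Base

set_option autoImplicit false
set_option linter.unusedSectionVars false
set_option synthInstance.maxSize 2000
open Subgroup Equiv Equiv.Perm MulAction
open scoped Pointwise

namespace H23.Imp
variable {Ω : Type*} [Fintype Ω] [DecidableEq Ω] {a b : ℕ}

/-- the stabiliser of the partition into the fibres of `f` -/
def W {I : Type*} (f : Ω → I) : Subgroup (Perm Ω) where
  carrier := {g | ∀ x y, f x = f y ↔ f (g x) = f (g y)}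
  one_mem' := fun _ _ => Iff.rfl
  mul_mem' := fun {g h} hg hh x y => (hh x y).trans (hg _ _)
  inv_mem' := fun {g} hg x y => by simpa using (hg (g⁻¹ x) (g⁻¹ y)).symm

theorem closure_eq {I : Type*} (f : Ω → I) :
    closure {g : Perm Ω | ∀ x y, f x = f y ↔ f (g x) = f (g y)} = W f := (W f).closure_eq

theorem mem_of_top {I : Type*} {f : Ω → I} {g : Perm Ω} (π : Perm I) (h : ∀ x, f (g x) = π (f x)) : g ∈ W f :=
  fun x y => by rw [h, h, π.apply_eq_iff_eq]

theorem f_swap {I : Type*} {f : Ω → I} {x y : Ω} (h : f x = f y) (z : Ω) : f (swap x y z) = f z := by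
  rw [swap_apply_def]; split_ifs with c d
  exacts [by rw [c, h], by rw [d, h], rfl]

theorem swap_mem {I : Type*} {f : Ω → I} {x y : Ω} (h : f x = f y) : swap x y ∈ W f :=
  mem_of_top 1 (f_swap h)

theorem two_trans {I : Type*} [DecidableEq I] {i j k l : I} (h : i = j ↔ k = l) :
    ∃ π : Perm I, π i = k ∧ π j = l := by
  refine ⟨swap (swap i k j) l * swap i k, ?_, by simp⟩
  by_cases c : i = j
  · simp [← c, ← h.1 c]
  · rw [Perm.mul_apply, swap_apply_left, swap_apply_of_ne_of_ne _ (mt h.2 c)]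
    exact fun e => c ((swap i k).injective ((swap_apply_left _ _).trans e))

theorem exists_bad {I : Type*} {f : Ω → I} {K : Subgroup (Perm Ω)} {g : Perm Ω} (hg : g ∈ K) (h : g ∉ W f) :
    ∃ g ∈ K, ∃ x y, f x = f y ∧ f (g x) ≠ f (g y) := by
  by_contra c
  push Not at c
  exact h fun x y => ⟨c g hg x y, fun e => by simpa using c _ (inv_mem hg) _ _ e⟩

variable {f : Ω → Fin b} (hf : ∀ i : Fin b, Nat.card {x : Ω // f x = i} = a)
include hf

theorem exists_equiv : ∃ e : Ω ≃ Fin b × Fin a, ∀ x, (e x).1 = f x :=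
  ⟨(sigmaFiberEquiv f).symm.trans ((sigmaCongrRight fun i => Finite.equivFinOfCardEq (hf i)).trans
    (sigmaEquivProd _ _)), fun _ => rfl⟩

theorem card_eq : Fintype.card Ω = b * a := by
  obtain ⟨e, -⟩ := exists_equiv hf
  rw [Fintype.card_congr e]; simp

theorem exists_top (π : Perm (Fin b)) : ∃ w : Perm Ω, ∀ x, f (w x) = π (f x) := by
  obtain ⟨e, he⟩ := exists_equiv hf
  exact ⟨e.symm.permCongr (prodCongr π (Equiv.refl _)), fun x => by simp [← he]⟩

theorem exists_new (i : Fin b) (l : List Ω) (h : (l.filter fun x => f x = i).length < a) :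
    ∃ x, f x = i ∧ x ∉ l := by
  by_contra c
  push Not at c
  have := Finset.card_le_card (s := Finset.univ.filter fun x => f x = i)
    (t := (l.filter fun x => f x = i).toFinset) fun x hx => by
      have := (Finset.mem_filter.1 hx).2
      simp [this, c x this]
  rw [← Fintype.card_subtype, ← Nat.card_eq_fintype_card, hf] at this
  exact absurd (this.trans (List.toFinset_card_le _)) h.not_ge

theorem pair_trans {x y u v : Ω} (xy : x ≠ y) (uv : u ≠ v) (h : f x = f y ↔ f u = f v) :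
    ∃ w ∈ W f, w x = u ∧ w y = v := by
  obtain ⟨π, p1, p2⟩ := two_trans h
  obtain ⟨w, hw⟩ := exists_top hf π
  have e1 : f (w x) = f u := (hw x).trans p1
  refine ⟨swap (swap (w x) u (w y)) v * swap (w x) u * w, mul_mem (mul_mem (swap_mem (by
    rw [f_swap e1, hw, p2])) (swap_mem e1)) (mem_of_top π hw), ?_, by simp⟩
  rw [Perm.mul_apply, Perm.mul_apply, swap_apply_left, swap_apply_of_ne_of_ne _ uv]
  exact fun e => xy (w.injective ((swap (w x) u).injective ((swap_apply_left _ _).trans e)))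

theorem exists_out (ha : 2 ≤ a) (hb : 2 ≤ b) :
    ∃ x y z z', x ≠ y ∧ f x = f y ∧ f z ≠ f x ∧ f z' = f z ∧ z' ≠ z := by
  obtain ⟨x, hx, -⟩ := exists_new hf ⟨0, by omega⟩ [] (by simp; omega)
  obtain ⟨y, hy, n⟩ := exists_new hf ⟨0, by omega⟩ [x] ((List.length_filter_le _ _).trans_lt ha)
  obtain ⟨z, hz, -⟩ := exists_new hf ⟨1, by omega⟩ [] (by simp; omega)
  obtain ⟨w, hw, m⟩ := exists_new hf ⟨1, by omega⟩ [z] ((List.length_filter_le _ _).trans_lt ha)
  exact ⟨x, y, z, w, fun e => n (by simp [e]), hx.trans hy.symm, by simp [hx, hz], hw.trans hz.symm,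
    by simpa using m⟩

theorem coatom_sym (ha : 2 ≤ a) (hb : 2 ≤ b) : IsCoatom (W f) := by
  refine ⟨fun e => ?_, fun K hK => ?_⟩
  · obtain ⟨x, y, z, -, xy, e1, e2, -⟩ := exists_out hf ha hb
    have := ((e ▸ mem_top _ : swap y z ∈ W f) x y).1 e1
    rw [swap_apply_left, swap_apply_of_ne_of_ne xy fun c => e2 (c ▸ rfl)] at this
    exact e2 this.symm
  obtain ⟨g, hg, n⟩ := SetLike.exists_of_lt hK
  obtain ⟨g, hg, x, y, e1, e2⟩ := exists_bad hg n
  rw [eq_top_iff, ← closure_isSwap, closure_le]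
  rintro _ ⟨u, v, uv, rfl⟩
  by_cases c : f u = f v
  · exact hK.le (swap_mem c)
  obtain ⟨w, hw, rfl, rfl⟩ := pair_trans hf (fun e => e2 (congrArg f e)) uv (iff_of_false e2 c)
  rw [swap_apply_apply, swap_apply_apply]
  exact mul_mem (mul_mem (hK.le hw) (mul_mem (mul_mem hg (hK.le (swap_mem e1))) (inv_mem hg))) (inv_mem (hK.le hw))

theorem pair_trans_alt (ha : 2 ≤ a) (hb : 2 ≤ b) (h4 : 3 ≤ a ∨ 3 ≤ b) {x y u v : Ω} (xy : x ≠ y) (uv : u ≠ v)
    (h : f x = f y ↔ f u = f v) : ∃ w ∈ W f ⊓ alternatingGroup Ω, w x = u ∧ w y = v := by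
  obtain ⟨w, hw, e1, e2⟩ := pair_trans hf xy uv h
  rcases Int.units_eq_one_or (sign w) with s | s
  · exact ⟨w, ⟨hw, s⟩, e1, e2⟩
  obtain ⟨i, hi⟩ : ∃ i, ([u, v].filter fun x => f x = i).length + 1 < a := by
    by_cases c : ∃ i, i ≠ f u ∧ i ≠ f v
    · obtain ⟨i, c1, c2⟩ := c
      exact ⟨i, by simp [c1.symm, c2.symm]; omega⟩
    push Not at c
    have := Finset.card_le_card (s := Finset.univ) (t := {f u, f v}) fun i _ => by
      simpa using (em _).imp_right (c i)
    have h2 := Finset.card_le_two (a := f u) (b := f v)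
    rw [Finset.card_fin] at this
    refine ⟨f u, ?_⟩
    have ne : f v ≠ f u := fun e => by simp [e] at this; omega
    simp [ne]; omega
  obtain ⟨c, c1, c2⟩ := exists_new hf i [u, v] (by omega)
  obtain ⟨d, d1, d2⟩ := exists_new hf i [c, u, v] (by rw [List.filter_cons]; simpa [c1] using hi)
  simp only [List.mem_cons, List.not_mem_nil, or_false, not_or] at c2 d2
  exact ⟨swap c d * w, ⟨mul_mem (swap_mem (c1.trans d1.symm)) hw, mem_alternatingGroup.2 (by
      rw [map_mul, s, sign_swap (Ne.symm d2.1)]; rfl)⟩,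
    by rw [Perm.mul_apply, e1, swap_apply_of_ne_of_ne (Ne.symm c2.1) (Ne.symm d2.2.1)],
    by rw [Perm.mul_apply, e2, swap_apply_of_ne_of_ne (Ne.symm c2.2) (Ne.symm d2.2.2)]⟩

theorem prim (ha : 2 ≤ a) (hb : 2 ≤ b) (h4 : 3 ≤ a ∨ 3 ≤ b) {K : Subgroup (Perm Ω)}
    (hK : W f ⊓ alternatingGroup Ω ≤ K) {g : Perm Ω} (hg : g ∈ K) {p q : Ω} (e1 : f p = f q)
    (e2 : f (g p) ≠ f (g q)) : IsPreprimitive K Ω := by
  have T := fun x y u v => pair_trans_alt hf ha hb h4 (x := x) (y := y) (u := u) (v := v)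
  have big : ∀ B : Set Ω, IsBlock K B → ∀ x ∈ B, ∀ y ∈ B, f x ≠ f y → B = Set.univ := by
    have k : ∀ B : Set Ω, IsBlock K B → ∀ x ∈ B, ∀ y ∈ B, f x ≠ f y → ∀ z, f x ≠ f z → z ∈ B :=
      fun B hB x hx y hy c z d => by
        obtain ⟨w, hw, w1, w2⟩ := T x y x z (fun e => c (congrArg f e)) (fun e => d (congrArg f e)) (iff_of_false c d)
        rw [← hB.smul_eq_of_mem (g := ⟨w, hK hw⟩) hx (show w x ∈ B by rwa [w1])]
        exact ⟨y, hy, w2⟩
    exact fun B hB x hx y hy c => Set.eq_univ_of_forall fun z =>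
      (em (f x = f z)).elim (fun e => k B hB y hy x hx c.symm z (e ▸ c.symm)) (k B hB x hx y hy c z)
  have : IsPretransitive K Ω := ⟨fun x u => by
    obtain ⟨y, y1, y2⟩ := exists_new hf (f x) [x] ((List.length_filter_le _ _).trans_lt ha)
    obtain ⟨v, v1, v2⟩ := exists_new hf (f u) [u] ((List.length_filter_le _ _).trans_lt ha)
    obtain ⟨w, hw, w1, -⟩ := T x y u v (fun e => y2 (by simp [e])) (fun e => v2 (by simp [e]))
      (iff_of_true y1.symm v1.symm)
    exact ⟨⟨w, hK hw⟩, w1⟩⟩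
  refine ⟨fun {B} hB => (em B.Subsingleton).imp_right fun n => ?_⟩
  obtain ⟨x, hx, y, hy, xy⟩ := Set.not_subsingleton_iff.1 n
  by_cases c : f x = f y
  · obtain ⟨w, hw, rfl, rfl⟩ := T x y p q xy (fun e => e2 (by rw [e])) (iff_of_true c e1)
    have := big _ (hB.translate ⟨g * w, mul_mem hg (hK hw)⟩) _ ⟨x, hx, rfl⟩ _ ⟨y, hy, rfl⟩ e2
    rwa [← Set.smul_set_univ (a := (⟨g * w, mul_mem hg (hK hw)⟩ : K)), smul_left_cancel_iff] at this
  · exact big B hB x hx y hy c

omit hf in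
theorem ss_alt {x y u v : Ω} (h1 : x ≠ y) (h2 : u ≠ v) : swap x y * swap u v ∈ alternatingGroup Ω :=
  mem_alternatingGroup.2 (by rw [map_mul, sign_swap h1, sign_swap h2]; rfl)

omit hf in
theorem conj_ss {K : Subgroup (Perm Ω)} {g : Perm Ω} (hg : g ∈ K) {x y u v : Ω} (h : swap x y * swap u v ∈ K) :
    swap (g x) (g y) * swap (g u) (g v) ∈ K := by
  have := mul_mem (mul_mem hg h) (inv_mem hg)
  rw [swap_apply_apply, swap_apply_apply]
  convert this using 1; group

omit hf in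
theorem tri {K : Subgroup (Perm Ω)} {s : Perm Ω} {c d e : Ω} (h1 : swap c d * s ∈ K) (h2 : swap c e * s ∈ K)
    (cd : c ≠ d) (ce : c ≠ e) (de : d ≠ e) : ∃ g ∈ K, IsThreeCycle g :=
  ⟨swap c d * swap c e, by simpa [mul_assoc] using mul_mem h1 (inv_mem h2), isThreeCycle_swap_mul_swap_same cd ce de⟩

theorem three_of_two (ha : a = 2) (hb : 3 ≤ b) (h4 : b ≠ 4) {K : Subgroup (Perm Ω)}
    (hK : W f ⊓ alternatingGroup Ω ≤ K) {g : Perm Ω} (hg : g ∈ K) {x x' : Ω} (e1 : f x = f x')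
    (e2 : f (g x) ≠ f (g x')) : ∃ g ∈ K, IsThreeCycle g := by
  subst ha
  choose t t1 t2 using fun x => exists_new hf (f x) [x] ((List.length_filter_le _ _).trans_lt one_lt_two)
  replace t2 : ∀ x, t x ≠ x := fun x e => t2 x (List.mem_singleton.2 e)
  have tu : ∀ x y, f y = f x → y ≠ x → y = t x := fun x y e n => by
    obtain ⟨z, -, hz⟩ := (Nat.card_eq_two_iff' (⟨x, rfl⟩ : {y // f y = f x})).1 (hf (f x))
    exact congrArg Subtype.val ((hz ⟨y, e⟩ fun c => n (congrArg Subtype.val c)).trans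
      (hz ⟨t x, t1 x⟩ fun c => t2 x (congrArg Subtype.val c)).symm)
  have tt : ∀ x, t (t x) = x := fun x => (tu _ x (t1 x).symm (t2 x).symm).symm
  have d1 : ∀ x y, swap x (t x) * swap y (t y) ∈ K := fun x y =>
    hK ⟨mul_mem (swap_mem (t1 x).symm) (swap_mem (t1 y).symm), ss_alt (t2 x).symm (t2 y).symm⟩
  have d2 : ∀ x y, f x ≠ f y → swap x y * swap (t x) (t y) ∈ K := fun x y c => by
    have n : ∀ {u v}, f u = f x → f v = f y → u ≠ v := fun a b e => c (a.symm.trans (e ▸ b))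
    refine hK ⟨mem_of_top (swap (f x) (f y)) fun z => ?_, ss_alt (n rfl rfl) (n (t1 x) (t1 y))⟩
    rw [Perm.mul_apply]
    by_cases a : f z = f x
    · rw [a, swap_apply_left]
      rcases (em _).imp_right (tu x z a) with rfl | rfl
      · rw [swap_apply_of_ne_of_ne (t2 z).symm (n rfl (t1 y)), swap_apply_left]
      · rw [swap_apply_left, swap_apply_of_ne_of_ne (n rfl (t1 y)).symm (t2 y), t1]
    by_cases b : f z = f y
    · rw [b, swap_apply_right]
      rcases (em _).imp_right (tu y z b) with rfl | rfl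
      · rw [swap_apply_of_ne_of_ne (n (t1 x) rfl).symm (t2 z).symm, swap_apply_right]
      · rw [swap_apply_right, swap_apply_of_ne_of_ne (t2 x) (n (t1 x) rfl), t1]
    rw [swap_apply_of_ne_of_ne a b, swap_apply_of_ne_of_ne (x := z) (fun e => a (e ▸ t1 x)) fun e => b (e ▸ t1 y),
      swap_apply_of_ne_of_ne (x := z) (fun e => a (congrArg f e)) fun e => b (congrArg f e)]
  have ex : ∀ l : List (Fin b), l.length < b → ∃ y, f y ∉ l := fun l hl => by
    obtain ⟨i, -, hi⟩ := Finset.exists_mem_notMem_of_card_lt_card (s := l.toFinset) (t := Finset.univ)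
      (by rw [Finset.card_fin]; exact l.toFinset_card_le.trans_lt hl)
    obtain ⟨y, rfl, -⟩ := exists_new hf i [] (by simp)
    exact ⟨y, by simpa using hi⟩
  obtain rfl := tu x x' e1.symm fun e => e2 (by rw [e])
  obtain ⟨y, hy⟩ := ex [f x, f (g⁻¹ (t (g x)))] hb
  simp only [List.mem_cons, List.not_mem_nil, or_false, not_or] at hy
  have n1 : ∀ z, f z = f y → f (g z) ≠ f (g x) := fun z e c => by
    rcases (em _).imp_right (tu _ _ c) with d | d
    · exact hy.1 (by rw [← e, g.injective d])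
    · exact hy.2 (by rw [← d, ← e]; simp)
  have n2 : ∀ z, f z = f y → g z ≠ g (t x) := fun z e c => hy.1 (by rw [← e, g.injective c, t1])
  have k : ∀ z, f z = f y → f (g z) = f (g (t x)) → ∃ g ∈ K, IsThreeCycle g := fun z e c => by
    have a := conj_ss hg (d2 x (t z) fun d => hy.1 (by rw [d, t1, e]))
    rw [tt, tu _ _ c (n2 z e)] at a
    exact tri a (d1 _ _) (fun d => n1 _ ((t1 z).trans e) (by rw [d])) (t2 _).symm
      fun d => n1 _ ((t1 z).trans e) (by rw [d, t1])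
  by_cases c1 : f (g y) = f (g (t x))
  · exact k y rfl c1
  by_cases c2 : f (g (t y)) = f (g (t x))
  · exact k _ (t1 y) c2
  have s0 := conj_ss hg (d1 y x)
  by_cases c3 : f (g (t y)) = f (g y)
  · have a := conj_ss hg (d1 x y)
    rw [tu _ _ c3 (g.injective.ne (t2 y))] at a
    exact tri a (d1 _ _) (fun d => e2 (by rw [← d])) (t2 _).symm fun d => e2 (by rw [d, t1])
  have : 4 ≤ b := by
    have := List.Nodup.length_le_card (l := [f (g x), f (g (t x)), f (g y), f (g (t y))]) (by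
      simp [e2, (n1 y rfl).symm, (n1 _ (t1 y)).symm, Ne.symm c1, Ne.symm c2, Ne.symm c3])
    simpa using this
  obtain ⟨r, hr⟩ := ex [f (g x), f (g (t x)), f (g y), f (g (t y))] (by simp; omega)
  simp only [List.mem_cons, List.not_mem_nil, or_false, not_or] at hr
  have fx : ∀ z, f z ≠ f (g (t y)) → f r ≠ f z → (swap (g (t y)) (t (g (t y))) * swap r (t r)) z = z :=
    fun z a b => by
      rw [Perm.mul_apply, swap_apply_of_ne_of_ne (x := z) (fun e => b (e ▸ rfl)) fun e => b (by rw [e, t1]),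
        swap_apply_of_ne_of_ne (x := z) (fun e => a (congrArg f e)) fun e => a (by rw [e, t1])]
  have s1 := conj_ss (d1 (g (t y)) r) s0
  rw [fx _ (Ne.symm c3) hr.2.2.1, fx _ (n1 _ (t1 y)).symm hr.1, fx _ (Ne.symm c2) hr.2.1, Perm.mul_apply,
    swap_apply_of_ne_of_ne (x := g (t y)) (fun e => hr.2.2.2 (e ▸ rfl)) fun e => hr.2.2.2 (by rw [e, t1]),
    swap_apply_left] at s1
  exact tri s0 s1 (fun e => c3 (by rw [e])) (fun e => c3 (by rw [e, t1])) (t2 _).symm

theorem coatom_alt (h8 : Fintype.card Ω ≠ 8) (ha : 2 ≤ a) (hb : 2 ≤ b) :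
    IsCoatom ((W f ⊓ alternatingGroup Ω).subgroupOf (alternatingGroup Ω)) := by
  refine ⟨fun e => ?_, fun L hL => ?_⟩
  · obtain ⟨x, y, z, w, xy, e1, e2, e3, zw⟩ := exists_out hf ha hb
    have n : ∀ {u v}, f u = f x → f v = f z → u ≠ v := fun a b e => e2 (b.symm.trans (e ▸ a))
    have := ((subgroupOf_eq_top.1 e (ss_alt zw.symm (n e1.symm rfl))).1 x y).1 e1
    rw [Perm.mul_apply, Perm.mul_apply, swap_apply_left, swap_apply_left, swap_apply_of_ne_of_ne xy (n rfl rfl),
      swap_apply_of_ne_of_ne (n rfl rfl) (n rfl e3), e3] at this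
    exact e2 this.symm
  obtain ⟨g, hg, n⟩ := SetLike.exists_of_lt hL
  have hK : W f ⊓ alternatingGroup Ω ≤ L.map (alternatingGroup Ω).subtype := fun x hx =>
    ⟨⟨x, hx.2⟩, hL.le hx, rfl⟩
  have gK : g.1 ∈ L.map (alternatingGroup Ω).subtype := ⟨g, hg, rfl⟩
  have gW : g.1 ∉ W f := fun c => n ⟨c, g.2⟩
  suffices alternatingGroup Ω ≤ L.map (alternatingGroup Ω).subtype from eq_top_iff.2 fun x _ => by
    obtain ⟨y, hy, e⟩ := this x.2
    exact Subtype.ext e ▸ hy
  generalize L.map (alternatingGroup Ω).subtype = K at hK gK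
  by_cases h4 : 3 ≤ a ∨ 3 ≤ b
  · obtain ⟨k, hk, x, y, e1, e2⟩ := exists_bad gK gW
    obtain ⟨c, c1, c2⟩ : ∃ g ∈ K, IsThreeCycle g := by
      by_cases h3 : 3 ≤ a
      · have xy : x ≠ y := fun e => e2 (by rw [e])
        obtain ⟨z, z1, z2⟩ := exists_new hf (f x) [x, y] ((List.length_filter_le _ _).trans_lt h3)
        simp only [List.mem_cons, List.not_mem_nil, or_false, not_or] at z2
        exact ⟨_, hK ⟨mul_mem (swap_mem e1) (swap_mem z1.symm), ss_alt xy (Ne.symm z2.1)⟩,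
          isThreeCycle_swap_mul_swap_same xy (Ne.symm z2.1) (Ne.symm z2.2)⟩
      · refine three_of_two hf (by omega) (by omega) (fun e => h8 ?_) hK hk e1 e2
        rw [card_eq hf, e, show a = 2 by omega]
    exact alternatingGroup_le_of_isPreprimitive_of_isThreeCycle_mem (prim hf ha hb h4 hK hk e1 e2) c2 c1
  obtain rfl : a = 2 := by omega
  obtain rfl : b = 2 := by omega
  obtain ⟨e, he⟩ := exists_equiv hf
  have tr : ∀ k : Perm Ω, k ∈ W f ↔ ∀ x y : Fin 2 × Fin 2, x.1 = y.1 ↔ (e.permCongr k x).1 = (e.permCongr k y).1 :=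
    fun k => ⟨fun h x y => by simpa [← he] using h (e.symm x) (e.symm y), fun h x y => by simpa [he] using h (e x) (e y)⟩
  intro h hh
  have m : ∀ k l : Perm Ω, e.permCongr (k * l) = e.permCongr k * e.permCongr l := e.permCongrHom.map_mul
  rcases (by decide +kernel : ∀ g h : Perm (Fin 2 × Fin 2), sign g = 1 → sign h = 1 →
      ¬ (∀ x y : Fin 2 × Fin 2, x.1 = y.1 ↔ (g x).1 = (g y).1) →
      (∀ x y : Fin 2 × Fin 2, x.1 = y.1 ↔ (h x).1 = (h y).1) ∨
      (∀ x y : Fin 2 × Fin 2, x.1 = y.1 ↔ ((h * g) x).1 = ((h * g) y).1) ∨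
      (∀ x y : Fin 2 × Fin 2, x.1 = y.1 ↔ ((h * (g * g)) x).1 = ((h * (g * g)) y).1))
    (e.permCongr g.1) (e.permCongr h) ((sign_permCongr e _).trans g.2) ((sign_permCongr e _).trans hh)
    (mt (tr _).2 gW) with c | c | c
  · exact hK ⟨(tr _).2 c, hh⟩
  · rw [← m] at c
    simpa using mul_mem (hK ⟨(tr _).2 c, mul_mem hh g.2⟩) (inv_mem gK)
  · rw [← m, ← m] at c
    simpa [mul_assoc] using mul_mem (hK ⟨(tr _).2 c, mul_mem hh (mul_mem g.2 g.2)⟩) (inv_mem (mul_mem gK gK))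

end H23.Imp
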