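import Cfsg.Agent.H63.KgvSpec

/-! # Tower KGV: two nested subfields with their characters -/

set_option autoImplicit false

namespace H23.KgvBR

open H63.Kgv Finset

/-- the additive character `a ↦ e (t * trace a)` -/
noncomputable def ps (p : ℕ) [Fact p.Prime] (F : Type) [Field F] [Algebra (ZMod p) F] (t : ZMod p) :
    AddChar F ℂ where
  toFun a := ee p (t * Algebra.trace (ZMod p) F a)
  map_zero_eq_one' := by simp
  map_add_eq_mul' a b := by rw [map_add, mul_add]; exact AddChar.map_add_eq_mul _ _ _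

theorem ps_apply (p : ℕ) [Fact p.Prime] (F : Type) [Field F] [Algebra (ZMod p) F] (t : ZMod p) (a : F) :
    ps p F t a = ee p (t * Algebra.trace (ZMod p) F a) := rfl

theorem core {p : ℕ} [hp : Fact p.Prime] {M : ℕ} {K : Type} [Field K] [Fintype K] [Algebra (ZMod p) K]
    {g : Kˣ} {θ : Kˣ →* ℂˣ} (s : Su p M g θ) {D : ℕ} (hD : D ∣ M) (F : Type) [Field F] [Fintype F]
    [Algebra (ZMod p) F] (hF : Module.finrank (ZMod p) F = D) (ι : F →ₐ[ZMod p] K) :
    ∃ (χ : Kˣ → MulChar F ℂ) (γ : Fˣ), ι γ = ((g ^ ((p ^ M - 1) / (p ^ D - 1)) : Kˣ) : K) ∧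
      Br p M g θ D F (ps p F) χ γ := by
  classical
  have hc : Fintype.card F = p ^ D := by
    rw [← hF, Module.card_eq_pow_finrank (K := ZMod p), ZMod.card]
  have hdv : p ^ D - 1 ∣ p ^ M - 1 := Nat.pow_sub_one_dvd_pow_sub_one p hD
  have cK : Nat.card Kˣ = p ^ M - 1 := by rw [Nat.card_units, Nat.card_eq_fintype_card, s.card]
  have cF : Nat.card Fˣ = p ^ D - 1 := by rw [Nat.card_units, Nat.card_eq_fintype_card, hc]
  have og : orderOf g = p ^ M - 1 := by rw [orderOf_eq_card_of_forall_mem_zpowers s.gen, cK]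
  have hM0 : p ^ M - 1 ≠ 0 := cK ▸ Nat.card_pos.ne'
  let j : Fˣ →* Kˣ := Units.map (ι : F →* K)
  have hj : Function.Injective j := Units.map_injective ι.toRingHom.injective
  have hr : j.range = (powMonoidHom (p ^ D - 1) : Kˣ →* Kˣ).ker := by
    refine Subgroup.eq_of_le_of_card_ge ?_ ?_
    · rintro _ ⟨a, rfl⟩
      rw [MonoidHom.mem_ker, powMonoidHom_apply, ← map_pow, ← cF, pow_card_eq_one', map_one]
    · rw [IsCyclic.card_powMonoidHom_ker, cK, Nat.gcd_eq_right hdv, ← cF,
        Nat.card_congr (MonoidHom.ofInjective hj).toEquiv]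
  obtain ⟨γ, hγ⟩ : g ^ ((p ^ M - 1) / (p ^ D - 1)) ∈ j.range := by
    rw [hr, MonoidHom.mem_ker, powMonoidHom_apply, ← pow_mul, Nat.div_mul_cancel hdv, ← og,
      pow_orderOf_eq_one]
  have oγ : orderOf γ = p ^ D - 1 := by
    rw [← orderOf_injective j hj, hγ, orderOf_pow_of_dvd, og, Nat.div_div_self hdv hM0]
    · exact (Nat.div_pos (Nat.le_of_dvd (Nat.pos_of_ne_zero hM0) hdv) (cF ▸ Nat.card_pos)).ne'
    · rw [og]; exact Nat.div_dvd_of_dvd hdv
  have gen : ∀ a : Fˣ, a ∈ Subgroup.zpowers γ := by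
    have : Subgroup.zpowers γ = ⊤ :=
      Subgroup.eq_top_of_card_eq _ (by rw [Nat.card_zpowers, oγ, cF])
    intro a; rw [this]; trivial
  have hp1 : 1 ≤ p ^ D := Nat.one_le_pow _ _ hp.out.pos
  have ex : ∀ x : Kˣ, ∃ c : MulChar F ℂ, x ^ p ^ D = x → c (γ : F) = θ x := fun x => by
    by_cases hx : x ^ p ^ D = x
    · have h1 : x ^ (p ^ D - 1) = 1 := by
        have : x ^ (p ^ D - 1) * x = 1 * x := by rw [← pow_succ, Nat.sub_add_cancel hp1, hx, one_mul]
        exact mul_right_cancel this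
      have h2 : θ x ∈ rootsOfUnity (Fintype.card Fˣ) ℂ := by
        rw [mem_rootsOfUnity, ← Nat.card_eq_fintype_card, cF, ← map_pow, h1, map_one]
      exact ⟨_, fun _ => MulChar.ofRootOfUnity_spec h2 gen⟩
    · exact ⟨1, fun h => absurd h hx⟩
  choose χ hχ using ex
  have hγ' : ι γ = ((g ^ ((p ^ M - 1) / (p ^ D - 1)) : Kˣ) : K) := by rw [← hγ]; rfl
  have htr : ∀ i : ℕ, tr p M g D i = Algebra.trace (ZMod p) F ((γ : F) ^ i) := fun i => by
    have h1 := congrArg ι (FiniteField.algebraMap_trace_eq_sum_pow (K := ZMod p) (L := F) ((γ : F) ^ i))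
    rw [AlgHom.commutes, map_sum, hF, Nat.card_zmod] at h1
    unfold tr
    have h2 : ∑ k ∈ range D, ((g ^ ((p ^ M - 1) / (p ^ D - 1) * i) : Kˣ) : K) ^ p ^ k =
        algebraMap (ZMod p) K (Algebra.trace (ZMod p) F ((γ : F) ^ i)) := by
      rw [h1]
      refine sum_congr rfl fun k _ => ?_
      rw [map_pow, map_pow, hγ', pow_mul, Units.val_pow_eq_pow_val _ i]
    rw [h2, Function.leftInverse_invFun (algebraMap (ZMod p) K).injective]
  refine ⟨χ, γ, hγ', hc, gen, hχ, fun t ht h => ?_, fun t r => ?_, fun t x hx => ?_⟩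
  · obtain ⟨a, ha⟩ := Algebra.trace_surjective (ZMod p) F 1
    have h1 : ps p F t a = 1 := by rw [h]; rfl
    rw [ps_apply, ha, mul_one, ← (ZMod.stdAddChar (N := p)).map_zero_eq_one] at h1
    exact ht (ZMod.injective_stdAddChar h1)
  · ext a
    rw [AddChar.mulShift_apply, ps_apply, ps_apply, ← nsmul_eq_mul, map_nsmul, nsmul_eq_mul,
      mul_left_comm, mul_assoc]
  · unfold GG gaussSum
    congr 1
    refine sum_of_injOn (fun i => (γ : F) ^ i) (fun a ha b hb hab => ?_) (fun _ _ => by simp)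
      (fun a _ ha => ?_) fun i _ => ?_
    · refine pow_injOn_Iio_orderOf (x := γ) (by simpa [oγ] using ha) (by simpa [oγ] using hb) ?_
      exact Units.ext (by simpa using hab)
    · by_cases h0 : a = 0
      · rw [h0, MulChar.map_zero, zero_mul]
      · exfalso
        have h1 := (mem_zpowers_iff_mem_range_orderOf (x := γ) (y := Units.mk0 a h0)).1 (gen _)
        obtain ⟨i, hi, e⟩ := mem_image.1 h1
        exact ha ⟨i, by simpa [oγ] using hi, by simpa using congrArg Units.val e⟩
    · rw [map_pow, hχ x hx, ps_apply, htr, mul_comm]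

theorem job : JBR := by
  intro p hp M K _ _ _ g θ s D e hDe
  have h0 : D * e ≠ 0 := fun h => s.pos.ne' (by rw [h] at hDe; exact Nat.eq_zero_of_zero_dvd hDe)
  have hD : D ≠ 0 := left_ne_zero_of_mul h0
  have hK : Module.finrank (ZMod p) K = M := by
    have h := s.card
    rw [Module.card_eq_pow_finrank (K := ZMod p), ZMod.card] at h
    exact Nat.pow_right_injective hp.out.two_le h
  have fF := GaloisField.finrank p hD
  have fL := GaloisField.finrank p h0
  obtain ⟨i⟩ := FiniteField.nonempty_algHom_of_finrank_dvd (F := ZMod p) (K := GaloisField p D)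
    (L := GaloisField p (D * e)) (by rw [fF, fL]; exact dvd_mul_right _ _)
  obtain ⟨ι⟩ := FiniteField.nonempty_algHom_of_finrank_dvd (F := ZMod p) (K := GaloisField p (D * e))
    (L := K) (by rw [fL, hK]; exact hDe)
  let _ := Fintype.ofFinite (GaloisField p D)
  let _ := Fintype.ofFinite (GaloisField p (D * e))
  let _ : Algebra (GaloisField p D) (GaloisField p (D * e)) := i.toRingHom.toAlgebra
  have : IsScalarTower (ZMod p) (GaloisField p D) (GaloisField p (D * e)) :=
    IsScalarTower.of_algebraMap_eq fun x => (i.commutes x).symm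
  obtain ⟨χ, γ, h1, b1⟩ := core s ((dvd_mul_right D e).trans hDe) (GaloisField p D) fF (ι.comp i)
  obtain ⟨χ', γ', h2, b2⟩ := core s hDe (GaloisField p (D * e)) fL ι
  refine ⟨_, _, _, _, _, _, inferInstance, _, χ, γ, _, χ', γ', b1, b2, ?_, ?_, fun t a => ?_⟩
  · have := Module.finrank_mul_finrank (ZMod p) (GaloisField p D) (GaloisField p (D * e))
    rw [fF, fL] at this
    exact Nat.eq_of_mul_eq_mul_left (Nat.pos_of_ne_zero hD) this
  · apply (ι.comp i).toRingHom.injective
    have h3 := congrArg ι (FiniteField.algebraMap_norm_eq_pow (K := GaloisField p D)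
      (x := (γ' : GaloisField p (D * e))))
    rw [map_pow, h2, Nat.card_eq_fintype_card, Nat.card_eq_fintype_card, b1.card, b2.card,
      ← Units.val_pow_eq_pow_val, ← pow_mul, Nat.div_mul_div (Nat.pow_sub_one_dvd_pow_sub_one p hDe)
        (Nat.pow_sub_one_dvd_pow_sub_one p (dvd_mul_right D e))] at h3
    exact h3.trans h1.symm
  · rw [ps_apply, ps_apply, Algebra.trace_trace]

end H23.KgvBR
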