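/- Groups in which all centralizers of non-central elements are maximal subgroups. -/
import Cfsg.Agent.Base
import Cfsg.Agent.H23.AbelianMax
import Cfsg.Agent.H23.OrderType
import Cfsg.Agent.H98.Sylow
import Cfsg.Agent.H2.Fitting

set_option autoImplicit false
open Cfsg

namespace H23

universe u
variable {G : Type u} [Group G]

theorem centralizer_singleton_eq_top_iff (x : G) :
    Subgroup.centralizer ({x} : Set G) = ⊤ ↔ x ∈ Subgroup.center G := by
  rw [Subgroup.mem_center_iff, eq_top_iff]
  exact ⟨fun h y => Subgroup.mem_centralizer_singleton_iff.mp (h (Subgroup.mem_top y)),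
    fun h y _ => Subgroup.mem_centralizer_singleton_iff.mpr (h y)⟩

theorem centralizer_singleton_le_pow (x : G) (n : ℕ) :
    Subgroup.centralizer ({x} : Set G) ≤ Subgroup.centralizer ({x ^ n} : Set G) := by
  intro y hy
  rw [Subgroup.mem_centralizer_singleton_iff] at hy ⊢
  exact (Commute.pow_right hy n).eq

theorem center_le_centralizer_singleton (x : G) :
    Subgroup.center G ≤ Subgroup.centralizer ({x} : Set G) := fun _ hz =>
  Subgroup.mem_centralizer_singleton_iff.mpr (Subgroup.mem_center_iff.mp hz x).symm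

/-- An element outside a subgroup has a power of prime-power order outside it. -/
theorem exists_prime_pow_part_not_mem [Finite G] {K : Subgroup G} {w : G} (hw : w ∉ K) :
    ∃ (q k n : ℕ), q.Prime ∧ q ∣ orderOf w ∧ w ^ n ∉ K ∧ (w ^ n) ^ q ^ k = 1 := by
  by_contra hcon
  push Not at hcon
  apply hw
  refine H98.le_of_forall_prime_pow_mem (H := Subgroup.zpowers w) ?_ (Subgroup.mem_zpowers w)
  rintro q hq hd x hx ⟨k, hk⟩
  obtain ⟨n, rfl⟩ := mem_powers_iff_mem_zpowers.mpr hx
  by_contra hn
  rw [Nat.card_zpowers] at hd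
  exact hcon q k n hq hd hn hk

/-- If `x, y` commute and have coprime orders then `x` is a power of `x * y`. -/
theorem exists_mul_pow_eq_of_coprime [Finite G] {x y : G} (hc : Commute x y)
    (h : (orderOf x).Coprime (orderOf y)) : ∃ n : ℕ, (x * y) ^ n = x := by
  obtain ⟨m, hm⟩ := exists_pow_eq_self_of_coprime h.symm
  exact ⟨orderOf y * m, by rw [pow_mul, hc.mul_pow, pow_orderOf_eq_one, mul_one, hm]⟩

theorem sq_dvd_index_center [Finite G] {p : ℕ} [hp : Fact p.Prime]
    (h : IsPGroup p (G ⧸ Subgroup.center G)) (hna : ¬ IsMulCommutative G) :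
    p ^ 2 ∣ (Subgroup.center G).index := by
  obtain ⟨k, hk⟩ := IsPGroup.iff_card.mp h
  rw [Subgroup.index_eq_card, hk]
  refine pow_dvd_pow p ?_
  by_contra hlt
  apply hna
  have : IsCyclic (G ⧸ Subgroup.center G) := isCyclic_of_card_dvd_prime (p := p) (by
    rw [hk]
    exact (pow_dvd_pow p (by omega : k ≤ 1)).trans (pow_one p).dvd)
  exact isMulCommutative_of_isCyclic_quotient_center_self G

section

variable (h : ∀ x : G, x ∉ Subgroup.center G → IsCoatom (Subgroup.centralizer ({x} : Set G)))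
include h

theorem maxCent_eq_of_le {x y : G} (hx : x ∉ Subgroup.center G) (hy : y ∉ Subgroup.center G)
    (hle : Subgroup.centralizer ({x} : Set G) ≤ Subgroup.centralizer ({y} : Set G)) :
    Subgroup.centralizer ({x} : Set G) = Subgroup.centralizer ({y} : Set G) := by
  by_contra hne
  exact (h y hy).1 ((h x hx).2 _ (lt_of_le_of_ne hle hne))

theorem maxCent_eq_of_coprime [Finite G] {x y : G} (hx : x ∉ Subgroup.center G)
    (hy : y ∉ Subgroup.center G) (hc : Commute x y) (hcop : (orderOf x).Coprime (orderOf y)) :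
    Subgroup.centralizer ({x} : Set G) = Subgroup.centralizer ({y} : Set G) := by
  obtain ⟨n, hn⟩ := exists_mul_pow_eq_of_coprime hc hcop
  obtain ⟨m, hm⟩ := exists_mul_pow_eq_of_coprime hc.symm hcop.symm
  rw [← hc.eq] at hm
  have hxy : x * y ∉ Subgroup.center G := fun h' => hx (hn ▸ Subgroup.pow_mem _ h' n)
  rw [← maxCent_eq_of_le h hxy hx (by
      conv_rhs => rw [← hn]
      exact centralizer_singleton_le_pow _ _),
    ← maxCent_eq_of_le h hxy hy (by
      conv_rhs => rw [← hm]
      exact centralizer_singleton_le_pow _ _)]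

/-- If the centralizer of a non-central `p`-element is non-abelian then all its `p'`-elements are
central. -/
theorem maxCent_mem_center [Finite G] {p k : ℕ} (hp : p.Prime) {x : G} (hx : x ∉ Subgroup.center G)
    (hxp : x ^ p ^ k = 1) (hna : ¬ IsMulCommutative (Subgroup.centralizer ({x} : Set G)))
    {q j : ℕ} (hq : q.Prime) (hqp : q ≠ p) {w : G} (hw : w ∈ Subgroup.centralizer ({x} : Set G))
    (hwq : w ^ q ^ j = 1) : w ∈ Subgroup.center G := by
  by_contra hwZ
  apply hna
  have cop : ∀ {a b : G} {r s i l : ℕ}, r.Prime → s.Prime → r ≠ s → a ^ r ^ i = 1 → b ^ s ^ l = 1 →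
      (orderOf a).Coprime (orderOf b) := by
    intro a b r s i l hr hs hrs ha hb
    exact Nat.Coprime.of_dvd (orderOf_dvd_of_pow_eq_one ha) (orderOf_dvd_of_pow_eq_one hb)
      (Nat.Coprime.pow _ _ ((Nat.coprime_primes hr hs).mpr hrs))
  have hxw := maxCent_eq_of_coprime h hx hwZ
    (Subgroup.mem_centralizer_singleton_iff.mp hw).symm (cop hp hq hqp.symm hxp hwq)
  have hle : Subgroup.centralizer ({x} : Set G) ≤
      Subgroup.centralizer (Subgroup.centralizer ({x} : Set G) : Set G) := by
    refine H98.le_of_forall_prime_pow_mem ?_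
    rintro r hr - c hc ⟨i, hi⟩ y hy
    by_cases hcZ : c ∈ Subgroup.center G
    · exact Subgroup.mem_center_iff.mp hcZ y
    have : Subgroup.centralizer ({x} : Set G) = Subgroup.centralizer ({c} : Set G) := by
      by_cases hrp : r = p
      · subst hrp
        rw [hxw] at hc ⊢
        exact maxCent_eq_of_coprime h hwZ hcZ
          (Subgroup.mem_centralizer_singleton_iff.mp hc).symm (cop hq hr hqp hwq hi)
      · exact maxCent_eq_of_coprime h hx hcZ
          (Subgroup.mem_centralizer_singleton_iff.mp hc).symm (cop hp hr (Ne.symm hrp) hxp hi)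
    rw [this] at hy
    exact Subgroup.mem_centralizer_singleton_iff.mp hy
  exact ⟨⟨fun a b => Subtype.ext (hle b.2 a a.2)⟩⟩

theorem maxCent_isPGroup_map [Finite G] {p k : ℕ} (hp : p.Prime) {x : G}
    (hx : x ∉ Subgroup.center G) (hxp : x ^ p ^ k = 1)
    (hna : ¬ IsMulCommutative (Subgroup.centralizer ({x} : Set G))) :
    IsPGroup p ((Subgroup.centralizer ({x} : Set G)).map
      (QuotientGroup.mk' (Subgroup.center G))) := by
  rintro ⟨_, w, hw, rfl⟩
  refine ⟨(orderOf w).factorization p, Subtype.ext ?_⟩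
  change (QuotientGroup.mk' (Subgroup.center G) w) ^ p ^ (orderOf w).factorization p = 1
  rw [← map_pow, QuotientGroup.mk'_apply, QuotientGroup.eq_one_iff]
  by_contra hn
  obtain ⟨q, j, n, hq, hqd, h1, h2⟩ := exists_prime_pow_part_not_mem hn
  refine h1 (maxCent_mem_center h hp hx hxp hna hq ?_
    (Subgroup.pow_mem _ (Subgroup.pow_mem _ hw _) _) h2)
  rintro rfl
  rw [orderOf_pow_of_dvd (pow_ne_zero _ hp.ne_zero) (Nat.ordProj_dvd _ _)] at hqd
  exact Nat.not_dvd_ordCompl hp (orderOf_pos w).ne' hqd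

/-- Some centralizer of a non-central element is abelian, unless all of them are normal. -/
theorem maxCent_exists_abelian [Finite G] {y : G}
    (hyn : ¬ (Subgroup.centralizer ({y} : Set G)).Normal) :
    ∃ x, x ∉ Subgroup.center G ∧ IsMulCommutative (Subgroup.centralizer ({x} : Set G)) := by
  classical
  by_contra hcon
  push Not at hcon
  set Z := Subgroup.center G with hZ
  let π := QuotientGroup.mk' Z
  have hπ : Function.Surjective π := QuotientGroup.mk'_surjective Z
  have hker : ∀ x : G, π.ker ≤ Subgroup.centralizer ({x} : Set G) := fun x => by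
    rw [QuotientGroup.ker_mk']; exact center_le_centralizer_singleton x
  have hy : y ∉ Z := fun h' => hyn (by
    rw [(centralizer_singleton_eq_top_iff y).mpr h']; infer_instance)
  have hnotP : ∀ p : ℕ, p.Prime → ¬ IsPGroup p (G ⧸ Z) := by
    intro p hp hG
    have : Fact p.Prime := ⟨hp⟩
    have := hG.isNilpotent
    have : Group.IsNilpotent G := Group.of_quotient_center_nilpotent this
    exact hyn (H2.normal_of_isCoatom_of_isNilpotent (h y hy))
  have hsyl : ∀ (p : ℕ) [Fact p.Prime] (x : G) (k : ℕ), x ∉ Z → x ^ p ^ k = 1 →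
      ∃ S : Sylow p (G ⧸ Z), (S : Subgroup (G ⧸ Z)) =
        (Subgroup.centralizer ({x} : Set G)).map π := by
    intro p hp x k hx hxp
    obtain ⟨S, hS⟩ := (maxCent_isPGroup_map h hp.out hx hxp (hcon x hx)).exists_le_sylow
    refine ⟨S, ?_⟩
    by_contra hne
    have htop := (H3.isCoatom_map_of_surjective_of_ker_le π hπ (h x hx) (hker x)).2 _
      (lt_of_le_of_ne hS (Ne.symm hne))
    exact hnotP p hp.out ((htop ▸ S.isPGroup').of_equiv Subgroup.topEquiv)
  have hnn : ∀ (p : ℕ) [Fact p.Prime] (x : G) (k : ℕ), x ∉ Z → x ^ p ^ k = 1 →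
      ¬ (Subgroup.centralizer ({x} : Set G)).Normal := by
    intro p hp x k hx hxp hn
    obtain ⟨S, hS⟩ := hsyl p x k hx hxp
    have hr := H3.index_prime_of_isCoatom_normal (h x hx)
    set r := (Subgroup.centralizer ({x} : Set G)).index with hrdef
    have hSi : (S : Subgroup (G ⧸ Z)).index = r := by
      rw [hS, Subgroup.index_map_eq _ hπ (hker x)]
    have hpr : p ≠ r := fun e => S.not_dvd_index (by rw [hSi, e])
    have : Fact r.Prime := ⟨hr⟩
    obtain ⟨g, hg⟩ := exists_prime_orderOf_dvd_card' (G := G ⧸ Z) r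
      (hSi ▸ Subgroup.index_dvd_card _)
    obtain ⟨g, rfl⟩ := hπ g
    set g' := g ^ ordCompl[r] (orderOf g) with hg'
    have hg'r : g' ^ r ^ (orderOf g).factorization r = 1 := by
      rw [hg', ← pow_mul, mul_comm, Nat.ordProj_mul_ordCompl_eq_self, pow_orderOf_eq_one]
    have hg'Z : g' ∉ Z := by
      intro h'
      have h1 : π g ^ ordCompl[r] (orderOf g) = 1 := by
        rw [← map_pow]; exact (QuotientGroup.eq_one_iff _).mpr h'
      have h2 := orderOf_dvd_of_pow_eq_one h1
      rw [hg] at h2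
      exact Nat.not_dvd_ordCompl hr (orderOf_pos g).ne' h2
    obtain ⟨R, hR⟩ := hsyl r g' _ hg'Z hg'r
    have hRc : Nat.card R ∣ r := by
      obtain ⟨a, ha⟩ := IsPGroup.iff_card.mp S.isPGroup'
      obtain ⟨b, hb⟩ := IsPGroup.iff_card.mp R.isPGroup'
      have h1 : Nat.card R ∣ p ^ a * r := by
        have h2 := (S : Subgroup (G ⧸ Z)).card_mul_index
        rw [ha, hSi] at h2
        rw [h2]; exact Subgroup.card_subgroup_dvd_card _
      refine Nat.Coprime.dvd_of_dvd_mul_left ?_ h1
      rw [hb]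
      exact Nat.Coprime.pow _ _ ((Nat.coprime_primes hr hp.out).mpr hpr.symm)
    have hcyc : IsCyclic R := isCyclic_of_card_dvd_prime hRc
    apply hcon g' hg'Z
    let f : Subgroup.centralizer ({g'} : Set G) →* R :=
      (π.comp (Subgroup.subtype _)).codRestrict _ fun c => hR ▸ ⟨c, c.2, rfl⟩
    refine f.isMulCommutative_of_isCyclic_of_ker_le_center fun c hc => ?_
    have h1 : π c = 1 := congrArg Subtype.val hc
    rw [Subgroup.mem_center_iff]
    intro d
    exact Subtype.ext (Subgroup.mem_center_iff.mp ((QuotientGroup.eq_one_iff _).mp h1) d)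
  have : Fintype G := Fintype.ofFinite G
  let X : ℕ → Finset G := fun p => Finset.univ.filter fun x => x ∉ Z ∧ p.Prime ∧
    ∃ (x' : G) (k : ℕ), x' ∉ Z ∧ x' ^ p ^ k = 1 ∧
      Subgroup.centralizer ({x} : Set G) = Subgroup.centralizer ({x'} : Set G)
  have hcent : ∀ (p : ℕ) [Fact p.Prime] (x : G) (k : ℕ), x ∉ Z → x ^ p ^ k = 1 →
      Nat.card (Subgroup.center (Subgroup.centralizer ({x} : Set G))) * p ^ 2 ≤
        Nat.card (Subgroup.centralizer ({x} : Set G)) := by
    intro p hp x k hx hxp
    rw [← Subgroup.card_mul_index (Subgroup.center (Subgroup.centralizer ({x} : Set G)))]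
    refine Nat.mul_le_mul_left _ (Nat.le_of_dvd
      (Nat.pos_of_ne_zero Subgroup.index_ne_zero_of_finite) (sq_dvd_index_center ?_ (hcon x hx)))
    intro c
    obtain ⟨c, rfl⟩ := QuotientGroup.mk_surjective c
    obtain ⟨j, hj⟩ := maxCent_isPGroup_map h hp.out hx hxp (hcon x hx) ⟨π c, c, c.2, rfl⟩
    refine ⟨j, ?_⟩
    have h1 : π (c ^ p ^ j) = 1 := by rw [map_pow]; exact congrArg Subtype.val hj
    rw [← QuotientGroup.mk_pow, QuotientGroup.eq_one_iff, Subgroup.mem_center_iff]
    intro d
    exact Subtype.ext (Subgroup.mem_center_iff.mp ((QuotientGroup.eq_one_iff _).mp h1) d)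
  have hX : ∀ p, (X p).card * p ^ 2 ≤ Nat.card G := by
    intro p
    rcases (X p).eq_empty_or_nonempty with he | ⟨x₀, hx₀⟩
    · simp [he]
    obtain ⟨-, hp, x₁, k₁, hx₁, hk₁, -⟩ := (Finset.mem_filter.mp hx₀).2
    have : Fact p.Prime := ⟨hp⟩
    obtain ⟨S₁, hS₁⟩ := hsyl p x₁ k₁ hx₁ hk₁
    have hcard : Nat.card (Sylow p (G ⧸ Z)) = (S₁ : Subgroup (G ⧸ Z)).index := by
      rw [S₁.card_eq_index_normalizer]
      congr 1
      refine normalizer_eq_of_isCoatom
        (hS₁ ▸ H3.isCoatom_map_of_surjective_of_ker_le π hπ (h x₁ hx₁) (hker x₁)) fun hn => ?_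
      apply hnn p x₁ k₁ hx₁ hk₁
      rw [← Subgroup.comap_map_eq_self (hker x₁), ← hS₁]
      infer_instance
    have : Fintype (Sylow p (G ⧸ Z)) := Fintype.ofFinite _
    let Y : Sylow p (G ⧸ Z) → Finset G := fun S => (X p).filter fun x =>
      Subgroup.centralizer ({x} : Set G) = (S : Subgroup (G ⧸ Z)).comap π
    have hsub : X p ⊆ Finset.univ.biUnion Y := by
      intro x hx
      obtain ⟨-, -, x', k, hx', hk, e⟩ := (Finset.mem_filter.mp hx).2
      obtain ⟨S, hS⟩ := hsyl p x' k hx' hk
      refine Finset.mem_biUnion.mpr ⟨S, Finset.mem_univ _, Finset.mem_filter.mpr ⟨hx, ?_⟩⟩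
      rw [hS, Subgroup.comap_map_eq_self (hker x'), e]
    have hY : ∀ S, (Y S).card * p ^ 2 ≤ Nat.card Z * Nat.card S₁ := by
      intro S
      rcases (Y S).eq_empty_or_nonempty with he | ⟨x, hx⟩
      · simp [he]
      obtain ⟨hx, e⟩ := Finset.mem_filter.mp hx
      obtain ⟨-, -, x', k, hx', hk, e'⟩ := (Finset.mem_filter.mp hx).2
      have e'' := e'.symm.trans e
      have h1 := hcent p x' k hx' hk
      have h2 : Nat.card (Subgroup.centralizer ({x'} : Set G)) = Nat.card Z * Nat.card S₁ := by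
        rw [e'', H4.card_comap_mk', S.card_eq_multiplicity, S₁.card_eq_multiplicity]
      refine le_trans (Nat.mul_le_mul_right _ ?_) (h1.trans h2.le)
      rw [← Nat.card_eq_finsetCard]
      have hm : ∀ u : Y S, Subgroup.centralizer ({(u : G)} : Set G) =
          Subgroup.centralizer ({x'} : Set G) := fun u =>
        (Finset.mem_filter.mp u.2).2.trans e''.symm
      refine Nat.card_le_card_of_injective (fun u => ⟨⟨u, hm u ▸
        Subgroup.mem_centralizer_singleton_iff.mpr rfl⟩, Subgroup.mem_center_iff.mpr fun d =>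
          Subtype.ext (Subgroup.mem_centralizer_singleton_iff.mp ((hm u).ge d.2))⟩) ?_
      intro u v huv
      exact Subtype.ext (congrArg (fun t => ((t.1 : Subgroup.centralizer ({x'} : Set G)) : G)) huv)
    calc (X p).card * p ^ 2 ≤ (∑ S, (Y S).card) * p ^ 2 :=
          Nat.mul_le_mul_right _ ((Finset.card_le_card hsub).trans Finset.card_biUnion_le)
      _ ≤ ∑ _S : Sylow p (G ⧸ Z), Nat.card Z * Nat.card S₁ := by
          rw [Finset.sum_mul]; exact Finset.sum_le_sum fun S _ => hY S
      _ = Nat.card G := by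
          rw [Finset.sum_const, Finset.card_univ, ← Nat.card_eq_fintype_card, hcard, smul_eq_mul,
            mul_left_comm, Subgroup.index_mul_card, mul_comm,
            ← Subgroup.card_eq_card_quotient_mul_card_subgroup]
  have hZ4 : Nat.card Z * 4 ≤ Nat.card G := by
    obtain ⟨q, k, n, hq, -, h1, h2⟩ := exists_prime_pow_part_not_mem hy
    have : Fact q.Prime := ⟨hq⟩
    have h3 := hcent q _ k h1 h2
    have h4 : Nat.card Z ≤ Nat.card (Subgroup.center (Subgroup.centralizer ({y ^ n} : Set G))) := by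
      refine Nat.card_le_card_of_injective (fun u => ⟨⟨u, center_le_centralizer_singleton _ u.2⟩,
        Subgroup.mem_center_iff.mpr fun d => Subtype.ext (Subgroup.mem_center_iff.mp u.2 d)⟩) ?_
      intro u v huv
      exact Subtype.ext
        (congrArg (fun t => ((t.1 : Subgroup.centralizer ({y ^ n} : Set G)) : G)) huv)
    have h5 : 4 ≤ q ^ 2 := by nlinarith [hq.two_le]
    exact (Nat.mul_le_mul h4 h5).trans (h3.trans (Subgroup.card_le_card_group _))
  set N := Nat.card G with hN
  have hN4 : 4 ≤ N := le_trans (Nat.le_mul_of_pos_left _ Nat.card_pos) hZ4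
  have hcover : (Finset.univ : Finset G) ⊆ Finset.univ.filter (· ∈ Z) ∪
      (insert 2 (Finset.Ioc 2 N)).biUnion X := by
    intro x _
    by_cases hx : x ∈ Z
    · exact Finset.mem_union_left _ (Finset.mem_filter.mpr ⟨Finset.mem_univ _, hx⟩)
    obtain ⟨q, k, n, hq, hqd, h1, h2⟩ := exists_prime_pow_part_not_mem hx
    refine Finset.mem_union_right _ (Finset.mem_biUnion.mpr ⟨q, ?_, Finset.mem_filter.mpr
      ⟨Finset.mem_univ _, hx, hq, _, k, h1, h2,
        maxCent_eq_of_le h hx h1 (centralizer_singleton_le_pow _ _)⟩⟩)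
    have h3 := hq.two_le
    have h4 : q ≤ N := Nat.le_of_dvd Nat.card_pos (hqd.trans (orderOf_dvd_natCard x))
    simp only [Finset.mem_insert, Finset.mem_Ioc]
    omega
  have h1 : N ≤ Nat.card Z + ((X 2).card + ∑ p ∈ Finset.Ioc 2 N, (X p).card) := by
    have := (Finset.card_le_card hcover).trans (Finset.card_union_le _ _)
    rw [Finset.card_univ, ← Nat.card_eq_fintype_card] at this
    refine this.trans (Nat.add_le_add ?_ (Finset.card_biUnion_le.trans ?_))
    · rw [← Nat.card_eq_finsetCard]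
      exact (Nat.card_congr (Equiv.subtypeEquivRight fun x => by simp)).le
    · rw [Finset.sum_insert (by simp)]
  have h2 : (∑ p ∈ Finset.Ioc 2 N, ((X p).card : ℝ)) ≤ N * (((2 : ℕ) : ℝ)⁻¹ - (N : ℝ)⁻¹) := by
    refine le_trans ?_ (mul_le_mul_of_nonneg_left
      (sum_Ioc_inv_sq_le_sub (α := ℝ) (k := 2) (n := N) two_ne_zero (by omega)) (Nat.cast_nonneg N))
    rw [Finset.mul_sum]
    refine Finset.sum_le_sum fun p hp => ?_
    have hp0 : (0 : ℝ) < (p : ℝ) ^ 2 := by
      have := (Finset.mem_Ioc.mp hp).1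
      positivity
    rw [← div_eq_mul_inv, le_div_iff₀ hp0]
    exact_mod_cast hX p
  have h3 : ((X 2).card : ℝ) * 4 ≤ N := by exact_mod_cast hX 2
  have h4 : (Nat.card Z : ℝ) * 4 ≤ N := by exact_mod_cast hZ4
  have h5 : (N : ℝ) ≤ Nat.card Z + ((X 2).card + ∑ p ∈ Finset.Ioc 2 N, ((X p).card : ℝ)) := by
    exact_mod_cast h1
  have h6 : (N : ℝ) * (((2 : ℕ) : ℝ)⁻¹ - (N : ℝ)⁻¹) = N / 2 - 1 := by
    have : (N : ℝ) ≠ 0 := by positivity
    field_simp
    push_cast
    ring
  linarith

end

end H23
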