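import Cfsg.Agent.H48.DNASpec
import Cfsg.Agent.H23.GSS3

/-! # S3275, chapter alpha: the job `T5b`. -/

set_option autoImplicit false

namespace H23.NAT5b

open Subgroup Cfsg H98 H48.DP H57.DPC H26.DA H98.DP0C H48.DP2

universe u

/-- A non-trivial finite `p`-group meets its centraliser. -/
theorem exists_cen {G : Type u} [Group G] [Finite G] {p : ℕ} [Fact p.Prime] {Q : Subgroup G}
    (h : IsPGroup p Q) (h1 : Q ≠ ⊥) : ∃ z ∈ Ce Q, z ≠ 1 := by
  have : Nontrivial Q := (Subgroup.nontrivial_iff_ne_bot Q).2 h1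
  have := h.center_nontrivial
  obtain ⟨⟨⟨z, zQ⟩, hz⟩, z1⟩ := exists_ne (1 : center Q)
  refine ⟨z, mem_centralizer_iff.2 fun g hg => ?_, fun e => z1 (Subtype.ext (Subtype.ext e))⟩
  exact congrArg Subtype.val (mem_center_iff.1 hz ⟨g, hg⟩)

theorem job : JT5b.{u} := by
  intro t4a t4b G Γ _ _ _ _ M Q π y L h hp y3 d hL yL
  have : Fact (Nat.Prime 2) := ⟨Nat.prime_two⟩
  have : Fact (Nat.Prime 3) := ⟨Nat.prime_three⟩
  have Q2 : IsPGroup 2 Q := h.o2 ▸ isPGroup_pCoreOf M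
  have ker : ∀ g : M, π g = 1 → (g : G) ∈ Q := fun g hg => by
    have : g ∈ π.ker := hg
    rw [hp.ker, h.o2] at this
    exact mem_subgroupOf.1 this
  have QZ : Q ≤ Ce (Ce Q) := fun g hg => mem_centralizer_iff.2 fun c hc =>
    (mem_centralizer_iff.1 hc g hg).symm
  have MZ : ∀ g : M, (g : G) ∈ No (Ce Q) := fun g => H23.GSS3.no_ce (h.no.ge g.2)
  have hy3 : (y : G) ^ 3 = 1 := by
    have := pow_orderOf_eq_one (y : G)
    rwa [y3] at this
  have yC : (y : G) ∈ C1 (y : G) := mem_C1_self _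
  have py : orderOf (π y) = 3 := by
    refine orderOf_eq_prime ?_ fun e => ?_
    · rw [← map_pow]
      have : y ^ 3 = 1 := Subtype.ext (by simpa using hy3)
      rw [this, map_one]
    · have : (y : G) ∈ Q ⊓ C1 (y : G) := ⟨ker y e, yC⟩
      rw [d, mem_bot] at this
      rw [this, orderOf_one] at y3
      exact absurd y3 (by norm_num)
  obtain ⟨s', -, s7, rel, hN⟩ := t4a Γ L (π y) hL yL py
  obtain ⟨s, rfl⟩ := hp.surj s'
  have Zy : Ce Q ⊓ C1 (y : G) = ⊥ := eq_bot_iff.2 (d ▸ inf_le_inf_right _ h.cq)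
  have key : ∀ n : ℕ, π y * π s * (π y)⁻¹ = π s ^ n →
      ((s : G) ^ n)⁻¹ * ((y : G) * s * (y : G)⁻¹) ∈ Ce (Ce Q) := fun n e => by
    refine QZ (ker ((s ^ n)⁻¹ * (y * s * y⁻¹)) ?_)
    rw [map_mul, map_inv, map_pow, map_mul, map_mul, map_inv, e, inv_mul_cancel]
  have sZ : (s : G) ∈ Ce (Ce Q) :=
    t4b G (Ce Q) y s (Q2.to_le h.cq) (h.cq.trans QZ) (MZ y) (MZ s) hy3 Zy
      (QZ (ker (s ^ 7) (by rw [map_pow, s7]))) (rel.imp (key 2) (key 4))
  have yN : π y ∈ bar π (Ce (Ce Q)) := by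
    refine hN _ (H23.GSS3.bar_mem π s.2 sZ) fun g _ => ?_
    obtain ⟨g, rfl⟩ := hp.surj g
    exact H23.GSS3.bar_no π g.2 (H23.GSS3.no_ce (MZ g))
  obtain ⟨c, hc, e⟩ := yN
  have yZ : (y : G) ∈ Ce (Ce Q) := by
    have h1 : ((c⁻¹ * y : M) : G) ∈ Ce (Ce Q) :=
      QZ (ker _ (by rw [map_mul, map_inv, e, inv_mul_cancel]))
    have h2 : (c : G) ∈ Ce (Ce Q) := mem_subgroupOf.1 hc
    simpa using mul_mem h2 h1
  obtain ⟨z, hz, z1⟩ := exists_cen Q2 h.nt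
  have : z ∈ Ce Q ⊓ C1 (y : G) :=
    ⟨hz, mem_centralizer_singleton_iff.2 (mem_centralizer_iff.1 yZ z hz)⟩
  rw [Zy, mem_bot] at this
  exact z1 this

end H23.NAT5b
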