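import Cfsg.Agent.H23.NDSpec

/-! S4780: the assembly. -/

set_option autoImplicit false
set_option linter.unusedSectionVars false
open Cfsg H28 H32 H44 H93.DG H55.Nd MulAction

namespace H23.ND

universe u

variable {G : Type u} [Group G] [Finite G]

section pg

variable {p : ℕ} {P : Subgroup G} [hP : P.Normal] {h : G}

theorem C0_comm {c d : G} (hc : c ∈ C0 P h) (hd : d ∈ Subgroup.zpowers h) : d * c = c * d := by
  obtain ⟨k, rfl⟩ := hd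
  exact (Commute.zpow_left (mem_C0.1 hc).2 k : _)

theorem normZ (c : PG p P h) {A : Subgroup G} [hA : A.Normal] (k : ⁅C0 P h, P⁆ ≤ A) :
    (C0 P h ⊔ A).Normal := ⟨fun z hz g => by
  obtain ⟨x, hx, a, ha, rfl⟩ := Subgroup.mem_sup_of_normal_right.1 hz
  obtain ⟨y, hy, d, hd, rfl⟩ := dec_gen c.b.gen g
  have e : y * d * (x * a) * (y * d)⁻¹ =
      x * ((x⁻¹ * y * x⁻¹⁻¹ * y⁻¹) * (y * d * a * (y * d)⁻¹)) := by
    rw [show y * d * (x * a) = y * (d * x) * a by group, C0_comm hx hd]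
    group
  rw [e]
  exact Subgroup.mul_mem_sup hx (mul_mem (k (Subgroup.commutator_mem_commutator (inv_mem hx) hy))
    (hA.conj_mem _ ha _))⟩

theorem cm_of_sup {B : Subgroup G} [hB : B.Normal] {a d : G} (hd : d ∈ Subgroup.zpowers h)
    (ha : a ∈ C0 P h ⊔ B) : d * a * d⁻¹ * a⁻¹ ∈ B := by
  obtain ⟨x, hx, b, hb, rfl⟩ := Subgroup.mem_sup_of_normal_right.1 ha
  have e : d * (x * b) * d⁻¹ * (x * b)⁻¹ = x * (d * b * d⁻¹ * b⁻¹) * x⁻¹ := by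
    rw [← mul_assoc d x, C0_comm hx hd]
    group
  rw [e]
  exact hB.conj_mem _ (mul_mem (hB.conj_mem _ hb _) (inv_mem hb)) _

theorem next (Step : JobStep.{u}) (c : PG p P h) {A B Z : Subgroup G} [hA : A.Normal]
    [hB : B.Normal] [hZ : Z.Normal] (h1 : A ≤ P) (h2 : B = ⁅A, P⁆) (h3 : Z = C0 P h ⊔ A)
    (h4 : ⁅C0 P h, P⁆ ≤ B) {q : ℕ} (l : Lv P A B Z q) (v : ∀ x ∈ P, x ∉ Z → Cl P x A) :
    ∀ x ∈ P, x ∉ C0 P h ⊔ B → Cl P x B := by
  intro x hx hn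
  have ba : B ≤ A := h2 ▸ Subgroup.commutator_le_left _ _
  by_cases k : x ∈ Z
  swap
  · exact (v x hx k).mono ba
  have e : ⁅Z, P⁆ = B := le_antisymm (le_Ct.1 (h3 ▸ sup_le (le_Ct.2 h4) (le_Ct.2 h2.ge)))
    (h2 ▸ Subgroup.commutator_mono (h3 ▸ le_sup_right) le_rfl)
  have pT : P ≤ Ct A B := le_Ct.2 (by rw [h2, Subgroup.commutator_comm])
  have := Step G p P A Z (Ct A B) h q c.b c.f (h3 ▸ sup_le inf_le_left h1) h1 (e ▸ ba) pT l.q1 l.sq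
    l.cd v x k
  rw [e] at this
  refine this fun g hg => ?_
  obtain ⟨y, hy, d, hd, rfl⟩ := dec_gen c.b.gen g
  have k' := k
  rw [h3] at k'
  obtain ⟨z, hz, a, ha, rfl⟩ := Subgroup.mem_sup_of_normal_right.1 k'
  refine mul_mem (pT hy) (l.sr d a ha (fun b => hn (Subgroup.mul_mem_sup hz b)) ?_)
  have m : d * (z * a) * d⁻¹ * y * (d * (z * a) * d⁻¹)⁻¹ * y⁻¹ ∈ B :=
    e ▸ Subgroup.commutator_mem_commutator (hZ.conj_mem _ k d) hy
  have := hB.conj_mem' _ (mul_mem (hB.conj_mem' _ m y) (hB.conj_mem' _ hg y)) z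
  have m2 := hB.conj_mem' _ (mul_mem m hg) z
  convert m2 using 1
  rw [show d * a * d⁻¹ * a⁻¹ = z⁻¹ * (z * d) * a * d⁻¹ * a⁻¹ by group, ← C0_comm hz hd]
  group

end pg

theorem Kr_bot {N : Subgroup G} (θ : N → ℂ) : Kr ⊥ θ := by
  rw [Kr, Subgroup.bot_subgroupOf]
  exact bot_le

theorem jobP (G1 : JobG1.{u}) (G2 : JobG2.{u}) (T2 : JobT2.{u}) (C2 : JobC2.{u}) (Lev : JobLev.{u})
    (Step : JobStep.{u}) (Ax : JobAX.{u}) (Jj : JobJ.{u}) (C4 : JobC4.{u}) : JobP.{u} := by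
  intro G _ _ p P _ h c hne
  have g1 := G1 G p P h c
  have g2 := G2 G p P h c g1
  by_cases hT : Ct (L2 P) (L3 P) = ⊤
  · exact .inl (T2 G p P h c g1 (g2.g4 hT) hT hne)
  right
  have c2 := C2 G p P h c g1 hT
  have c3 := g2.g5 c2
  have l32 : L3 P ≤ L2 P := Subgroup.commutator_le_left _ _
  have l43 : L4 P ≤ L3 P := Subgroup.commutator_le_left _ _
  have l2P : L2 P ≤ P := Subgroup.commutator_le_left _ _
  have n2 : ¬ L2 P ≤ L3 P := fun k => hT (eq_top_iff.2 fun g _ a ha =>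
    k (mul_mem (Subgroup.Normal.conj_mem inferInstance _ ha g) (inv_mem ha)))
  obtain ⟨q, l2⟩ := Lev G p P (L2 P) (L3 P) (CC P) h c le_rfl rfl g1.g0 (c3.trans l43) n2 c.f.cl
  have cl3 := next Step c l2P rfl g1.g0 (c3.trans l43) l2 c.f.cl
  have hf : ∀ a ∈ L2 P, h * a * h⁻¹ * a⁻¹ ∈ L3 P → a ∈ L3 P := fun a ha k => by
    by_contra n
    refine hT (eq_top_iff.2 (c.b.gen ▸ sup_le (le_Ct.2 ?_) ?_))
    · rw [Subgroup.commutator_comm]
    · exact Subgroup.zpowers_le.2 (l2.sr h a ha n k)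
  have n3 : ∀ a ∈ L2 P, a ∉ L3 P → a ∉ C0 P h ⊔ L3 P := fun a ha n k =>
    n (hf a ha (cm_of_sup (Subgroup.mem_zpowers h) k))
  obtain ⟨d, hd, dP, dT⟩ := g1.g1 (L2 P) (L3 P) l32 le_rfl le_rfl
  have := normZ c (c3.trans l43)
  have key : (∀ a ∈ L2 P, a ∉ L3 P → Cl P a (L4 P)) ∧ (∀ b ∈ L3 P, b ∉ L4 P → Cl P b (L4 P)) ∧
      ∃ e, ∀ θ : P → ℂ, IsIrrCharacter P θ → Kr (L4 P) θ → ¬ Kr (L3 P) θ → DD θ = e := by
    by_cases k : L3 P ≤ L4 P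
    · exact ⟨fun a ha n => (cl3 a (l2P ha) (n3 a ha n)).mono l43, fun b hb n => absurd (k hb) n,
        0, fun θ _ h1 h2 => absurd (fun x hx => h1 (k hx)) h2⟩
    obtain ⟨q', l3⟩ := Lev G p P (L3 P) (L4 P) _ h c l32 rfl rfl c3 k cl3
    have cl4 := next Step c (l32.trans l2P) rfl rfl c3 l3 cl3
    exact ⟨fun a ha n => cl4 a (l2P ha) fun m => n3 a ha n (sup_le_sup_left l43 _ m),
      fun b hb n => cl4 b (l2P (l32 hb)) fun m => n (g2.g3 d hd dP dT b hb (cm_of_sup hd m)),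
      _, l3.dd⟩
  obtain ⟨k1, k2, e, k3⟩ := key
  have z : L4 P = ⊥ := by
    by_contra z
    obtain ⟨J, _, j1, j2, j3⟩ := Jj G p P h c g1 c2 c3 k1 z
    exact C4 G P (CC P) (C0 P h) J g1.g0 inf_le_left c2 c3 j1 j2 c.f.cl
      (fun a ha n => cl3 a (l2P ha) (n3 a ha n)) k2 j3
  refine ⟨z, ⟨q * (Ct (L2 P) (L3 P)).index, e, fun x hx => ?_⟩, c2, ⟨q, l2⟩,
    Ax G p P h c g1 g2 z c2 n2 hf⟩
  refine (c.f.cd x hx).imp_right (Or.imp_right ?_)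
  rintro ⟨θ, hθ, n, -, rfl⟩
  by_cases k : Kr (L3 P) θ
  · exact .inl (l2.dd θ hθ k n)
  · exact .inr (k3 θ hθ (z ▸ Kr_bot θ) k)

theorem goal_three {a b : ℕ} (h : ∀ d ∈ charDegrees G, d = 1 ∨ d = a ∨ d = b) : Goal G :=
  ⟨⟨a, b, b, fun d hd => (h d hd).imp_right (Or.imp_right .inl)⟩, derived_three h⟩

theorem caseIII (Ab1 : JobAb1.{u}) (Ab2 : JobAb2.{u}) (Ab3 : JobAb3.{u}) (Ab4 : JobAb4.{u})
    (Ac1 : JobAc1.{u}) (Ac3 : JobAc3.{u}) (Ac4 : JobAc4.{u}) [Group.IsSolvable G] {p : ℕ}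
    {N P : Subgroup G} [N.Normal] {h : G} (b : B0 p N h) (f : BF N) (nq : NQP G)
    (h1 : ¬ p ∣ Nat.card ↥⁅N, N⁆) (h2 : IsPGroup p P) (h3 : P ≤ N) (h4 : ∃ x ∈ P, x ∉ CC N) :
    Goal G := by
  by_cases z : ⁅N, N⁆ = ⊥
  · refine goal_three (a := N.index) (b := 1) fun d hd => (f.cd d hd).imp_right (Or.imp_right ?_)
    rintro ⟨θ, -, n, -⟩
    exact absurd (z ▸ Kr_bot θ) n
  obtain ⟨Γ, c1, c2⟩ := Ab1 G p N P b.hp f h1 h2 h3 h4
  obtain ⟨⟨h', ad⟩, fp, cd⟩ := Ab2 G p N Γ h b f nq c1 c2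
  have : Nontrivial (Lin ↥⁅N, N⁆) := by
    rw [← Finite.one_lt_card_iff_nontrivial, card_lin]
    have : Nontrivial ↥⁅N, N⁆ := (Subgroup.nontrivial_iff_ne_bot _).2 z
    exact Subgroup.one_lt_index_of_ne_top
      (Group.IsSolvable.commutator_lt_top_of_nontrivial _).ne
  have as := Ac1 Γ _ _ h' ad
  obtain ⟨Z, n, ao⟩ := Ac3 Γ _ _ h' ad as
  obtain ⟨l0, hl⟩ := exists_ne (1 : Lin ↥⁅N, N⁆)
  obtain ⟨b0, hb, nb⟩ := SetLike.not_le_iff_exists.1 ad.ne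
  have n1 : n ≠ 1 := fun e => hl (ad.fp b0 hb nb l0 (by
    have := ao.ix l0 hl
    rw [e, Subgroup.index_eq_one] at this
    exact mem_stabilizer_iff.1 (this ▸ Subgroup.mem_top b0)))
  have nc : n ∈ charDegrees G := ao.ix l0 hl ▸ cd l0
  have bt : N.subgroupOf Γ ≠ ⊤ := fun e => ad.nf l0 hl (by rw [e, Subgroup.index_top]; exact one_dvd _)
  have ab := Ab4 G _ Γ _ ad.ab ad.fq bt ad.ne fp (Ac4 Γ _ _ Z h' n ad as ao)
    (Ab3 G _ Γ _ Z n b.nd c2 ad.ab ao n1 nc)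
  refine goal_three (a := N.index) (b := n) fun d hd => ?_
  classical
  cases nonempty_fintype G
  obtain ⟨χ, hχ, rfl⟩ := exists_of_mem_cd hd
  obtain ⟨θ, hθ, k⟩ := exists_constituent_res (H := ⁅N, N⁆) hχ.isCharacter
    (by rw [← hχ.cast_charDegree]; exact Nat.cast_ne_zero.2 hχ.charDegree_pos.ne')
  obtain ⟨l, rfl⟩ := exists_ch hθ.isCharacter (eq_one_of_mem_cd_of_comm (fun x y => Subtype.ext (by
    have := cm_mem x.2 y.2
    rwa [ab, Subgroup.mem_bot, mul_inv_eq_one, mul_inv_eq_iff_eq_mul] at this)) (mem_cd hθ))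
  by_cases e : l = 1
  · subst e
    rw [ch_one] at k
    have := dvd_index_of_mem_cd_quot N (mem_cd_quot hχ (hχ.le_charKer_of_classInner_ne_zero _ k))
    exact (em _).imp_right fun m => .inl (b.nd.eq hd b.cdf m this)
  · have := Dg.dvd_ch (l := l) ⟨χ, hχ, k, rfl⟩
    rw [← ix_stab c2, ao.ix l e] at this
    exact .inr (.inr (b.nd.eq nc hd n1 this).symm)

theorem main (A : JobA.{u}) (Top : JobTop.{u}) (Base : JobBase.{u}) (Q : JobQ.{u}) (Pj : JobP.{u})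
    (II : JobII.{u}) (Ab1 : JobAb1.{u}) (Ab2 : JobAb2.{u}) (Ab3 : JobAb3.{u}) (Ab4 : JobAb4.{u})
    (Ac1 : JobAc1.{u}) (Ac3 : JobAc3.{u}) (Ac4 : JobAc4.{u}) [Group.IsSolvable G] (nd : ND G) :
    Nat.card ↥(charDegrees G) ≤ 4 ∧ derivedSeries G 3 = ⊥ := by
  have two : (∃ m, ∀ d ∈ charDegrees G, d = 1 ∨ d = m) → Goal G := fun ⟨m, h⟩ =>
    goal_three (a := m) (b := m) fun d hd => (h d hd).imp_right .inl
  have : Goal G := by
    by_cases nq : NQP G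
    swap
    · exact two (A G nd nq)
    obtain k | ⟨p, k, N, L, P, _, _, h, b, h1, h2, h3, h4, h5, x, hx, h6⟩ := Top G nd
    · exact two k
    have f := Base G p N h b
    have pN : P ≤ N := h5 ▸ le_sup_right
    by_cases e : ⁅N, N⁆ ≤ L
    · exact caseIII Ab1 Ab2 Ab3 Ab4 Ac1 Ac3 Ac4 b f nq
        (fun m => h2 (m.trans (Subgroup.card_dvd_of_le e))) h4 pN
        ⟨x, hx, fun m => h6 (Subgroup.mem_sup_left ((mem_CC.1 m).2 h))⟩
    obtain ⟨h', b', q1, q2⟩ := Q G p k N L h b h1 h3 ⟨x, pN hx, h6⟩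
    have : (N.map (QuotientGroup.mk' L)).Normal :=
      Subgroup.Normal.map inferInstance _ (QuotientGroup.mk'_surjective L)
    refine II G p k N L P h b f h1 h2 h3 h4 h5 e (Pj _ p _ h' ⟨b', Base _ p _ h' b', q1, q2⟩ ?_)
    rw [L2, ← Subgroup.map_commutator, Ne, Subgroup.map_eq_bot_iff, QuotientGroup.ker_mk']
    exact e
  obtain ⟨⟨a, b, c, h⟩, h'⟩ := this
  refine ⟨?_, h'⟩
  rw [Nat.card_coe_set_eq]
  refine (ncard_cd_le_of_forall (S := {1, a, b, c}) (Set.toFinite _) h).trans ?_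
  refine (Set.ncard_insert_le _ _).trans (Nat.succ_le_succ ?_)
  refine (Set.ncard_insert_le _ _).trans (Nat.succ_le_succ ?_)
  refine (Set.ncard_insert_le _ _).trans (Nat.succ_le_succ ?_)
  rw [Set.ncard_singleton]

end H23.ND
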