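import Cfsg.Agent.H23.NDSpec

/-! S4780: the Lie ring of class four, nondegenerate case. -/

set_option autoImplicit false
set_option linter.unusedSectionVars false
open Cfsg H28 H44

namespace H23.NDL

universe u

theorem pair_le {A B : Type u} [AddCommGroup A] [AddCommGroup B] [Finite B]
    (β : A →+ B →+ Additive ℂˣ) (X : AddSubgroup B) (h1 : ∀ a, ∀ x ∈ X, β a x = 0)
    (h2 : ∀ a, (∀ b, β a b = 0) → a = 0) : Nat.card A * Nat.card X ≤ Nat.card B := by
  let f : A → (Multiplicative (B ⧸ X) →* ℂˣ) := fun a =>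
    AddMonoidHom.toMultiplicativeLeft (QuotientAddGroup.lift X (β a) (h1 a))
  have i : Function.Injective f := fun a a' e => sub_eq_zero.1 (h2 _ fun b => by
    have : β a b = β a' b := DFunLike.congr_fun e (Multiplicative.ofAdd (b : B ⧸ X))
    rw [map_sub, AddMonoidHom.sub_apply, this, sub_self])
  have := finite_hom (Multiplicative (B ⧸ X))
  have k := Nat.card_le_card_of_injective f i
  rw [card_hom_units] at k
  rw [X.card_eq_card_quotient_mul_card_addSubgroup]
  exact Nat.mul_le_mul_right _ (k.trans (Nat.le_of_dvd Nat.card_pos (Subgroup.index_dvd_card _)))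

theorem ex_rho (V : Type u) [AddCommGroup V] [Finite V] [Nontrivial V] :
    ∃ (ρ : V →+ Additive ℂˣ) (v : V), ρ v ≠ 0 := by
  obtain ⟨v, hv⟩ := exists_ne (0 : V)
  obtain ⟨l, -, h⟩ := exists_hom_ne_one_of_commutator_le (A := Multiplicative V) ⊥
    (Subgroup.commutator_le.2 fun a _ b _ => commutatorElement_eq_one_iff_mul_comm.2 (mul_comm a b))
    (a := Multiplicative.ofAdd v) hv
  exact ⟨AddMonoidHom.toMultiplicativeLeft.symm l, v, h⟩

theorem anti {V A : Type*} [AddCommGroup V] [AddCommGroup A] {b : V →+ V →+ A} (h : ∀ x, b x x = 0)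
    (x y : V) : b x y = - b y x := by
  have := h (x + y)
  simp only [map_add, AddMonoidHom.add_apply, h, zero_add, add_zero] at this
  exact eq_neg_of_add_eq_zero_right this

theorem ker_card {V A : Type*} [AddCommGroup V] [AddCommGroup A] {f : V →+ A}
    (h : Function.Surjective f) : Nat.card f.ker * Nat.card A = Nat.card V := by
  rw [← f.ker.card_mul_index, AddSubgroup.index_ker, AddMonoidHom.range_eq_top.2 h,
    AddSubgroup.card_top]

open H23.ND

variable {V1 V2 V3 V4 : Type u} [AddCommGroup V1] [AddCommGroup V2]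
  [AddCommGroup V3] [AddCommGroup V4] [Finite V1] [Finite V2] [Finite V3] [Finite V4]
  {b11 : V1 →+ V1 →+ V2} {b21 : V2 →+ V1 →+ V3} {b31 : V3 →+ V1 →+ V4} {b22 : V2 →+ V2 →+ V4}

theorem ex_w (D : LieD b11 b21 b31 b22) (ρ : V4 →+ Additive ℂˣ) :
    ∃ w, w ≠ 0 ∧ ∀ b, ρ (b31 b w) = 0 := by
  by_contra k
  push Not at k
  have := D.n1
  obtain ⟨x, hx⟩ := exists_ne (0 : V1)
  have h1 := pair_le (b31.flip.compr₂ ρ) ⊥ (fun a y hy => by
    rw [AddSubgroup.mem_bot.1 hy, map_zero]) fun a h => by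
      by_contra n
      obtain ⟨b, hb⟩ := k a n
      exact hb (h b)
  rw [AddSubgroup.card_bot, mul_one, ← ker_card (D.s1 x hx)] at h1
  have h2 : Nat.card (b21.flip x).range ≤ Nat.card V2 :=
    Nat.card_le_card_of_surjective _ (b21.flip x).rangeRestrict_surjective
  have h3 := D.lt x hx
  nlinarith

theorem iso_le (D : LieD b11 b21 b31 b22) {w : V1} (hw : w ≠ 0)
    (h : ∀ x ∈ (b11 w).ker, ∀ y ∈ (b11 w).ker, b11 x y = 0) :
    Nat.card (b11 w).ker ≤ Nat.card V2 := by
  have := D.n2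
  obtain ⟨σ, v, hv⟩ := ex_rho V2
  have := pair_le ((b11.compr₂ σ).comp (b11 w).ker.subtype) (b11 w).ker
    (fun a x hx => show σ (b11 a x) = 0 by rw [h _ a.2 _ hx, map_zero]) fun a k => by
      by_contra n
      obtain ⟨y, rfl⟩ := D.s1 a (fun e => n (Subtype.ext e)) v
      exact hv (k y)
  rw [← ker_card (D.s1 w hw)] at this
  exact Nat.le_of_mul_le_mul_left this Nat.card_pos

theorem jobLie1 (CW : JobCW.{u}) (Fld : JobFld.{u}) : JobLie1.{u} := by
  intro V1 V2 V3 V4 _ _ _ _ _ _ _ _ b11 b21 b31 b22 D hs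
  have := D.n1
  have := D.n2
  have := D.n4
  obtain ⟨ρ, v, hv⟩ := ex_rho V4
  obtain ⟨w, hw, hρ⟩ := ex_w D ρ
  have F1 : ∀ a y, ρ (b31 (b21 a w) y) = ρ (b22 a (b11 w y)) := fun a y => by
    rw [← D.j4, map_sub, hρ, sub_zero]
  have inj : ∀ a, b21 a w = 0 → a = 0 := fun a e => by
    by_contra n
    obtain ⟨c, rfl⟩ := hs a n v
    obtain ⟨y, rfl⟩ := D.s1 w hw c
    exact hv (by rw [← F1, e]; simp)
  have xw : ∀ x ∈ (b11 w).ker, b11 x w = 0 := fun x hx => by
    rw [anti D.alt, AddMonoidHom.mem_ker.1 hx, neg_zero]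
  have iso : ∀ x ∈ (b11 w).ker, ∀ y ∈ (b11 w).ker, b11 x y = 0 := fun x hx y hy => inj _ (by
    simpa [xw y hy, AddMonoidHom.mem_ker.1 hx] using D.j3 x y w)
  have c1 := iso_le D hw iso
  have c2 := CW V1 V2 b11 D.alt D.s1
  rw [← ker_card (D.s1 w hw), sq] at c2
  have c3 := le_antisymm c1 (Nat.le_of_mul_le_mul_right c2 Nat.card_pos)
  let r := Function.surjInv (D.s1 w hw)
  have hr : ∀ a, b11 w (r a) = a := Function.surjInv_eq _
  have e : ∀ x : (b11 w).ker, ∀ y z, b11 w y = b11 w z → b11 x y = b11 x z := fun x y z k => by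
    rw [← sub_eq_zero, ← map_sub] at k ⊢
    exact iso _ x.2 _ k
  let S : (b11 w).ker →+ V2 →+ V2 := AddMonoidHom.mk' (fun x => AddMonoidHom.mk'
    (fun a => b11 x (r a)) fun a b => by
      rw [← map_add]
      exact e x _ _ (by rw [map_add, hr, hr, hr])) fun x y => AddMonoidHom.ext fun a => by
        simp
  have hS : ∀ x y, S x (b11 w y) = b11 x y := fun x y => e x _ _ (hr _)
  have F2 : ∀ (x : (b11 w).ker) a, b21 a x = b21 (S x a) w := fun x a => by
    obtain ⟨y, rfl⟩ := D.s1 w hw a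
    have := D.j3 w y x
    rw [xw _ x.2, anti D.alt y x] at this
    rw [hS]
    simpa [add_neg_eq_zero] using this
  have F3 : ∀ (x : (b11 w).ker) a y, ρ (b31 (b21 a y) x) =
      ρ (b22 (S x a) (b11 w y)) - ρ (b22 a (S x (b11 w y))) := fun x a y => by
    rw [hS, ← D.j4 a, map_sub, F2, F1, sub_sub_cancel]
  obtain ⟨p, hp, hd⟩ := Nat.exists_prime_and_dvd (Finite.one_lt_card (α := V1)).ne'
  have := Fact.mk hp
  obtain ⟨x0, h0⟩ := exists_prime_addOrderOf_dvd_card' p hd
  have := Fld _ V2 _ p hp (fun a => by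
    obtain ⟨y, rfl⟩ := D.s1 x0 (fun k => hp.ne_one (by rw [← h0, k, addOrderOf_zero])) a
    rw [← AddMonoidHom.nsmul_apply, ← map_nsmul, ← h0, addOrderOf_nsmul_eq_zero, map_zero,
      AddMonoidHom.zero_apply]) c3 S (b22.compr₂ ρ) (fun x y a => by
    obtain ⟨z, rfl⟩ := D.s1 w hw a
    have := D.j3 x y z
    rw [iso _ x.2 _ y.2, anti D.alt z x, F2 x, F2 y, map_neg, map_zero, AddMonoidHom.zero_apply,
      zero_add, ← AddMonoidHom.add_apply, ← map_add] at this
    rw [hS, hS]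
    exact add_neg_eq_zero.1 (inj _ this)) (fun x hx => by
    refine (Finite.surjective_iff_bijective).1 fun a => ?_
    obtain ⟨y, rfl⟩ := D.s1 x (fun k => hx (Subtype.ext k)) a
    exact ⟨_, hS x y⟩) (fun a => show ρ (b22 a a) = 0 by rw [D.alt2, map_zero]) fun x a b => by
    obtain ⟨z, rfl⟩ := D.s1 w hw a
    obtain ⟨y, rfl⟩ := D.s1 w hw b
    have k := congrArg (fun t => ρ (b31 t x)) (D.j3 x z y)
    simp only [map_add, AddMonoidHom.add_apply, map_zero, AddMonoidHom.zero_apply] at k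
    rw [F2 x (b11 z y), F1, AddMonoidHom.mem_ker.1 x.2, map_zero, map_zero, add_zero,
      anti D.alt y x, F3, F3, ← hS x z, ← hS x y] at k
    simp only [map_neg, AddMonoidHom.neg_apply] at k
    rw [anti D.alt2 (S x (S x (b11 w y))), anti D.alt2 (S x (b11 w y))] at k
    simp only [map_neg] at k
    simp only [AddMonoidHom.compr₂_apply]
    rw [← k]
    abel
  obtain ⟨a, ha⟩ := exists_ne (0 : V2)
  obtain ⟨c, rfl⟩ := hs a ha v
  exact hv (DFunLike.congr_fun (DFunLike.congr_fun this a) c)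

end H23.NDL
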