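import Cfsg.Agent.H23.O8N3b
import Cfsg.Agent.H33.O8FFA

/-! Job A5c of the tower O8. -/

set_option autoImplicit false
set_option linter.unusedSectionVars false

namespace H23.O8

open Cfsg Subgroup H98 H74.OC H74.O8

universe u

variable {G : Type u} [Group G] [Finite G]

local instance a5c_two : Fact (Nat.Prime 2) := ⟨Nat.prime_two⟩

/-- A group fixing an involution of a four-group centralised by a Sylow 2-subgroup. -/
theorem cen_four {S L Z : Subgroup G} {z : G} (hS : IsSyl 2 S L) (h4 : Nat.card Z = 4) (hz : z ∈ Z)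
    (h1 : z ≠ 1) (hn : L ≤ normalizer (Z : Set G)) (hc : L ≤ centralizer ({z} : Set G))
    (hSZ : S ≤ centralizer (Z : Set G)) : L ≤ centralizer (Z : Set G) := by
  intro g hg w hw
  by_cases w1 : w = 1
  · rw [w1, one_mul, mul_one]
  by_cases wz : w = z
  · rw [wz]; exact (mem_centralizer_singleton_iff.1 (hc hg)).symm
  have a1 := ncard_cls L w
  have a2 : {x | ∃ k ∈ L, k * w * k⁻¹ = x} ⊆ ((Z : Set G) \ {1}) \ {z} := by
    rintro _ ⟨k, hk, rfl⟩
    refine ⟨⟨conj_mem_of_mem_normalizer (hn hk) hw, fun h => w1 (by simpa using h)⟩, fun h => wz ?_⟩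
    have h : k * w * k⁻¹ = z := h
    calc w = k⁻¹ * (k * w * k⁻¹ * k) := by group
      _ = z := by rw [h, ← mem_centralizer_singleton_iff.1 (hc hk)]; group
  have a3 := Set.ncard_le_ncard a2
  have a4 : (Z : Set G).ncard = 4 := h4
  rw [a1, Set.ncard_sdiff_singleton_of_mem (show z ∈ (Z : Set G) \ {1} from ⟨hz, h1⟩),
    Set.ncard_sdiff_singleton_of_mem Z.one_mem, a4] at a3
  have a5 : (centralizer ({w} : Set G)).relIndex L ∣ S.relIndex L := relIndex_dvd_of_le_left L
    (hSZ.trans (centralizer_le (Set.singleton_subset_iff.2 hw)))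
  have a6 := hS.not_dvd_relIndex
  have a7 : (centralizer ({w} : Set G)).relIndex L ≠ 0 := index_ne_zero_of_finite
  have a8 : (centralizer ({w} : Set G)).relIndex L ≠ 2 := fun e => a6 (e ▸ a5)
  exact (mem_centralizer_singleton_iff.1 (relIndex_eq_one.1 (by omega) hg)).symm

theorem jobA5c : H74.O8.JobA5c.{u} := by
  intro ffk ff G _ _ M Q S y big mx ty c16 d hS hc
  have sp := big.sp
  have QS := mx.le_syl d.syl
  have S0 : S ≠ ⊥ := fun e => mx.ne (le_bot_iff.1 (e ▸ QS))
  obtain ⟨⟨z, hz⟩, z1⟩ := ne_bot_iff_exists_ne_one.1 (oz_ne_bot hS.isPGroup S0)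
  have z1 : z ≠ 1 := fun e => z1 (Subtype.ext e)
  have z2 : z ^ 2 = 1 := (mem_oz.1 hz).2.2
  obtain ⟨nou, fd⟩ := ff G M Q S 2 sp mx ty c16 QS d.syl.le
  have SK : S ≤ centralizer ({z} : Set G) :=
    (le_centralizer_oz S).trans (centralizer_le (Set.singleton_subset_iff.2 hz))
  have hK := ffk G S _ (hS.of_le SK le_top) (big.cen1 z1 z2) (t23_of_cen sp z1 z2 le_rfl).solv nou
  refine big.bau S hS z hz z1 ?_
  by_cases hJ : jt 2 S ≤ Q
  · have e : normalizer (jt 2 S : Set G) = M := by rw [← jt_eq_of_le hJ QS, mx.nor_jt]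
    have hM : centralizer ({z} : Set G) ≤ M := hK.trans (sup_le
      (inf_le_right.trans (hc.trans (e ▸ le_normalizer_jt le_rfl))) (e ▸ inf_le_right))
    refine (d.ovr _ SK hM).resolve_right fun f => z1 (mem_bot.1 ?_)
    rw [← ty.cen_bot sp (isPGroup_zpowers (p := 2) (k := 1) z2) (by rw [cen_zp, f])]
    exact mem_zpowers z
  rw [jt, H12.thompsonSubgroupOf_le_iff] at hJ
  push Not at hJ
  obtain ⟨A, hA, AQ⟩ := hJ
  have f := fd A hA AQ
  obtain ⟨eA, fx⟩ := H33.O8.ffd_fix f QS hA.1 (d.syl.le.trans mx.nor) d.c1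
  obtain ⟨t, ht, tQ⟩ := SetLike.not_le_iff_exists.1 AQ
  have eZ : oz 2 Q ⊓ centralizer (S : Set G) = oz 2 S := le_antisymm
    (le_oz (H12.ea_mono (ea_oz Q) inf_le_left) (inf_le_left.trans ((oz_le Q).trans QS)) inf_le_right)
    (le_inf (mx.oz_le QS) (oz_le_centralizer S))
  have eA' : oz 2 Q ⊓ centralizer (A : Set G) = oz 2 S := by
    rw [← eZ, ← eA, centralizer_sup]
    exact le_antisymm (le_inf inf_le_left (le_inf inf_le_right (inf_le_left.trans
      (oz_le_centralizer Q)))) (inf_le_inf_left _ inf_le_left)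
  have c4 : Nat.card (oz 2 S) = 4 := by
    have a1 := ty.gen (oz 2 Q) (isPGroup_oz Q) mx.nor_oz.ge t (d.syl.le (hA.1 ht)) tQ
      (d.sq t (hA.1 ht))
    have a2 := rc (centralizer ({t} : Set G)) (oz 2 Q)
    have a3 := f.c2
    rw [inf_comm, fx t (hA.1 ht) tQ, eZ] at a2
    rw [eA'] at a3
    have a4 : (centralizer ({t} : Set G)).relIndex (oz 2 Q) = 4 :=
      Nat.eq_of_mul_eq_mul_right Nat.card_pos (a2.trans a3)
    rw [a4] at a1
    omega
  have A0 : (A ⊓ Q) ⊔ oz 2 Q ≤ Q := sup_le inf_le_right (oz_le Q)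
  have eJ : oz 2 (jt 2 S) = oz 2 S := by
    refine le_antisymm (eA' ▸ le_inf ?_ ((oz_le_centralizer _).trans
      (centralizer_anti (H12.le_thompsonSubgroupOf hA)))) (le_oz_jt (ea_oz S) (oz_le S)
        ((oz_le_centralizer S).trans (centralizer_anti (jt_le S))))
    rw [← f.zj]
    refine oz_le_oz (H12.thompsonSubgroupOf_le_of_sub f.mem A0 QS) (le_trans ?_
      (H12.le_thompsonSubgroupOf (H12.mem_maxEA_of_le f.mem A0 QS)))
    exact H12.le_of_mem_maxEA f.mem ((oz_le _).trans (jt_le S)) (ea_oz _)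
      ((oz_le_centralizer _).trans (centralizer_anti (H12.le_thompsonSubgroupOf f.mem)))
  refine hK.trans (sup_le (inf_le_right.trans hc) (le_trans ?_ hc))
  exact cen_four (hS.of_le (le_inf SK (le_normalizer_jt le_normalizer)) le_top) c4 hz z1
    (inf_le_right.trans (eJ ▸ le_normalizer_oz le_rfl)) inf_le_left (le_centralizer_oz S)

end H23.O8
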