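import Cfsg.Agent.H23.O8N3a
import Cfsg.Agent.H2.MinNormal

/-! Jobs A9 and GAM of the tower O8. -/

set_option autoImplicit false
set_option linter.unusedSectionVars false

namespace H23.O8

open Cfsg Subgroup H98 H74.OC H74.O8
open scoped commutatorElement

universe u

variable {G : Type u} [Group G] [Finite G]

local instance gam_two : Fact (Nat.Prime 2) := ⟨Nat.prime_two⟩
local instance gam_three : Fact (Nat.Prime 3) := ⟨Nat.prime_three⟩

/-- An element of `Y` outside `E` whose commutators with `X` lie in `E`. -/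
theorem exists_comm_le {p : ℕ} [Fact p.Prime] {X E : Subgroup G} (hX : IsPGroup p X)
    (Y : Subgroup G) : IsPGroup p Y → X ≤ normalizer (Y : Set G) → ¬ Y ≤ E →
    ∃ y ∈ Y, y ∉ E ∧ ∀ x ∈ X, ⁅x, y⁆ ∈ E := by
  induction Y using WellFoundedLT.induction with
  | ind Y ih =>
    intro hY hn hE
    by_cases h : ⁅Y, X⁆ ≤ E
    · obtain ⟨y, hy, hy'⟩ := SetLike.not_le_iff_exists.1 hE
      exact ⟨y, hy, hy', fun x hx => h (commutator_comm X Y ▸ commutator_mem_commutator hx hy)⟩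
    · have lt := commutator_lt_of_isPGroup hY hX hn (fun e => hE (e ▸ bot_le))
      obtain ⟨y, hy, k⟩ := ih _ lt (hY.to_le lt.le) (le_normalizer_commutator hn le_normalizer) h
      exact ⟨y, lt.le hy, k⟩

theorem jobA9 : H74.O8.JobA9.{u} := by
  intro G _ _ W A sp hW hA hn hc
  have e1 := cent9 sp hA hW hn
  have e2 : oz 2 W ≤ W ⊓ centralizer (A : Set G) := le_inf (oz_le W) (le_centralizer_iff.1 hc)
  by_contra hne
  have hWE : ¬ W ≤ oz 2 W := fun h => hne (le_centralizer_iff.1 (h.trans (e2.trans inf_le_right)))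
  have hY : ¬ W ⊓ stab W (oz 2 W) ≤ oz 2 W := by
    obtain ⟨y, hy, hy', k⟩ := exists_comm_le hW W hW le_normalizer hWE
    exact fun h => hy' (h (mem_inf.2 ⟨hy, mem_stab.2 ⟨le_normalizer_oz le_normalizer hy, k⟩⟩))
  have a1 := mt (gen9 sp hA (hW.to_le inf_le_left)
    (le_normalizer_inf hn (le_normalizer_stab hn (le_normalizer_oz hn)))) hY
  push Not at a1
  obtain ⟨a, ha, oa, a1⟩ := a1
  obtain ⟨v, hv, hvE⟩ := SetLike.not_le_iff_exists.1 a1
  obtain ⟨hv1, hva⟩ := mem_inf.1 hv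
  obtain ⟨hvW, hvs⟩ := mem_inf.1 hv1
  have ea := el3 sp oa (hW.to_le (inf_le_left (b := centralizer ({a} : Set G)))) inf_le_right
  have hvU : v ∈ W ⊓ centralizer ({a} : Set G) := mem_inf.2 ⟨hvW, hva⟩
  have hWv : ¬ W ≤ centralizer ({v} : Set G) := fun h => hvE (mem_oz.2 ⟨hvW, fun w hw =>
    mem_centralizer_singleton_iff.1 (h hw), ea.2 v hvU⟩)
  have a2 := mt (gen9 sp hA hW hn) hWv
  push Not at a2
  obtain ⟨b, hb, ob, a2⟩ := a2
  obtain ⟨w, hw, hwv⟩ := SetLike.not_le_iff_exists.1 a2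
  obtain ⟨hwW, hwb⟩ := mem_inf.1 hw
  have cm : ∀ x ∈ W ⊓ centralizer ({a} : Set G), ∀ y ∈ W ⊓ centralizer ({a} : Set G),
      x * y = y * x := fun x hx y hy => (H12.ea_le_centralizer ea hy x hx)
  have hab : a * b = b * a := congrArg Subtype.val
    ((IsPGroup.isMulCommutative_of_card_eq_prime_sq (p := 3) hA).is_comm.comm ⟨a, ha⟩ ⟨b, hb⟩)
  have c3 : Nat.card (zpowers b) = 3 := by rw [Nat.card_zpowers, ob]
  by_cases hba : a ∈ zpowers b
  · have : w ∈ centralizer ({a} : Set G) := by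
      rw [← cen_zp] at hwb ⊢
      exact centralizer_anti ((zpowers_le).2 hba) hwb
    exact hwv (mem_centralizer_singleton_iff.2 (cm w (mem_inf.2 ⟨hwW, this⟩) v hvU))
  have hA' : zpowers b ⊔ zpowers a = A :=
    (eq_or_eq_of_card Nat.prime_three le_sup_left (sup_le ((zpowers_le).2 hb) ((zpowers_le).2 ha))
      (by rw [hA, c3])).resolve_left fun e => hba (e ▸ mem_sup_right (mem_zpowers a))
  have nb : b ∈ normalizer ((W ⊓ centralizer ({a} : Set G) : Subgroup G) : Set G) := by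
    refine le_normalizer_inf (H := zpowers b) ((zpowers_le).2 (hn hb)) ?_ (mem_zpowers b)
    rw [← cen_zp]
    refine le_normalizer_centralizer (le_normalizer_of_le_centralizer ?_)
    rw [cen_zp]
    exact (zpowers_le).2 (mem_centralizer_singleton_iff.2 hab.symm)
  have b3 : b * b * b = 1 := by rw [← pow_three', ← ob, pow_orderOf_eq_one]
  have m1 := conj_mem_of_mem_normalizer nb hvU
  have m2 := conj_mem_of_mem_normalizer nb m1
  set v1 := b * v * b⁻¹ with h1
  set v2 := b * v1 * b⁻¹ with h2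
  have h3 : b * v2 * b⁻¹ = v := by
    calc b * v2 * b⁻¹ = (b * b * b) * v * (b * b * b)⁻¹ := by rw [h2, h1]; group
      _ = v := by rw [b3]; group
  have hN : v * v1 * v2 ∈ oz 2 W := by
    have m := mul_mem (mul_mem hvU m1) m2
    refine e1 (mem_inf.2 ⟨(mem_inf.1 m).1, ?_⟩)
    rw [← hA', centralizer_sup, cen_zp, cen_zp]
    refine mem_inf.2 ⟨mem_centralizer_singleton_iff.2 ?_, (mem_inf.1 m).2⟩
    calc v * v1 * v2 * b = v1 * v2 * v * b := by
          rw [mul_assoc v v1, cm v hvU _ (mul_mem m1 m2)]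
      _ = b * (v * v1 * v2) := by
          nth_rewrite 1 [← h3]
          nth_rewrite 1 [h2]
          nth_rewrite 1 [h1]
          group
  obtain ⟨c, hc1⟩ : ∃ c, c = ⁅w, v⁆ := ⟨_, rfl⟩
  have hcE : c ∈ oz 2 W := hc1 ▸ (mem_stab.1 hvs).2 w hwW
  have cb : b * c = c * b := (hc hb c hcE).symm
  have wb : w * b = b * w := mem_centralizer_singleton_iff.1 hwb
  have st : ∀ x : G, w * x * w⁻¹ = c * x → w * (b * x * b⁻¹) * w⁻¹ = c * (b * x * b⁻¹) :=
    fun x hx => by
      calc w * (b * x * b⁻¹) * w⁻¹ = (w * b) * x * (w * b)⁻¹ := by group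
        _ = b * (w * x * w⁻¹) * b⁻¹ := by rw [wb]; group
        _ = c * (b * x * b⁻¹) := by rw [hx, ← mul_assoc, cb]; group
  have s0 : w * v * w⁻¹ = c * v := by rw [hc1, commutatorElement_def]; group
  have s1 := st v s0
  have s2 := st _ s1
  rw [← h1] at s1 s2
  rw [← h2] at s2
  have cW := (mem_oz.1 hcE).2.1
  have c2 : c * c = 1 := by rw [← pow_two]; exact (mem_oz.1 hcE).2.2
  have f1 : w * (v * v1 * v2) * w⁻¹ = c * (v * v1 * v2) := by
    calc w * (v * v1 * v2) * w⁻¹ = (w * v * w⁻¹) * (w * v1 * w⁻¹) * (w * v2 * w⁻¹) := by group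
      _ = c * (v * c) * (v1 * c) * v2 := by rw [s0, s1, s2]; group
      _ = c * (c * v) * (c * v1) * v2 := by rw [cW v hvW, cW v1 (mem_inf.1 m1).1]
      _ = (c * c) * (v * c) * v1 * v2 := by group
      _ = c * (v * v1 * v2) := by rw [c2, cW v hvW]; group
  rw [(mem_oz.1 hN).2.1 w hwW, mul_inv_cancel_right, right_eq_mul, hc1,
    commutatorElement_eq_one_iff_mul_comm] at f1
  exact hwv (mem_centralizer_singleton_iff.2 f1)

/-- The subgroup `O_{2,3}` of a `{2,3}`-group. -/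
theorem exists_o23 {X : Subgroup G} (h : T23 X) : ∃ F : Subgroup G, pCoreOf 2 X ≤ F ∧ F ≤ X ∧
    X ≤ normalizer (F : Set G) ∧ (∀ x ∈ F, ∃ k : ℕ, x ^ 3 ^ k ∈ pCoreOf 2 X) ∧
    ∀ g ∈ X, (∀ f ∈ F, ⁅f, g⁆ ∈ pCoreOf 2 X) → g ∈ F := by
  have := h.solv
  let π := QuotientGroup.mk' (pCore 2 X)
  have k : ∀ x : X, π x = 1 ↔ (x : G) ∈ pCoreOf 2 X := fun x => by
    rw [← mem_subgroupOf, pCoreOf_subgroupOf]; exact QuotientGroup.eq_one_iff x
  have h0 : pPrimeCore 3 (X ⧸ pCore 2 X) = ⊥ := by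
    refine eq_bot_iff.2 (sSup_le fun N hN => ?_)
    have := hN.1
    rw [← H2.pCore_quotient_pCore 2 X]
    refine H2.le_pCore ?_
    obtain ⟨a, b, e⟩ := H26.OC.eq23 (Nat.card_pos (α := N)).ne' fun p hp hd =>
      h p hp (hd.trans ((card_subgroup_dvd_card N).trans (card_quotient_dvd_card _)))
    rcases b with _ | b
    · exact IsPGroup.of_card (n := a) (by simpa using e)
    · exact absurd (Nat.Coprime.coprime_dvd_left (show 3 ∣ Nat.card N from
        e ▸ Dvd.dvd.mul_left (dvd_pow_self 3 b.succ_ne_zero) _) hN.2) (by norm_num)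
  refine ⟨((pCore 3 (X ⧸ pCore 2 X)).comap π).map X.subtype, fun x hx => ?_, map_subtype_le _,
    le_normalizer_map_subtype _, ?_, fun g hg hf => ?_⟩
  · exact ⟨⟨x, pCoreOf_le X hx⟩, by
      show π _ ∈ pCore 3 _
      rw [(k _).2 hx]; exact one_mem _, rfl⟩
  · rintro _ ⟨x, hx, rfl⟩
    obtain ⟨n, hn⟩ := isPGroup_iff_forall.1 (isPGroup_pCore 3 _) _ hx
    exact ⟨n, (k (x ^ 3 ^ n)).1 (by rw [map_pow]; exact hn)⟩
  · refine ⟨⟨g, hg⟩, H2.centralizer_pCore_le h0 fun y hy => ?_, rfl⟩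
    obtain ⟨x, rfl⟩ := QuotientGroup.mk'_surjective _ y
    have := (k ⁅x, ⟨g, hg⟩⁆).2 (hf x ⟨x, hy, rfl⟩)
    rw [map_commutatorElement, commutatorElement_eq_one_iff_mul_comm] at this
    exact this

/-- A 3-group centralising `oz S` centralises `oz R` if `S` normalises `A R`. -/
theorem cen_oz_of {S R A : Subgroup G} (hS : IsPGroup 2 S) (hR : R ≤ S)
    (h1 : S ≤ normalizer (R : Set G)) (hA : IsPGroup 3 A) (h2 : A ≤ normalizer (R : Set G))
    (h3 : S ≤ normalizer ((A ⊔ R : Subgroup G) : Set G)) (hc : A ≤ centralizer (oz 2 S : Set G)) :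
    A ≤ centralizer (oz 2 R : Set G) := by
  have hV := le_normalizer_oz (p := 2) h2
  have e : ⁅A ⊔ R, oz 2 R⁆ = ⁅A, oz 2 R⁆ :=
    commutator_sup_centralizer_left (le_centralizer_oz R) (.inr h2)
  have le : ⁅A, oz 2 R⁆ ≤ oz 2 R := commutator_le_right' hV
  have t := H46.coprime_abel_cent_TI (ea_oz (p := 2) R).1 hV
    (IsPGroup.coprime_card_of_ne 3 2 (by norm_num) _ _ hA (isPGroup_oz R))
  by_contra r
  have a := inf_centralizer_ne_bot ((isPGroup_oz (p := 2) R).to_le le) hS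
    (e ▸ le_normalizer_commutator h3 (le_normalizer_oz h1))
    (fun f => r (commutator_eq_bot_iff_le_centralizer.1 f))
  refine a (eq_bot_iff.2 (t ▸ le_inf (inf_le_left.trans (commutator_comm _ _).le) ?_))
  refine le_trans (le_oz (H12.ea_mono (ea_oz R) (inf_le_left.trans le))
    (inf_le_left.trans (le.trans ((oz_le R).trans hR))) inf_le_right) (le_centralizer_iff.1 hc)

/-- A 3-group centralising `oz` of the 2-core has order at most 3. -/
theorem card_le_three (sp : Sp 8 G) {X A : Subgroup G} (hX : H98.CharP 2 X) (hA : IsPGroup 3 A)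
    (h : A ≤ X) (hc : A ≤ centralizer (oz 2 (pCoreOf 2 X) : Set G)) : Nat.card A ∣ 3 := by
  obtain ⟨n, e⟩ := hA.exists_card_eq
  by_cases hn : n ≤ 1
  · exact e ▸ (pow_dvd_pow 3 hn).trans (by norm_num)
  obtain ⟨B, hB⟩ := Sylow.exists_subgroup_card_pow_prime_of_le_card (n := 2) Nat.prime_three hA
    (e ▸ Nat.pow_le_pow_right (by norm_num) (by omega))
  have c9 : Nat.card (B.map A.subtype) = 9 := (card_map_of_injective A.subtype_injective).trans hB
  have l : B.map A.subtype ≤ A := map_subtype_le _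
  have := hX.le_pCoreOf (l.trans h) (jobA9 G _ _ sp (isPGroup_pCoreOf X) c9
    (le_normalizer_pCoreOf_of_le (l.trans h)) (l.trans hc))
  exact absurd (card_dvd_of_le this) fun d =>
    not_dvd_card_of_isPGroup_ne Nat.prime_three (by norm_num) (isPGroup_pCoreOf (p := 2) X)
      ((c9 ▸ by norm_num : 3 ∣ Nat.card (B.map A.subtype)).trans d)

theorem card_t23 {X S B : Subgroup G} (h : T23 X) (hS : IsSyl 2 S X) (hB : IsSyl 3 B X) :
    Nat.card X = Nat.card B * Nat.card S := by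
  obtain ⟨a, b, e⟩ := H26.OC.eq23 (Nat.card_pos (α := X)).ne' h
  rw [hS.card_eq, hB.card_eq, e, Nat.factorization_mul (by positivity) (by positivity),
    Nat.prime_two.factorization_pow, Nat.prime_three.factorization_pow]
  simp [mul_comm]

theorem jobGAM : H74.O8.JobGAM.{u} := by
  intro G _ _ S H sp hS ch hc
  by_cases h0 : S = ⊥
  · exact .inl (h0 ▸ le_normalizer_bot H)
  obtain ⟨⟨z, hz⟩, z1⟩ := ne_bot_iff_exists_ne_one.1 (oz_ne_bot hS.isPGroup h0)
  have t : T23 H := t23_of_cen sp (fun e => z1 (Subtype.ext e)) (mem_oz.1 hz).2.2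
    (hc.trans (centralizer_le (Set.singleton_subset_iff.2 hz)))
  obtain ⟨F, f1, f2, f3, f4, f5⟩ := exists_o23 t
  obtain ⟨B, hB⟩ := exists_isSyl 3 H
  have hA := hB.inf_of_le_normalizer f2 (hB.le.trans f3)
  have nR := self_le_normalizer_pCoreOf (p := 2) H
  have e : B ⊓ F ⊔ pCoreOf 2 H = F := le_antisymm (sup_le inf_le_right f1)
    (hA.sup_res.ge.trans (sup_le_sup_left (res_le_of_forall_pow f4) _))
  have hAH : B ⊓ F ≤ H := inf_le_right.trans f2
  have c3 := card_le_three sp ch hA.isPGroup hAH (cen_oz_of hS.isPGroup hS.pCoreOf_le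
    (hS.le.trans nR) hA.isPGroup (hAH.trans nR) (e.symm ▸ hS.le.trans f3) (hAH.trans hc))
  have c0 : ⁅B ⊓ F, B⁆ = ⊥ := by
    by_cases h : B ⊓ F = ⊥
    · rw [h, commutator_bot_left]
    have lt := commutator_lt_of_isPGroup hA.isPGroup hB.isPGroup
      (le_normalizer_inf le_normalizer (hB.le.trans f3)) h
    refine (eq_or_eq_of_card Nat.prime_three bot_le lt.le ?_).resolve_right lt.ne
    rw [card_bot, mul_one]
    exact ((Nat.dvd_prime Nat.prime_three).1 c3).resolve_left fun e => h (card_eq_one.1 e)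
  have hBF : B ≤ F := fun b hb => f5 b (hB.le hb) fun f hf =>
    commutator_sup_left_le (hAH.trans nR) le_normalizer (c0 ▸ bot_le)
      (commutator_le_left' (hB.le.trans nR)) (commutator_mem_commutator (e.symm ▸ hf) hb)
  rw [inf_eq_left.2 hBF] at c3
  have cH := card_t23 t hS hB
  rcases (Nat.dvd_prime Nat.prime_three).1 c3 with k | k
  · exact .inl ((eq_of_le_of_card_ge hS.le (by rw [cH, k, one_mul])).ge.trans le_normalizer)
  · exact or_iff_not_imp_left.2 fun r => S3T.of_index hS.isPGroup hS.le (k ▸ cH) r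

end H23.O8
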