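import Cfsg.Agent.H74.O8Kit2

/-! Job N3a of the tower O8. -/

set_option autoImplicit false
set_option linter.unusedSectionVars false

namespace H23.O8

open Cfsg Subgroup H98 H74.OC H74.O8
open scoped commutatorElement

universe u

variable {G : Type u} [Group G] [Finite G]

local instance n3a_two : Fact (Nat.Prime 2) := ⟨Nat.prime_two⟩

theorem relIndex_cen_lt {K V : Subgroup G} (hK : K ≤ normalizer (V : Set G)) {v : G} (hv : v ∈ V)
    (h1 : v ≠ 1) : (centralizer ({v} : Set G)).relIndex K < Nat.card V := by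
  let _ : MulAction K G := MulAction.compHom G ((MulAut.conj (G := G)).comp K.subtype)
  have e : ∀ (k : K) (x : G), k • x = (k : G) * x * (k : G)⁻¹ := fun _ _ => rfl
  have hs : (centralizer ({v} : Set G)).subgroupOf K = MulAction.stabilizer K v := by
    ext k
    rw [mem_subgroupOf, mem_centralizer_singleton_iff, MulAction.mem_stabilizer_iff, e,
      mul_inv_eq_iff_eq_mul]
  rw [relIndex, hs, MulAction.index_stabilizer]
  refine Set.ncard_lt_ncard (t := (V : Set G)) ⟨?_, fun h => ?_⟩
  · rintro _ ⟨k, rfl⟩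
    exact conj_mem_of_mem_normalizer (hK k.2) hv
  · obtain ⟨k, hk⟩ := h V.one_mem
    have : (k : G) * v * (k : G)⁻¹ = 1 := hk
    exact h1 (by simpa using this)

omit [Finite G] in
theorem rc (H K : Subgroup G) : H.relIndex K * Nat.card ↥(H ⊓ K) = Nat.card K := by
  rw [← inf_relIndex_right, relIndex, ← card_mul_index ((H ⊓ K).subgroupOf K),
    Nat.card_congr (subgroupOfEquivOfLe inf_le_right).toEquiv, mul_comm]

theorem card_zp2 {z : G} (h1 : z ≠ 1) (h2 : z ^ 2 = 1) : Nat.card (zpowers z) = 2 := by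
  rw [Nat.card_zpowers, orderOf_eq_prime h2 h1]

theorem mem_zp2 {z w : G} (h2 : z ^ 2 = 1) (hw : w ∈ zpowers z) : w = 1 ∨ w = z := by
  obtain ⟨k, rfl⟩ := hw
  rcases Int.even_or_odd' k with ⟨j, rfl | rfl⟩
  · left; show z ^ (2 * j) = 1; rw [zpow_mul, zpow_two, ← pow_two, h2, one_zpow]
  · right; show z ^ (2 * j + 1) = z; rw [zpow_add, zpow_mul, zpow_two, ← pow_two, h2, one_zpow, one_mul,
      zpow_one]

theorem dvd8 {n : ℕ} (h : n ∣ 8) : n = 1 ∨ n = 2 ∨ n = 4 ∨ n = 8 := by
  have := Nat.le_of_dvd (by norm_num) h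
  interval_cases n <;> simp_all

/-- A group of order `8 |Q|` acting on `V` of order 8 with kernel `Q` fixes one involution. -/
theorem fix_two {T Q V : Subgroup G} (hn : T ≤ normalizer (V : Set G))
    (hc : centralizer (V : Set G) = Q) (h8 : Nat.card V = 8) (hT : Nat.card T = 8 * Nat.card Q) :
    Nat.card ↥(V ⊓ centralizer (T : Set G)) ≤ 2 := by
  by_contra r
  have hQ := Nat.card_pos (α := Q)
  rcases dvd8 (h8 ▸ card_dvd_of_le (inf_le_left (a := V) (b := centralizer (T : Set G)))) with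
    e | e | e | e
  · omega
  · omega
  · have : ¬ V ≤ V ⊓ centralizer (T : Set G) := fun h => by have := card_le_of_le h; omega
    obtain ⟨v, hv, hv'⟩ := SetLike.not_le_iff_exists.1 this
    have hs : (V ⊓ centralizer (T : Set G)) ⊔ zpowers v = V := by
      rcases eq_or_eq_of_card (A := V ⊓ centralizer (T : Set G))
        (B := (V ⊓ centralizer (T : Set G)) ⊔ zpowers v) (C := V) Nat.prime_two le_sup_left
        (sup_le inf_le_left ((zpowers_le).2 hv)) (by omega) with f | f
      · exact absurd (f ▸ mem_sup_right (mem_zpowers v)) hv'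
      · exact f
    have h1 := relIndex_cen_lt hn hv (fun f => hv' (f ▸ one_mem _))
    have h2 := rc (centralizer ({v} : Set G)) T
    have h3 : centralizer ({v} : Set G) ⊓ T ≤ Q := by
      rw [← hc, ← hs, centralizer_sup, cen_zp]
      exact le_inf (inf_le_right.trans (le_centralizer_iff.1 inf_le_right)) inf_le_left
    have h4 := card_le_of_le h3
    rw [h8] at h1
    nlinarith
  · have : V ⊓ centralizer (T : Set G) = V := eq_of_le_of_card_ge inf_le_left (by omega)
    have : T ≤ Q := hc ▸ le_centralizer_iff.1 (this ▸ inf_le_right)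
    have := card_le_of_le this
    omega

/-- An element of order 3 fixing an involution of `V` of order 8 and a four-subgroup over it. -/
theorem irr3 {U V : Subgroup G} {x z : G} (hx : orderOf x = 3) (h1 : x ∈ normalizer (U : Set G))
    (h2 : x ∈ normalizer (V : Set G)) (hU : U ≤ V) (h4 : Nat.card U = 4) (h8 : Nat.card V = 8)
    (hz : z ∈ U) (hz1 : z ≠ 1) (hc : z ∈ centralizer ({x} : Set G)) :
    x ∈ centralizer (V : Set G) := by
  have a1 := card_modEq Nat.prime_three hx h1
  have a2 := card_modEq Nat.prime_three hx h2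
  have b1 := card_dvd_of_le (inf_le_left (a := U) (b := centralizer ({x} : Set G)))
  have b2 := card_dvd_of_le (inf_le_left (a := V) (b := centralizer ({x} : Set G)))
  have b3 := card_le_of_le (inf_le_inf_right (centralizer ({x} : Set G)) hU)
  have b4 : Nat.card ↥(U ⊓ centralizer ({x} : Set G)) ≠ 1 := fun e =>
    hz1 (mem_bot.1 (card_eq_one.1 e ▸ mem_inf.2 ⟨hz, hc⟩))
  rw [h4] at a1 b1
  rw [h8] at a2 b2
  unfold Nat.ModEq at a1 a2
  have c1 := dvd8 (b1.trans (by norm_num : 4 ∣ 8))
  have c2 := dvd8 b2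
  have c3 := Nat.le_of_dvd (by norm_num) b1
  have : V ⊓ centralizer ({x} : Set G) = V := eq_of_le_of_card_ge inf_le_left (by omega)
  have h : V ≤ centralizer (zpowers x : Set G) := cen_zp x ▸ (this ▸ inf_le_right)
  exact le_centralizer_iff.1 h (mem_zpowers x)

theorem jobN3a : H74.O8.JobN3a.{u} := by
  intro gam G _ _ M Q big mx typ par f21 cM c8 z hz hz1
  obtain ⟨σ, hσ, -, -, h7, -, -⟩ := f21
  have sp := big.sp
  have cV := typ.cenV sp mx
  have nV := mx.nor_oz
  set V := oz 2 Q with hV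
  have z2 : z ^ 2 = 1 := (mem_oz.1 hz).2.2
  have hQ := Nat.card_pos (α := Q)
  have hVQ : V ≤ Q := oz_le Q
  have hQz : Q ≤ centralizer ({z} : Set G) := fun q hq =>
    mem_centralizer_singleton_iff.2 ((mem_oz.1 hz).2.1 q hq)
  set H := centralizer ({z} : Set G) with hH
  set P := H ⊓ M with hP
  have hQP : Q ≤ P := le_inf hQz mx.le
  obtain ⟨k, hk⟩ := IsPGroup.iff_card.1 mx.two
  -- the order of `P`
  have cP : Nat.card P = 24 * Nat.card Q := by
    have a1 : H.relIndex M < Nat.card V := relIndex_cen_lt nV.ge hz hz1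
    have a2 := rc H M
    rw [c8] at a1
    rw [cM, ← hP] at a2
    have a3 : ¬ 7 ∣ Nat.card P := fun e => by
      have := t23_of_cen sp hz1 z2 (X := P) inf_le_left 7 (by norm_num) e
      omega
    have a4 : 7 ∣ H.relIndex M := by
      refine ((Nat.Prime.dvd_mul (by norm_num : Nat.Prime 7)).1 ?_).resolve_right a3
      rw [a2]; exact Dvd.intro (24 * Nat.card Q) (by ring)
    have a5 : H.relIndex M ≠ 0 := fun e => by rw [e] at a2; omega
    have a6 : H.relIndex M = 7 := by omega
    rw [a6] at a2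
    omega
  obtain ⟨T, hT, hQT⟩ := exists_isSyl_le mx.two hQP
  have cT : Nat.card T = 8 * Nat.card Q := by
    rw [hT.card_eq, cP, hk, show 24 * 2 ^ k = 3 * 2 ^ (k + 3) by ring,
      Nat.factorization_mul (by norm_num) (by positivity), Nat.prime_three.factorization,
      Nat.prime_two.factorization_pow]
    simp [pow_add, mul_comm]
  have hTM : IsSyl 2 T M := by
    refine isSyl_of_not_dvd_relIndex (hT.le.trans inf_le_right) hT.isPGroup fun e => ?_
    have a := rc T M
    rw [inf_eq_left.2 (hT.le.trans inf_le_right), cT, cM] at a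
    have : T.relIndex M = 21 := Nat.eq_of_mul_eq_mul_right (by omega : 0 < 8 * Nat.card Q)
      (by rw [a]; ring)
    omega
  obtain ⟨P₁, P₂, D₁, D₂, pr⟩ := par T hTM
  have s3 : S3T T P (pCoreOf 2 P) := S3T.of_index hT.isPGroup hT.le (by omega) fun e => by
    have : Nat.card P ≤ Nat.card T := card_le_of_le ((le_inf inf_le_right e).trans pr.self)
    omega
  set D := pCoreOf 2 P with hD
  have hQD : Q ≤ D := s3.core mx.two hQP (inf_le_right.trans mx.nor)
  have hTV : T ≤ normalizer (V : Set G) := hTM.le.trans nV.ge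
  have hzT : zpowers z ≤ V ⊓ centralizer (T : Set G) :=
    le_inf ((zpowers_le).2 hz) (le_centralizer_iff.1 (cen_zp z ▸ hT.le.trans inf_le_left))
  have fixT : V ⊓ centralizer (T : Set G) = zpowers z :=
    (eq_of_le_of_card_ge hzT (by rw [card_zp2 hz1 z2]; exact fix_two hTV cV c8 cT)).symm
  obtain ⟨S, hS, hTS⟩ := exists_isSyl_le hT.isPGroup (le_top : T ≤ ⊤)
  have cS := big.card_syl hS
  have hS0 : S ≠ ⊥ := fun e => by rw [e, card_bot] at cS; omega
  have ozS : oz 2 S = zpowers z := by
    have a : oz 2 S ≤ zpowers z := fixT ▸ le_inf (mx.oz_le (hQT.trans hTS))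
      ((oz_le_centralizer S).trans (centralizer_anti hTS))
    rcases eq_or_eq_of_card (A := ⊥) Nat.prime_two bot_le a (by rw [card_zp2 hz1 z2, card_bot]) with
      e | e
    · exact absurd e (oz_ne_bot hS.isPGroup hS0)
    · exact e
  have hHc : H = centralizer (oz 2 S : Set G) := by rw [ozS, cen_zp]
  have hSH : S ≤ H := hHc ▸ le_centralizer_oz S
  have s4 : S3T S H (pCoreOf 2 H) :=
    (gam G S H sp (hS.of_le hSH le_top) (big.cen1 hz1 z2) hHc.le).resolve_left
      (big.bau S hS z (ozS ▸ mem_zpowers z) hz1)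
  set W := pCoreOf 2 H with hW
  have hWP : W ⊓ P ≤ D := pCoreOf_inf_le_of_le inf_le_left
  have hDW : D ≤ W := by
    have a1 := rc W T
    have a2 := rc W S
    rw [inf_eq_left.2 s4.le1, s4.c1] at a2
    have a3 : W.relIndex S = 2 := Nat.eq_of_mul_eq_mul_right Nat.card_pos a2
    have a4 : W.relIndex T ≤ 2 := a3 ▸ relIndex_le_of_le_right hTS (by omega)
    have a5 : W ⊓ T ≤ D := (inf_le_inf_left W hT.le).trans hWP
    have a6 := s3.c1
    have : W ⊓ T = D := eq_of_le_of_card_ge a5 (by nlinarith)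
    exact this ▸ inf_le_left
  by_contra hne
  have hWD : D < W := lt_of_le_of_ne hDW fun e => by
    have a1 := s4.c1
    have a2 := s4.c2
    have a3 := s3.c1
    have a4 := s3.c2
    rw [← e] at a1
    have : P = H := eq_of_le_of_card_ge inf_le_left (by omega)
    exact hne (this ▸ inf_le_right)
  obtain ⟨d, hd, hdD⟩ := SetLike.exists_of_lt (lt_inf_normalizer s4.twoW hWD)
  obtain ⟨hdW, hdN⟩ := mem_inf.1 hd
  have hdH : d ∈ H := s4.le2 (s4.le1 hdW)
  have hdM : d ∉ M := fun e => hdD (hWP (mem_inf.2 ⟨hdW, mem_inf.2 ⟨hdH, e⟩⟩))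
  have hPV : P ≤ normalizer (V : Set G) := inf_le_right.trans nV.ge
  have cVD : ⁅V, D⁆ ≤ zpowers z := by
    have hDV : D ≤ normalizer (V : Set G) := (s3.le1.trans s3.le2).trans hPV
    have lt : ⁅V, D⁆ < V := commutator_lt_of_isPGroup (isPGroup_oz Q) s3.twoW hDV (oz_ne_bot mx.two mx.ne)
    have hn : P ≤ normalizer ((⁅V, D⁆ : Subgroup G) : Set G) := le_normalizer_commutator hPV s3.nor
    by_cases h0 : ⁅V, D⁆ = ⊥
    · exact h0 ▸ bot_le
    have a1 := inf_centralizer_ne_bot ((isPGroup_oz Q).to_le lt.le) hT.isPGroup (hT.le.trans hn) h0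
    have a2 : ⁅V, D⁆ ⊓ centralizer (T : Set G) ≤ zpowers z := fixT ▸ inf_le_inf_right _ lt.le
    have a3 : zpowers z ≤ ⁅V, D⁆ := by
      rcases eq_or_eq_of_card (A := ⊥) Nat.prime_two bot_le a2
        (by rw [card_zp2 hz1 z2, card_bot]) with e | e
      · exact absurd e a1
      · exact e ▸ inf_le_left
    have a4 := card_le_of_le a3
    rw [card_zp2 hz1 z2] at a4
    rcases dvd8 (c8 ▸ card_dvd_of_le lt.le) with e | e | e | e
    · omega
    · exact (eq_of_le_of_card_ge a3 (by rw [card_zp2 hz1 z2, e])).ge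
    · obtain ⟨x, hx, h3⟩ := s3.ex3
      have := irr3 h3 (hn hx) (hPV hx) lt.le e c8 (a3 (mem_zpowers z)) hz1
        (mem_centralizer_singleton_iff.2 (mem_centralizer_singleton_iff.1 (mem_inf.1 hx).1).symm)
      exact absurd (hQT (cV ▸ this)) (s3.not_mem h3)
    · exact absurd (eq_of_le_of_card_ge lt.le (by omega)) lt.ne
  have cVd : ⁅cj d V, D⁆ ≤ zpowers z := by
    have a := cj_mono d cVD
    rwa [cj_commutator, cj_eq_self hdN,
      cj_eq_self (le_normalizer_of_le_centralizer (cen_zp z).ge hdH)] at a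
  have hVd : cj d V ≤ D := cj_le_of_le (hVQ.trans hQD) hdN
  by_cases hc : cj d V ≤ Q
  · refine hdM (nV ▸ mem_normalizer_of_cj_le fun u hu => mem_oz.2 ⟨hc hu, ?_, ?_⟩)
    · refine typ.rk Q mx.two mx.nor u (hc hu) z (by rw [← pow_two, z2]) fun j hj => ?_
      have a := cVd (commutator_mem_commutator (inv_mem hu) (hQD hj))
      rcases mem_zp2 z2 a with e | e
      · left
        calc j * u * j⁻¹ = u * ⁅u⁻¹, j⁆ := by rw [commutatorElement_def]; group
          _ = u := by rw [e, mul_one]
      · right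
        calc j * u * j⁻¹ = u * ⁅u⁻¹, j⁆ := by rw [commutatorElement_def]; group
          _ = u * z := by rw [e]
    · have a := (mem_oz.1 (mem_cj.1 hu)).2.2
      calc u ^ 2 = d * (d⁻¹ * u * d) ^ 2 * d⁻¹ := by simp only [pow_two]; group
        _ = 1 := by rw [a]; group
  · obtain ⟨u, hu, huQ⟩ := SetLike.not_le_iff_exists.1 hc
    have huM : u ∈ M := (mem_inf.1 (s3.le2 (s3.le1 (hVd hu)))).2
    have hN : M ≤ normalizer ((M ⊓ stab Q V : Subgroup G) : Set G) :=
      le_normalizer_inf le_normalizer (le_normalizer_stab mx.nor nV.ge)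
    have huN : u ∈ M ⊓ stab Q V := mem_inf.2 ⟨huM, mem_stab.2 ⟨nV.ge huM, fun c hc => by
      have a := cVd (commutator_mem_commutator hu (hQD hc))
      rw [← commutatorElement_inv]
      exact inv_mem ((zpowers_le).2 hz a)⟩⟩
    have e := (typ.simp _ inf_le_left hN).resolve_left fun h => huQ (h huN)
    have hσN : σ ∈ M ⊓ stab Q V :=
      res_sup_le_right (p := 2) mx.two (mx.le.trans hN)
        (mem_res_of_coprime (by rw [sup_comm, e]; exact hσ) (by rw [h7]; norm_num))
    have : Fact (Nat.Prime 7) := ⟨by norm_num⟩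
    have a1 := commutator_sup_centralizer_eq (p := 7) (A := zpowers σ) (K := Q)
      (isPGroup_zpowers (k := 1) (by rw [pow_one, ← h7, pow_orderOf_eq_one]))
      (not_dvd_card_of_isPGroup_ne (by norm_num) (by norm_num) mx.two)
      ((zpowers_le).2 (mx.nor hσ))
    rw [cen_zp, fpf sp (.inr h7) mx.two, sup_bot_eq] at a1
    have a2 : Q ≤ V := a1 ▸ (le_stab_iff.1 ((zpowers_le).2 (mem_inf.1 hσN).2)).2
    exact big.har S V hS (hVQ.trans (hQT.trans hTS)) (ea_oz Q) c8
      (inf_le_right.trans (cV.le.trans a2))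

end H23.O8
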