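import Cfsg.Agent.H23.O8N3a

/-! Job N3b of the tower O8. -/

set_option autoImplicit false
set_option linter.unusedSectionVars false

namespace H23.O8

open Cfsg Subgroup H98 H74.OC H74.O8
open scoped commutatorElement

universe u

variable {G : Type u} [Group G] [Finite G]

local instance n3b_two : Fact (Nat.Prime 2) := ⟨Nat.prime_two⟩

theorem ncard_cls (K : Subgroup G) (v : G) :
    {w | ∃ k ∈ K, k * v * k⁻¹ = w}.ncard = (centralizer ({v} : Set G)).relIndex K := by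
  let _ : MulAction K G := MulAction.compHom G ((MulAut.conj (G := G)).comp K.subtype)
  have e : ∀ (k : K) (x : G), k • x = (k : G) * x * (k : G)⁻¹ := fun _ _ => rfl
  have hs : (centralizer ({v} : Set G)).subgroupOf K = MulAction.stabilizer K v := by
    ext k
    rw [mem_subgroupOf, mem_centralizer_singleton_iff, MulAction.mem_stabilizer_iff, e,
      mul_inv_eq_iff_eq_mul]
  rw [relIndex, hs, MulAction.index_stabilizer]
  congr 1
  ext w
  exact ⟨fun ⟨k, hk, h⟩ => ⟨⟨k, hk⟩, h⟩, fun ⟨k, h⟩ => ⟨k, k.2, h⟩⟩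

/-- An element of order 7 is transitive on the involutions of a group of order 8. -/
theorem trans7 (sp : Sp 8 G) {V : Subgroup G} (h2 : IsPGroup 2 V) (h8 : Nat.card V = 8) {σ : G}
    (h7 : orderOf σ = 7) (hn : σ ∈ normalizer (V : Set G)) {v w : G} (hv : v ∈ V) (hv1 : v ≠ 1)
    (hw : w ∈ V) (hw1 : w ≠ 1) : ∃ k ∈ zpowers σ, k * v * k⁻¹ = w := by
  have a1 := ncard_cls (zpowers σ) v
  have a2 := rc (centralizer ({v} : Set G)) (zpowers σ)
  have a3 : centralizer ({v} : Set G) ⊓ zpowers σ = ⊥ := by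
    rcases eq_or_eq_of_card (A := ⊥) (B := centralizer ({v} : Set G) ⊓ zpowers σ) (C := zpowers σ)
      (by norm_num : Nat.Prime 7) bot_le inf_le_right (by rw [Nat.card_zpowers, h7, card_bot]) with
      e | e
    · exact e
    · have c : σ ∈ centralizer ({v} : Set G) := (mem_inf.1 (e.ge (mem_zpowers σ))).1
      exact absurd (mem_bot.1 (fpf sp (.inr h7) h2 ▸ mem_inf.2 ⟨hv,
        mem_centralizer_singleton_iff.2 (mem_centralizer_singleton_iff.1 c).symm⟩)) hv1
  rw [a3, card_bot, mul_one, Nat.card_zpowers, h7] at a2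
  have a4 : {w | ∃ k ∈ zpowers σ, k * v * k⁻¹ = w} = (V : Set G) \ {1} := by
    refine Set.eq_of_subset_of_ncard_le ?_ ?_
    · rintro _ ⟨k, hk, rfl⟩
      exact ⟨conj_mem_of_mem_normalizer ((zpowers_le).2 hn hk) hv, fun h => hv1 (by simpa using h)⟩
    · have : (V : Set G).ncard = 8 := h8
      rw [a1, a2, Set.ncard_sdiff_singleton_of_mem V.one_mem, this]
  exact (a4.ge ⟨hw, hw1⟩ : w ∈ {w | ∃ k ∈ zpowers σ, k * v * k⁻¹ = w})

theorem inv_mul_mem_of_le_two {C Q : Subgroup G} (h : C.relIndex Q ≤ 2) {a b : G} (ha : a ∈ Q)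
    (hb : b ∈ Q) (ha' : a ∉ C) (hb' : b ∉ C) : a⁻¹ * b ∈ C := by
  have h0 : C.relIndex Q ≠ 0 := index_ne_zero_of_finite
  have h1 : C.relIndex Q ≠ 1 := fun e => ha' (relIndex_eq_one.1 e ha)
  have h2 : (C.subgroupOf Q).index = 2 := by rw [relIndex] at *; omega
  have := (mul_mem_iff_of_index_two h2 (a := (⟨a, ha⟩ : Q)⁻¹) (b := ⟨b, hb⟩)).2 (by
    rw [inv_mem_iff, mem_subgroupOf, mem_subgroupOf]; exact iff_of_false ha' hb')
  exact this

theorem comm_mem_cen {U U' : Subgroup G} (h0 : U ⊓ U' = ⊥) {q : G}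
    (hn : q ∈ normalizer (U' : Set G)) (h : ∀ v ∈ U', ⁅v, q⁆ ∈ U) : q ∈ centralizer (U' : Set G) := by
  intro v hv
  have a : ⁅v, q⁆ ∈ U' := by
    rw [commutatorElement_def, mul_assoc, mul_assoc]
    exact mul_mem hv (mul_assoc q v⁻¹ q⁻¹ ▸ conj_mem_of_mem_normalizer hn (inv_mem hv))
  exact commutatorElement_eq_one_iff_mul_comm.1 (mem_bot.1 (h0 ▸ mem_inf.2 ⟨h v hv, a⟩))

theorem jobN3b : H74.O8.JobN3b.{u} := by
  intro bil cl2 pl G _ _ M Q big mx typ f21 c8 hc
  have sp := big.sp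
  have cV := typ.cenV sp mx
  have nV := mx.nor_oz
  have cQ : ⁅Q, Q⁆ ≤ oz 2 Q := cl2 bil G Q sp mx.two (mx.eq ▸ f21)
  obtain ⟨σ, hσ, -, -, h7, -, -⟩ := f21
  set V := oz 2 Q with hV
  have hVQ : V ≤ Q := oz_le Q
  have ti : ∀ g : G, cj g V = V ∨ cj g V ⊓ V = ⊥ := fun g => by
    refine or_iff_not_imp_right.2 fun h => ?_
    obtain ⟨⟨w, hw⟩, hw1⟩ := ne_bot_iff_exists_ne_one.1 h
    have hw1 : w ≠ 1 := fun e => hw1 (Subtype.ext e)
    obtain ⟨a, b⟩ := mem_inf.1 hw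
    have c : g⁻¹ * w * g ≠ 1 := fun e => hw1 (by
      calc w = g * (g⁻¹ * w * g) * g⁻¹ := by group
        _ = 1 := by rw [e]; group)
    obtain ⟨k, hk, e⟩ := trans7 sp (isPGroup_oz Q) c8 h7 (nV.ge hσ) (mem_cj.1 a) c b hw1
    have hk : k ∈ M := (zpowers_le).2 hσ hk
    have : k * g⁻¹ ∈ M := hc w b hw1 (mem_centralizer_singleton_iff.2 (by
      calc k * g⁻¹ * w = k * (g⁻¹ * w * g) * k⁻¹ * (k * g⁻¹) := by group
        _ = w * (k * g⁻¹) := by rw [e]))
    exact cj_eq_self (nV.ge (by simpa using mul_mem (inv_mem this) hk))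
  obtain ⟨g, hg, hne⟩ := big.ti V (ea_oz Q) (oz_ne_bot mx.two mx.ne) ti
  have h0 := (ti g).resolve_left hne
  have eV : cj g V = oz 2 (cj g Q) := cj_oz g Q
  set U := cj g V with hU
  have c8' : Nat.card U = 8 := (card_cj g V).trans c8
  have eaU : IsElementaryAbelian 2 U := eV ▸ ea_oz _
  have sqU : ∀ u ∈ U, u ^ 2 = 1 := fun u hu => (mem_oz.1 (eV ▸ hu)).2.2
  have hc' : ∀ v ∈ U, v ≠ 1 → centralizer ({v} : Set G) ≤ normalizer (U : Set G) := fun v hv h1 => by
    intro q hq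
    rw [hU, ← cj_normalizer, nV, mem_cj]
    refine hc _ (mem_cj.1 hv) (fun e => h1 (by
      calc v = g * (g⁻¹ * v * g) * g⁻¹ := by group
        _ = 1 := by rw [e]; group)) (mem_centralizer_singleton_iff.2 ?_)
    calc g⁻¹ * q * g * (g⁻¹ * v * g) = g⁻¹ * (q * v) * g := by group
      _ = g⁻¹ * v * g * (g⁻¹ * q * g) := by rw [mem_centralizer_singleton_iff.1 hq]; group
  have cU : centralizer (U : Set G) = cj g Q := by rw [hU, ← cj_centralizer, cV]
  have hVU : V ≤ normalizer (U : Set G) := by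
    have a := typ.el U (nV ▸ hg) fun b hb => by rw [← pow_two, sqU b hb]; exact one_mem _
    have : U ⊓ Q ≠ ⊥ := fun e => by rw [e, card_bot] at a; omega
    obtain ⟨⟨w, hw⟩, hw1⟩ := ne_bot_iff_exists_ne_one.1 this
    refine le_trans (fun v hv => mem_centralizer_singleton_iff.2 ?_)
      (hc' w (mem_inf.1 hw).1 fun e => hw1 (Subtype.ext e))
    exact ((mem_oz.1 hv).2.1 w (mem_inf.1 hw).2).symm
  have hVc : V ≤ centralizer (U : Set G) := commutator_eq_bot_iff_le_centralizer.1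
    (eq_bot_iff.2 (h0 ▸ le_inf (commutator_le_right' hVU) (commutator_le_left' hg)))
  have hUQ : U ≤ Q := cV ▸ le_centralizer_iff.1 hVc
  have k1 : ⁅U, Q⁆ ≤ V := (commutator_mono hUQ le_rfl).trans cQ
  have k2 : ⁅V, cj g Q⁆ ≤ U := (commutator_mono (cU ▸ hVc) le_rfl).trans (by
    rw [← cj_commutator]; exact cj_mono g cQ)
  have idx := pl G V U Q (cj g Q) sp (ea_oz Q) eaU c8 c8' (inf_comm U V ▸ h0) hVc cV.ge cU.ge k1 k2
    (fun q hq v hv h1 e => comm_mem_cen (inf_comm U V ▸ h0)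
      (hc' v hv h1 (mem_centralizer_singleton_iff.2 e)) fun w hw =>
        k1 (commutator_mem_commutator hw hq))
    (fun q hq v hv h1 e => comm_mem_cen h0
      (nV.ge (hc v hv h1 (mem_centralizer_singleton_iff.2 e))) fun w hw =>
        k2 (commutator_mem_commutator hw hq))
    (fun e => hne (cj_eq_self (nV.ge (mx.eq.le (mem_normalizer_of_cj_le (cV ▸ e))))))
  have hUc : U ≤ centralizer (Q : Set G) := by
    by_cases h : Q ≤ centralizer (U : Set G)
    · exact le_centralizer_iff.1 h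
    obtain ⟨a, ha, ha'⟩ := SetLike.not_le_iff_exists.1 h
    intro u hu
    have hcV : ⁅u⁻¹, a⁆ ∈ V := k1 (commutator_mem_commutator (inv_mem hu) ha)
    refine typ.rk Q mx.two mx.nor u (hUQ hu) ⁅u⁻¹, a⁆ (by
      rw [← pow_two]; exact (mem_oz.1 hcV).2.2) fun j hj => ?_
    by_cases hj' : j ∈ centralizer (U : Set G)
    · left; rw [← hj' u hu]; group
    · right
      have e := inv_mul_mem_of_le_two idx ha hj ha' hj' u hu
      calc j * u * j⁻¹ = a * (a⁻¹ * j * u) * j⁻¹ := by group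
        _ = u * ⁅u⁻¹, a⁆ := by rw [← e, commutatorElement_def]; group
  have : U ≤ V := le_oz eaU hUQ hUc
  exact hne (eq_of_le_of_card_ge this (by omega))

end H23.O8
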