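/- R3 tower, slot NumB: the finite check of the primitive parts. -/
import Cfsg.Agent.H70.R3Spec

set_option autoImplicit false

namespace H23.R3NumB

open H70.R3 H27

/-- evaluate the argument first -/
def force (n : ℕ) (f : ℕ → Bool) : Bool :=
  match n with
  | 0 => f 0
  | k + 1 => f (k + 1)

theorem force_eq (n : ℕ) (f : ℕ → Bool) : force n f = f n := by cases n <;> rfl

def pr (n : ℕ) : Bool := (List.range' 2 (n - 2)).all fun d => decide (n % d ≠ 0)

theorem pr_iff {n : ℕ} (hn : 2 ≤ n) : pr n = true ↔ n.Prime := by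
  rw [pr, List.all_eq_true, Nat.prime_def_lt']
  constructor
  · intro h
    refine ⟨hn, fun d h2 hd e => ?_⟩
    exact of_decide_eq_true (h d (List.mem_range'_1.2 ⟨h2, by omega⟩)) (Nat.mod_eq_zero_of_dvd e)
  · intro h d hd
    rw [List.mem_range'_1] at hd
    exact decide_eq_true fun e => h.2 d hd.1 (by omega) (Nat.dvd_of_mod_eq_zero e)

def pb (m : ℕ) : ℕ :=
  (if pr (m + 1) = true then (m + 1) ^ 4 else 1) * (if pr (2 * m + 1) = true then (2 * m + 1) ^ 2 else 1) *
    (if pr (3 * m + 1) = true then (3 * m + 1) ^ 2 else 1) *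
    (if pr (4 * m + 1) = true then (4 * m + 1) ^ 2 else 1)

theorem pb_eq {m : ℕ} (hm : 3 ≤ m) : pb m = pbound m := by
  simp only [pb, pbound, pr_iff (show 2 ≤ m + 1 by omega), pr_iff (show 2 ≤ 2 * m + 1 by omega),
    pr_iff (show 2 ≤ 3 * m + 1 by omega), pr_iff (show 2 ≤ 4 * m + 1 by omega)]

def PL : List ℕ := [1, 2, 3, 5, 7, 11, 13, 17, 19, 23, 29, 31, 37, 41, 43, 47, 53, 59, 61, 67, 71, 73, 79, 83, 89, 97, 101, 103, 107, 109, 113, 127, 131, 137, 139, 149, 151, 157, 163, 167, 173, 179, 181, 191, 193, 197, 199]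

def cnt (n : ℕ) : List ℕ → ℕ
  | [] => 0
  | k :: l => bif Nat.beq (Nat.gcd n k) 1 then Nat.succ (cnt n l) else cnt n l

theorem cnt_eq (n : ℕ) (l : List ℕ) : cnt n l = (l.filter fun k => decide (Nat.Coprime n k)).length := by
  induction l with
  | nil => rfl
  | cons k l ih =>
    by_cases h : Nat.gcd n k = 1
    · have h' : Nat.Coprime n k := h
      rw [cnt, h, List.filter_cons_of_pos (by simpa using h'), List.length_cons, ih]
      rfl
    · have h' : ¬ Nat.Coprime n k := h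
      have h2 : Nat.beq (Nat.gcd n k) 1 = false := by
        cases e : Nat.beq (Nat.gcd n k) 1
        · rfl
        · exact absurd (Nat.eq_of_beq_eq_true e) h
      rw [cnt, h2, List.filter_cons_of_neg (by simpa using h'), ih]
      rfl

theorem cnt_le {n : ℕ} (hn : 200 ≤ n) : cnt n PL ≤ n.totient := by
  have hd : PL.Nodup := by decide +kernel
  have hl : ∀ k ∈ PL, k < 200 := by decide +kernel
  rw [cnt_eq, Nat.totient_eq_card_coprime, ← List.toFinset_card_of_nodup (hd.filter _)]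
  refine Finset.card_le_card fun k hk => ?_
  simp only [List.mem_toFinset, List.mem_filter, decide_eq_true_eq] at hk
  exact Finset.mem_filter.2 ⟨Finset.mem_range.2 ((hl k hk.1).trans_le hn), hk.2⟩

theorem chkA : ((List.range 32).all fun a => (List.range 100).all fun b =>
    force (200 + (100 * a + b)) fun m => Nat.ble 38 (cnt m PL)) = true := by decide +kernel

theorem tot_ge {m : ℕ} (h1 : 200 ≤ m) (h2 : m ≤ 3362) : 38 ≤ m.totient := by
  have h := List.all_eq_true.1 (List.all_eq_true.1 chkA ((m - 200) / 100) (List.mem_range.2 (by omega)))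
    ((m - 200) % 100) (List.mem_range.2 (Nat.mod_lt _ (by norm_num)))
  rw [force_eq, Nat.div_add_mod, Nat.add_sub_cancel' h1] at h
  exact (Nat.le_of_ble_eq_true h).trans (cnt_le h1)

def pbM (m : ℕ) : ℕ := (m + 1) ^ 4 * (2 * m + 1) ^ 2 * (3 * m + 1) ^ 2 * (4 * m + 1) ^ 2

theorem pbound_le (m : ℕ) : pbound m ≤ pbM m := by
  have h : ∀ (c : Prop) [Decidable c] (a e : ℕ), (if c then (a + 1) ^ e else 1) ≤ (a + 1) ^ e := by
    intro c _ a e
    split_ifs
    · exact le_rfl
    · exact Nat.one_le_pow _ _ (by omega)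
  exact Nat.mul_le_mul (Nat.mul_le_mul (Nat.mul_le_mul (h _ _ _) (h _ _ _)) (h _ _ _)) (h _ _ _)

def cop (p t : ℕ) : ℕ → Bool
  | 0 => true
  | i + 1 => Nat.beq (Nat.gcd t (Nat.pred (Nat.pow p (Nat.succ i)))) 1 && cop p t i

theorem cop_spec {p t : ℕ} : ∀ {n : ℕ}, cop p t n = true → ∀ i, 1 ≤ i → i ≤ n → Nat.Coprime t (p ^ i - 1)
  | 0, _, i, h1, h2 => by omega
  | n + 1, h, i, h1, h2 => by
    rw [cop, Bool.and_eq_true] at h
    rcases Nat.lt_or_ge n i with h3 | h3
    · obtain rfl : i = n + 1 := by omega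
      exact Nat.eq_of_beq_eq_true h.1
    · exact cop_spec h.2 i h1 h3

def good (p m P t : ℕ) : Bool :=
  Nat.beq (Nat.mod (Nat.pred (Nat.pow p m)) t) 0 && (cop p t (Nat.pred m) && Nat.ble 1 (Nat.mod P t))

theorem good_spec {p m P t : ℕ} (h : good p m P t = true) : IsPrimDiv p m t ∧ ¬ t ∣ P := by
  rw [good, Bool.and_eq_true, Bool.and_eq_true] at h
  refine ⟨⟨Nat.dvd_of_mod_eq_zero (Nat.eq_of_beq_eq_true h.1), fun i h1 h2 => cop_spec h.2.1 i h1 ?_⟩, fun e => ?_⟩
  · show i ≤ m - 1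
    omega
  · have h3 : 1 ≤ P % t := Nat.le_of_ble_eq_true h.2.2
    rw [Nat.mod_eq_zero_of_dvd e] at h3
    omega

/-- the candidate for the primitive divisor -/
def tt (p m : ℕ) : ℕ :=
  bif Nat.beq m 6 then Nat.div (Nat.succ (Nat.mul p (Nat.pred p))) (Nat.gcd 3 (Nat.succ p))
  else bif Nat.beq m 4 then Nat.div (Nat.succ (Nat.mul p p)) 2 else zsPrimPart p m

def chkP (m P B f p : ℕ) : Bool :=
  Nat.ble 2 (Nat.gcd 6 p) || (Nat.ble p 12 || (Nat.ble (Nat.succ B) (Nat.pow p f) || (force (tt p m) (good p m P) ||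
    decide ((m = 4 ∧ (p = 13 ∨ p = 47)) ∨ (m = 6 ∧ (p = 17 ∨ p = 19 ∨ p = 23 ∨ p = 31))))))

theorem chkP_spec {m p : ℕ} (h : chkP m (pbound m) (4 * (pbound m * m)) m.totient p = true) (hp : p.Prime)
    (h13 : 13 ≤ p) (hdiv : ∀ t, H27.IsPrimDiv p m t → t ∣ pbound m) (hle : p ^ m.totient ≤ 4 * (pbound m * m)) :
    (m = 4 ∧ (p = 13 ∨ p = 47)) ∨ (m = 6 ∧ (p = 17 ∨ p = 19 ∨ p = 23 ∨ p = 31)) := by
  rw [chkP, force_eq] at h
  simp only [Bool.or_eq_true, decide_eq_true_eq, Nat.ble_eq] at h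
  rcases h with h | h | h | h | h
  · exfalso
    rcases (Nat.dvd_prime hp).1 (Nat.gcd_dvd_right 6 p) with e | e
    · omega
    · have := Nat.le_of_dvd (by norm_num) (Nat.gcd_dvd_left 6 p)
      omega
  · omega
  · exact absurd hle (Nat.not_le.2 h)
  · exact absurd (hdiv _ (good_spec h).1) (good_spec h).2
  · exact h

def blk (m : ℕ) : ℕ := if m = 4 then 23 else if m = 6 then 60 else 1

def chkM (m : ℕ) : Bool :=
  force (zsTot m) fun f => decide (4 * (pbM m * m) < 13 ^ f) ||
    force (pb m) fun P => force (4 * (P * m)) fun B =>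
      decide (B < 13 ^ f) || (decide (B < (1000 * blk m) ^ f) &&
        (List.range (blk m)).all fun a => (List.range 1000).all fun b => force (1000 * a + b) (chkP m P B f))

theorem chk4 : chkM 4 = true := by decide +kernel

theorem chk6 : chkM 6 = true := by decide +kernel

theorem chkB : ((List.range 200).all fun m => decide (m < 3 ∨ m = 4 ∨ m = 6) || chkM m) = true := by decide +kernel

theorem jobNumB : JobNumB := by
  intro p m hp h13 h3 hm hdiv hle
  have h13' : 13 ^ m.totient ≤ p ^ m.totient := Nat.pow_le_pow_left h13 _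
  have a2 : 4 * (pbound m * m) ≤ 4 * (pbM m * m) :=
    Nat.mul_le_mul_left _ (Nat.mul_le_mul_right _ (pbound_le m))
  rcases Nat.lt_or_ge m 200 with hm2 | hm2
  swap
  · exfalso
    have a1 : 13 ^ 38 ≤ 13 ^ m.totient := Nat.pow_le_pow_right (by norm_num) (tot_ge hm2 hm)
    have a3 : 4 * (pbM m * m) ≤ 4 * (pbM 3362 * 3362) := by
      unfold pbM
      gcongr
    have a4 : 4 * (pbM 3362 * 3362) < 13 ^ 38 := by decide +kernel
    omega
  have h2 : chkM m = true := by
    have h1 := List.all_eq_true.1 chkB m (List.mem_range.2 hm2)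
    rw [Bool.or_eq_true, decide_eq_true_eq] at h1
    rcases h1 with (h1 | rfl | rfl) | h1
    · omega
    · exact chk4
    · exact chk6
    · exact h1
  rw [chkM, force_eq, force_eq, force_eq, pb_eq h3, zsTot_eq, Bool.or_eq_true, Bool.or_eq_true, Bool.and_eq_true,
    decide_eq_true_eq, decide_eq_true_eq, decide_eq_true_eq] at h2
  rcases h2 with h2 | h2 | ⟨h2, h4⟩
  · omega
  · omega
  have hlt : p < 1000 * blk m := lt_of_pow_lt_pow_left₀ m.totient (Nat.zero_le _) (hle.trans_lt h2)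
  have h5 := List.all_eq_true.1 (List.all_eq_true.1 h4 (p / 1000) (List.mem_range.2 (by omega))) (p % 1000)
    (List.mem_range.2 (Nat.mod_lt _ (by norm_num)))
  rw [force_eq, Nat.div_add_mod] at h5
  exact chkP_spec h5 hp h13 hdiv hle

end H23.R3NumB
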