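/- Team `s4free`, section 5 of the blueprint, first part: transport of the mechanism, the odd order
case, and the action on a Sylow subgroup of order at most four. -/
import Cfsg.Agent.H13.S4Spec
import Cfsg.Agent.H46.Coprime
import Cfsg.Agent.H48.AutRank2
import Cfsg.Agent.H48.Meta
import Cfsg.Agent.H94.Involves

set_option autoImplicit false

namespace H23
open Cfsg hiding pRank
open H13 H46 Subgroup

universe u

section Mech
variable {X : Type*} [Group X] {R R' N T : Subgroup X} {a x : X}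

theorem ea_sq (hR : IsElementaryAbelian 2 R) (ha : a ∈ R) : a * a = 1 := by
  simpa [pow_two] using hR.2 a ha

theorem ea_inv (hR : IsElementaryAbelian 2 R) (ha : a ∈ R) : a⁻¹ = a :=
  inv_eq_of_mul_eq_one_right (ea_sq hR ha)

theorem ea_comm (hR : IsElementaryAbelian 2 R) {b : X} (ha : a ∈ R) (hb : b ∈ R) : a * b = b * a :=
  mem_cent.1 (comm_iff_le_cent.1 hR.1 hb) a ha

theorem mech_map {Y : Type*} [Group Y] (f : X →* Y) (hf : Function.Injective f) (h : MechFor R) :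
    MechFor (R.map f) := by
  obtain ⟨R', hle, a, ha, x, p, hp, h2, ho, hc, hi, hd⟩ := h
  refine ⟨R'.map f, map_mono hle, f a, mem_map_of_mem f ha, f x, p, hp, h2,
    by rw [orderOf_injective f hf, ho], ?_, by rw [← map_inv, ← map_mul, ← map_mul, hi, map_inv], ?_⟩
  · rintro _ ⟨r, hr, rfl⟩
    rw [← map_mul, hc r hr, map_mul]
  · rwa [relIndex_map_map_of_injective _ _ hf]

theorem mech_of_subgroupOf {Y : Subgroup X} (hle : R ≤ Y) (h : MechFor (R.subgroupOf Y)) :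
    MechFor R := by
  have := mech_map Y.subtype Y.subtype_injective h
  rwa [map_subgroupOf_eq_of_le hle] at this

/-- lifting of the mechanism along a surjection with central kernel. -/
theorem mech_lift {Y : Type*} [Group Y] (f : X →* Y) (hf : Function.Surjective f)
    (hk : f.ker ≤ center X) (hR : IsElementaryAbelian 2 R) (h : MechFor (R.map f)) : MechFor R := by
  obtain ⟨R', hle, _, ⟨a, ha, rfl⟩, x, p, hp, h2, ho, hc, hi, hd⟩ := h
  obtain ⟨y, rfl⟩ := hf x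
  have haa := ea_sq hR ha
  have hw : a * (y * (a * y * a⁻¹)⁻¹) * a⁻¹ = (y * (a * y * a⁻¹)⁻¹)⁻¹ := by
    have : a⁻¹ = a := ea_inv hR ha
    calc a * (y * (a * y * a⁻¹)⁻¹) * a⁻¹ = a * y * a * y⁻¹ * (a * a)⁻¹ := by group
      _ = _ := by rw [haa]; nth_rw 2 [← this]; group
  have hfw : f (y * (a * y * a⁻¹)⁻¹) = f y ^ 2 := by
    rw [map_mul, map_inv, map_mul, map_mul, map_inv, hi, inv_inv, pow_two]
  have hcw : ∀ r ∈ R ⊓ R'.comap f, r * (y * (a * y * a⁻¹)⁻¹) = (y * (a * y * a⁻¹)⁻¹) * r := by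
    intro r hr
    have hz : y⁻¹ * (r * y * r⁻¹) ∈ center X := hk (by
      rw [MonoidHom.mem_ker, map_mul, map_mul, map_mul, hc _ hr.2, map_inv, map_inv]; group)
    have e1 : r * y * r⁻¹ = y * (y⁻¹ * (r * y * r⁻¹)) := by group
    generalize y⁻¹ * (r * y * r⁻¹) = z at hz e1
    have hra := ea_comm hR hr.1 ha
    have hz' := mem_center_iff.1 hz
    calc r * (y * (a * y * a⁻¹)⁻¹) = (r * y * r⁻¹) * ((r * a) * y * (r * a)⁻¹)⁻¹ * r := by group
      _ = (r * y * r⁻¹) * (a * (r * y * r⁻¹) * a⁻¹)⁻¹ * r := by rw [hra]; group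
      _ = y * z * (a * y * (z * a⁻¹))⁻¹ * r := by rw [e1]; group
      _ = y * z * (a * y * (a⁻¹ * z))⁻¹ * r := by rw [hz' a⁻¹]
      _ = _ := by group
  generalize y * (a * y * a⁻¹)⁻¹ = w at hw hfw hcw
  have hpw : w ^ p ∈ center X := hk (by
    rw [MonoidHom.mem_ker, map_pow, hfw, ← pow_mul, mul_comm, pow_mul, ← ho, pow_orderOf_eq_one, one_pow])
  have hw2 : (w ^ 2) ^ p = 1 := by
    have e : a * w ^ p * a⁻¹ = (w ^ p)⁻¹ := by rw [← conj_pow, hw, inv_pow]
    rw [mem_center_iff.1 hpw a, mul_inv_cancel_right] at e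
    rw [← pow_mul, mul_comm, pow_mul, pow_two]
    exact mul_eq_one_iff_eq_inv.2 e
  have := Fact.mk hp
  refine ⟨R ⊓ R'.comap f, inf_le_left, a, ha, w ^ 2, p, hp, h2, orderOf_eq_prime hw2 fun h => ?_,
    fun r hr => (Commute.pow_right (hcw r hr) 2), by rw [← conj_pow, hw, inv_pow], ?_⟩
  · have h4 : f y ^ (2 * 2) = 1 := by rw [pow_mul, ← hfw, ← map_pow, h, map_one]
    have := orderOf_dvd_of_pow_eq_one h4
    rw [ho] at this
    exact h2 ((Nat.prime_dvd_prime_iff_eq hp Nat.prime_two).1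
      (((Nat.Prime.dvd_mul hp).1 this).elim id id))
  · rwa [inf_relIndex_left, relIndex_comap]

end Mech

section
variable {X : Type u} [Group X] [Finite X] {R R' N T L : Subgroup X} {a x : X}

theorem mech_of_two (hS3 : JobS3.{u}) (h3 : ¬ Involves (Equiv.Perm (Fin 3)) X) (hle : R' ≤ R)
    (hi : R'.relIndex R ≤ 2) (ha : a ∈ R) (hp : (orderOf x).Prime) (h2 : orderOf x ≠ 2)
    (hc : ∀ r ∈ R', r * x = x * r) (hinv : a * x * a⁻¹ = x⁻¹) : MechFor R := by
  refine ⟨R', hle, a, ha, x, _, hp, h2, rfl, hc, hinv, fun d hd hdvd => ?_⟩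
  have hn3 : orderOf x ≠ 3 := fun h => h3 (hS3 X a x h hinv)
  have hd3 : 3 ≤ d := by
    by_contra h
    obtain rfl | rfl : d = 1 ∨ d = 2 := by omega
    · exact hp.one_lt.ne' (Nat.dvd_one.1 hdvd)
    · exact hn3 ((Nat.prime_dvd_prime_iff_eq hp Nat.prime_three).1 hdvd)
  calc R'.relIndex R ^ 4 ≤ 2 ^ 4 := Nat.pow_le_pow_left hi 4
    _ ≤ 2 ^ (d + 1) := Nat.pow_le_pow_right two_pos (by omega)

theorem ea_isPi (hR : IsElementaryAbelian 2 R) : IsPi {2} R := isPi_of_elem Nat.prime_two hR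

/-- (M1) the mechanism for a non-trivial action on a group of odd order. -/
theorem mech_of_odd (hS3 : JobS3.{u}) (h3 : ¬ Involves (Equiv.Perm (Fin 3)) X)
    (hR : IsElementaryAbelian 2 R) (hN : IsPi {2}ᶜ N) (hn : R ≤ Nrm N) (hc : ¬ R ≤ Cent N) :
    MechFor R := by
  obtain ⟨Y, hY, hcyc, hne⟩ : ∃ Y : Subgroup X, Y ≤ R ∧ IsCyclic (R ⧸ₙ Y) ∧ ¬ N ⊓ Cent Y ≤ Cent R := by
    by_contra h
    push Not at h
    exact hc (le_cent_symm (coprime_abelian_gen_cent hR.1 hn ((ea_isPi hR).coprime hN) h))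
  have hRY : R ≤ Nrm Y := nrm_of_comm hR.1 hY
  have hi : Y.relIndex R ≤ 2 := by
    rw [← card_quo hRY]
    refine H48.card_le_of_cyclic_of_exponent' hcyc two_pos fun z hz => ?_
    obtain ⟨r, hr, hr', rfl⟩ := mem_quo.1 hz
    rw [← mel_pow _ hr', hR.2 r hr, mel_one]
  obtain ⟨y, hy, hy'⟩ := SetLike.not_le_iff_exists.1 hne
  obtain ⟨a, ha, hay⟩ : ∃ a ∈ R, a * y ≠ y * a := by
    by_contra h
    push Not at h
    exact hy' (mem_cent.2 h)
  have hw1 : y⁻¹ * (a * y * a⁻¹) ≠ 1 := fun h => hay (by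
    have : a * y * a⁻¹ = y := (inv_mul_eq_one.1 h).symm
    exact mul_inv_eq_iff_eq_mul.1 this)
  have hw : y⁻¹ * (a * y * a⁻¹) ∈ N ⊓ Cent Y :=
    mul_mem (inv_mem hy) (conj_mem_of_mem_nrm (nrm_inf hn (nrm_cent hRY) ha) hy)
  have hinv : a * (y⁻¹ * (a * y * a⁻¹)) * a⁻¹ = (y⁻¹ * (a * y * a⁻¹))⁻¹ := by
    calc a * (y⁻¹ * (a * y * a⁻¹)) * a⁻¹ = a * y⁻¹ * a * y * (a * a)⁻¹ := by group
      _ = _ := by rw [ea_sq hR ha]; nth_rw 2 [← ea_inv hR ha]; group
  generalize y⁻¹ * (a * y * a⁻¹) = w at hw1 hw hinv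
  obtain ⟨x, ⟨k, rfl⟩, hp⟩ := exists_prime_order_mem_zpowers hw1
  have hx : w ^ k ∈ N ⊓ Cent Y := zpow_mem hw k
  refine mech_of_two hS3 h3 hY hi ha hp (fun h => ?_) (fun r hr => mem_cent.1 hx.2 r hr) ?_
  · exact hN.not_dvd Nat.prime_two rfl (h ▸ orderOf_dvd_card hx.1)
  · simp only
    rw [← conj_zpow, hinv, inv_zpow]

omit [Finite X] in
/-- the action of `N(T)` on the three non-identity elements of a group `T` of order `4`. -/
theorem exists_hom_perm_three (hT : Nat.card T = 4) :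
    ∃ ψ : Nrm T →* Equiv.Perm (Fin 3), ∀ g : Nrm T, ψ g = 1 ↔ (g : X) ∈ Cent T := by
  classical
  have : Finite T := Nat.finite_of_card_ne_zero (by omega)
  let ι : MulAut T →* Equiv.Perm {t : T // t ≠ 1} :=
    { toFun := fun α => Equiv.Perm.subtypePerm α.toEquiv fun t => by simp
      map_one' := by ext; rfl
      map_mul' := fun _ _ => by ext; rfl }
  have hι : ∀ α, ι α = 1 ↔ α = 1 := by
    refine fun α => ⟨fun h => MulEquiv.ext fun t => ?_, fun h => by rw [h, map_one]⟩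
    by_cases ht : t = 1
    · rw [ht, map_one, map_one]
    · exact congrArg Subtype.val (Equiv.ext_iff.1 h ⟨t, ht⟩)
  have hc : Nat.card {t : T // t ≠ 1} = 3 := by
    have := Fintype.ofFinite T
    rw [Nat.card_eq_fintype_card, Fintype.card_subtype_compl, Fintype.card_subtype_eq,
      ← Nat.card_eq_fintype_card, hT]
  let e : {t : T // t ≠ 1} ≃ Fin 3 := Finite.equivFinOfCardEq hc
  refine ⟨(e.permCongrHom.toMonoidHom.comp ι).comp (H48.conjHom T (Nrm T) le_rfl), fun g => ?_⟩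
  rw [← H48.conjHom_eq_one_iff le_rfl, ← hι]
  simp only [MulEquiv.toMonoidHom_eq_coe, MonoidHom.comp_apply, MonoidHom.coe_coe]
  exact map_eq_one_iff _ e.permCongrHom.injective

omit [Finite X] in
theorem cent_of_card_le_two (hT : Nat.card T ∣ 2) : Nrm T ≤ Cent T := by
  intro g hg
  refine mem_cent.2 fun t ht => ?_
  by_cases h1 : t = 1
  · simp [h1]
  have hp : (Nat.card T).Prime := by
    rcases (Nat.dvd_prime Nat.prime_two).1 hT with h | h
    · exact (ne_bot_of_mem ht h1 (card_eq_one.1 h)).elim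
    · exact h ▸ Nat.prime_two
  have h2 : Nat.card T = 2 := (Nat.prime_dvd_prime_iff_eq hp Nat.prime_two).1 hT
  obtain ⟨u, -, hu⟩ := (Nat.card_eq_two_iff' (1 : T)).1 h2
  have e1 := hu ⟨t, ht⟩ fun h => h1 (congrArg Subtype.val h)
  have e2 := hu ⟨g * t * g⁻¹, conj_mem_of_mem_nrm hg ht⟩ fun h =>
    h1 (by simpa using congrArg Subtype.val h)
  have : g * t * g⁻¹ = t := congrArg Subtype.val (e2.trans e1.symm)
  exact (mul_inv_eq_iff_eq_mul.1 this).symm

/-- a Sylow `2`-subgroup `T` of order at most `4` that is not central in its normalizer in `L` is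
centralized by every `2`-group normalizing it, in an `S₃`-free group. -/
theorem cent_of_s3_free (h3 : ¬ Involves (Equiv.Perm (Fin 3)) X) (hT : IsSylowOf 2 T L)
    (h8 : ¬ 8 ∣ Nat.card L) (hN : ¬ L ⊓ Nrm T ≤ Cent T) (hR : IsElementaryAbelian 2 R)
    (hn : R ≤ Nrm T) : IsMulCommutative T ∧ R ≤ Cent T := by
  obtain ⟨k, hk⟩ := hT.isPi.exists_pow Nat.prime_two
  have hk3 : k < 3 := by
    by_contra h
    exact h8 ((hk ▸ pow_dvd_pow 2 (not_lt.1 h) : 2 ^ 3 ∣ Nat.card T).trans (card_dvd_of_le hT.le))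
  have h4 : Nat.card T = 4 := by
    obtain rfl | h : k = 2 ∨ k ≤ 1 := by omega
    · exact hk
    · exact (hN (inf_le_right.trans (cent_of_card_le_two (hk ▸ pow_dvd_pow 2 h : _ ∣ 2 ^ 1)))).elim
  have hTc : IsMulCommutative T := by
    have := Fact.mk Nat.prime_two
    exact IsPGroup.isMulCommutative_of_card_eq_prime_sq (p := 2) h4
  refine ⟨hTc, fun r hr => ?_⟩
  by_contra hrc
  obtain ⟨ψ, hψ⟩ := exists_hom_perm_three h4
  have h6 : Nat.card (Equiv.Perm (Fin 3)) = 6 := by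
    rw [Nat.card_eq_fintype_card, Fintype.card_perm]; rfl
  have h2 : 2 ∣ Nat.card ψ.range := by
    have := Fact.mk Nat.prime_two
    have e : orderOf (ψ ⟨r, hn hr⟩) = 2 := orderOf_eq_prime
      (by rw [← map_pow]; exact (hψ _).2 (by simp [hR.2 r hr])) fun h => hrc ((hψ _).1 h)
    exact e ▸ orderOf_dvd_card ⟨_, rfl⟩
  have hk : mker ψ = Cent T := by
    ext z
    rw [mem_mker]
    exact ⟨fun ⟨h1, h⟩ => (hψ _).1 (mel_of_mem ψ h1 ▸ h), fun h =>
      ⟨cent_le_nrm T h, by rw [mel_of_mem ψ (cent_le_nrm T h)]; exact (hψ _).2 h⟩⟩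
  have h3' : 3 ∣ Nat.card ψ.range := by
    have hd : Nat.card (mim ψ (L ⊓ Nrm T)) ∣ T.relIndex L := by
      rw [card_mim ψ inf_le_right, hk]
      exact (relIndex_dvd_of_le_left _ (comm_iff_le_cent.1 hTc)).trans
        (relIndex_dvd_of_le (le_inf hT.le le_nrm_self) inf_le_left)
    have h1 : Nat.card (mim ψ (L ⊓ Nrm T)) ≠ 1 := fun h =>
      hN (hk ▸ (mim_eq_bot_iff inf_le_right).1 (card_eq_one.1 h))
    have h6' : Nat.card (mim ψ (L ⊓ Nrm T)) ∣ 6 := h6 ▸ card_dvd_card_top _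
    have ho : ¬ 2 ∣ Nat.card (mim ψ (L ⊓ Nrm T)) := fun h => hT.not_dvd Nat.prime_two (h.trans hd)
    have : Nat.card (mim ψ (L ⊓ Nrm T)) = 3 := by
      generalize Nat.card (mim ψ (L ⊓ Nrm T)) = m at h1 h6' ho
      have := Nat.le_of_dvd (by norm_num) h6'
      interval_cases m <;> simp_all
    rw [← mim_dom]
    exact this.symm.dvd.trans (card_dvd_of_le (mim_le_dom ψ _))
  have htop : ψ.range = ⊤ := by
    refine eq_top_of_card_eq _ (Nat.dvd_antisymm (card_dvd_card_top _) ?_)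
    rw [h6]
    exact Nat.Coprime.mul_dvd_of_dvd_of_dvd (by norm_num : Nat.Coprime 2 3) h2 h3'
  exact h3 (H94.involves_iff.2 ⟨_, ψ, MonoidHom.range_eq_top.1 htop⟩)

end

end H23
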