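/- Team `s4free`, section 5 of the blueprint, second part: simple components, `JobMech`, `JobCls`. -/
import Cfsg.Agent.H23.S4MechA
import Cfsg.Agent.H14.FStar

set_option autoImplicit false

namespace H23
open Cfsg hiding pRank
open H13 H46 Subgroup

universe u

section
variable {X : Type*} [Group X] {R K N : Subgroup X}

theorem ea_map {Y : Type*} [Group Y] (hR : IsElementaryAbelian 2 R) (f : X →* Y) :
    IsElementaryAbelian 2 (R.map f) := by
  refine ⟨comm_iff_le_cent.2 ?_, ?_⟩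
  · rintro _ ⟨a, ha, rfl⟩
    refine mem_cent.2 ?_
    rintro _ ⟨b, hb, rfl⟩
    rw [← map_mul, ← map_mul, ea_comm hR hb ha]
  · rintro _ ⟨a, ha, rfl⟩
    rw [← map_pow, hR.2 a ha, map_one]

theorem ea_comap {Y : Type*} [Group Y] (hR : IsElementaryAbelian 2 R) (f : Y →* X)
    (hf : Function.Injective f) : IsElementaryAbelian 2 (R.comap f) :=
  ⟨comm_iff_le_cent.2 fun a ha => mem_cent.2 fun b hb => hf (by
    rw [map_mul, map_mul]; exact ea_comm hR hb ha),
    fun a ha => hf (by rw [map_pow, map_one]; exact hR.2 _ ha)⟩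

theorem simple_eq_bot_or (hK : IsSimpleGroup K) (hN : N ⊴ K) : N = ⊥ ∨ N = K := by
  rcases hK.eq_bot_or_eq_top_of_normal _ hN.normal_subgroupOf with h | h
  · exact Or.inl (by rw [← map_subgroupOf_eq_of_le hN.le, h, Subgroup.map_bot])
  · exact Or.inr (le_antisymm hN.le (subgroupOf_eq_top.1 h))

theorem center_eq_bot_of_simple {L : Type*} [Group L] (hL : IsSimpleGroup L)
    (hc : ¬ IsMulCommutative L) : center L = ⊥ :=
  (hL.eq_bot_or_eq_top_of_normal _ inferInstance).resolve_right fun h =>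
    hc ⟨⟨fun a b => (mem_center_iff.1 (h ▸ mem_top b) a)⟩⟩

theorem not_two_group_of_simple {L : Type*} [Group L] [Finite L] (hL : IsSimpleGroup L)
    (hc : ¬ IsMulCommutative L) : ¬ IsPGroup 2 L := fun h => by
  have := Fact.mk Nat.prime_two
  have := h.center_nontrivial
  rw [center_eq_bot_of_simple hL hc] at this
  exact not_nontrivial _ this

theorem involves_of_ker_le {H A B : Type*} [Group H] [Group A] [Group B] (f : H →* A) (g : H →* B)
    (hg : Function.Surjective g) (h : f.ker ≤ g.ker) : Involves B A :=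
  H94.involves_of_span (QuotientGroup.kerLift f) (QuotientGroup.kerLift_injective f)
    (QuotientGroup.lift f.ker g h) fun b => by
      obtain ⟨x, rfl⟩ := hg b
      exact ⟨x, rfl⟩

theorem s3f_subgroup [Finite X] (h : S3F X) (H : Subgroup X) : S3F H := fun h' =>
  h (H94.involves_trans h' (involves_of_ker_le ((QuotientGroup.mk' (pCore 2 X)).comp H.subtype)
    (QuotientGroup.mk' (pCore 2 H)) (QuotientGroup.mk'_surjective _) (by
      rw [← MonoidHom.comap_ker, QuotientGroup.ker_mk', QuotientGroup.ker_mk']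
      exact H2.pCore_subgroupOf_le H)))

end

section
variable {X : Type u} [Group X] [Finite X] {R K : Subgroup X}

omit [Finite X] in
/-- the mechanism for a non-trivial action on a Suzuki group. -/
theorem mech_of_suzuki {n : ℕ} (hK : SzFacts K n) (hc : ¬ IsMulCommutative K)
    (hR : IsElementaryAbelian 2 R) (hn : R ≤ Nrm K) (hnc : ¬ R ≤ Cent K) : MechFor R := by
  have hinj : Function.Injective (MulAut.conj : K →* MulAut K) := by
    refine (injective_iff_map_eq_one _).2 fun l hl => ?_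
    refine mem_bot.1 (center_eq_bot_of_simple hK.simple hc ▸ mem_center_iff.2 fun g => ?_)
    have : l * g * l⁻¹ = g := MulEquiv.ext_iff.1 hl g
    exact (mul_inv_eq_iff_eq_mul.1 this).symm
  have hφ : ∀ r : R, H48.conjHom K R hn r ^ 2 = 1 := fun r => by
    rw [← map_pow, show r ^ 2 = 1 from Subtype.ext (hR.2 r r.2), map_one]
  obtain ⟨a, ha, hac⟩ := SetLike.not_le_iff_exists.1 hnc
  obtain ⟨l, hl⟩ := hK.inner _ (hφ ⟨a, ha⟩)
  have := Fact.mk Nat.prime_two
  have hl2 : orderOf l = 2 := orderOf_eq_prime (hinj (by rw [map_pow, ← hl, hφ, map_one]))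
    fun h => hac ((H48.conjHom_eq_one_iff hn).1 (by rw [hl, h, map_one]))
  obtain ⟨x, p, hp, h2, hx, hinv, hd⟩ := hK.inverts l hl2
  refine ⟨Cent K ⊓ R, inf_le_right, a, ha, x, p, hp, h2, by rw [orderOf_coe, hx],
    fun r hr => (mem_cent.1 hr.1 x x.2).symm, ?_, fun d hd0 hdvd => ?_⟩
  · have e := H48.coe_conjHom hn ⟨a, ha⟩ x
    rw [hl, MulAut.conj_apply, hinv] at e
    exact e.symm
  · have hE : IsElementaryAbelian 2 (H48.conjHom K R hn).range := by
      rw [MonoidHom.range_eq_map, ← subgroupOf_self]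
      exact ea_map (ea_comap hR _ R.subtype_injective) _
    have h1 := hK.card_le _ (ea_comap hE _ hinj)
    rw [← card_map_of_injective hinj, map_comap_eq_self (by
      rintro _ ⟨r, rfl⟩
      obtain ⟨l, hl⟩ := hK.inner _ (hφ r)
      exact ⟨l, hl.symm⟩), ← index_ker, H48.ker_conjHom] at h1
    rw [inf_relIndex_right]
    calc (Cent K).relIndex R ^ 4 ≤ (2 ^ n) ^ 4 := Nat.pow_le_pow_left h1 4
      _ ≤ 2 ^ (d + 1) := by
        rw [← pow_mul]
        exact Nat.pow_le_pow_right two_pos (by have := hd d hd0 hdvd; omega)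

/-- the mechanism for a non-trivial action on a simple group of order not divisible by `8`. -/
theorem mech_of_not_eight (hS3 : JobS3.{u}) (hKF : JobKF.{u})
    (h3 : ¬ Involves (Equiv.Perm (Fin 3)) X) (hK : IsSimpleGroup K) (hc : ¬ IsMulCommutative K)
    (h8 : ¬ 8 ∣ Nat.card K) (hR : IsElementaryAbelian 2 R) (hn : R ≤ Nrm K) (hnc : ¬ R ≤ Cent K) :
    MechFor R := by
  by_cases ho : IsPi {2}ᶜ K
  · exact mech_of_odd hS3 h3 hR ho hn hnc
  have h2 : ¬ IsPi {2} K := fun h => not_two_group_of_simple hK hc (h.isPGroup Nat.prime_two)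
  have hKY : K ⊴ K ⊔ R := normalIn_sup_left hn
  obtain ⟨S, hS, hRS⟩ := exists_sylow_ge Nat.prime_two ((ea_isPi hR).isPGroup Nat.prime_two)
    (le_sup_right : R ≤ K ⊔ R)
  have hT : IsSylowOf 2 (K ⊓ S) K := hS.normal_inf hKY
  have hN : ¬ K ⊓ Nrm (K ⊓ S) ≤ Cent (K ⊓ S) := fun h => by
    have hnp : IsPiHallOf {2}ᶜ _ K := npc_of_nrm_le_cent Nat.prime_two hT h
    rcases simple_eq_bot_or hK (piCoreOf_normalIn {2}ᶜ K) with e | e
    · exact h2 (by simpa using hnp.isPi_compl_of_eq_bot e)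
    · exact ho (e ▸ isPi_piCoreOf {2}ᶜ K)
  obtain ⟨hTc, hRT⟩ := cent_of_s3_free h3 hT h8 hN hR (nrm_inf hn (nrm_of_le hRS))
  have hSc : IsMulCommutative S := by
    rw [← inf_eq_right.2 hS.le, modr hn hRS]
    exact comm_sup hTc hR.1 hRT
  have := Fact.mk Nat.prime_two
  refine mech_of_subgroupOf (le_sup_right : R ≤ K ⊔ R) (hKF _
    (fun h => h3 (H94.involves_trans h (H94.involves_subgroup _))) (fun P => ?_) (fun h => h8 ?_) _
    (ea_comap hR _ (subtype_injective _)) fun h => hnc ?_)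
  · obtain ⟨g, -, hg⟩ := sylow_trans Nat.prime_two hS (isSylowOf_map_subtype P)
    have hP := comm_iff_le_cent.1 (hg ▸ comm_cj hSc g)
    exact comm_iff_le_cent.2 fun a ha => mem_cent.2 fun b hb => Subtype.ext
      (mem_cent.1 (hP (mem_map_of_mem _ ha)) _ (mem_map_of_mem _ hb))
  · refine h.trans ((card_dvd_of_le (?_ : _ ≤ K.subgroupOf (K ⊔ R))).trans
      (card_subgroupOf le_sup_left).dvd)
    refine (closure_le _).2 fun g hg => ?_
    have h1 : IsPi {2}ᶜ (zpowers (g : X)) := (isPi_compl_singleton_iff_coprime Nat.prime_two).2 (by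
      rw [card_zpowers', orderOf_coe]; exact hg)
    exact h1.le_of_idx hKY (zpowers_le.2 g.2) (by
      rw [relIndex_sup_of_nrm hn, compl_compl]; exact (ea_isPi hR).relIndex K) (mem_zpowers _)
  · have h1 : R ≤ Op 2 (K ⊔ R) := by
      rw [Op_eq_pCore Nat.prime_two]
      exact (map_subgroupOf_eq_of_le (le_sup_right : R ≤ K ⊔ R)).ge.trans (map_mono h)
    have hO : Op 2 (K ⊔ R) ⊴ K ⊔ R := piCoreOf_normalIn {2} (K ⊔ R)
    refine h1.trans (cent_of_nrm_of_disjoint (hO.le.trans hKY.nrm) (le_sup_left.trans hO.nrm) ?_)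
    rw [inf_comm]
    exact (simple_eq_bot_or hK (hO.inf_of_le le_sup_left)).resolve_right fun e =>
      h2 (e ▸ (isPi_piCoreOf {2} _).inf_right)

/-- (M4) the mechanism for a non-trivial action on the product of the conjugates of a simple
subgroup. -/
theorem mech_of_simple (hSz : JobSz.{u}) (hS3 : JobS3.{u}) (hKF : JobKF.{u})
    (h3 : ¬ Involves (Equiv.Perm (Fin 3)) X) (hR : IsElementaryAbelian 2 R) {L : Type u} [Group L]
    (hL : IsSimpleGroup L) (hc : ¬ IsMulCommutative L) (h8 : ¬ 8 ∣ Nat.card L ∨ Lie.IsoSuzuki L)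
    (f : L →* X) (hf : Function.Injective f)
    (hcj : ∀ r ∈ R, r ∈ Nrm f.range ∨ ∀ y z, Commute (r * f y * r⁻¹) (f z))
    (hnc : ¬ R ≤ Cent f.range) : MechFor R := by
  have hfin : Finite L := Finite.of_injective f hf
  have hZ : ∀ y : L, (∀ z, Commute (f y) (f z)) → y = 1 := fun y hy =>
    mem_bot.1 (center_eq_bot_of_simple hL hc ▸ mem_center_iff.2 fun z => hf (by
      rw [map_mul, map_mul, (hy z).eq]))
  induction hM : R ⊓ Nrm f.range using WellFoundedGT.induction generalizing f with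
  | ind M ih =>
  subst hM
  by_cases hn : R ≤ Nrm f.range
  · have e := MonoidHom.ofInjective hf
    have hK : IsSimpleGroup f.range := e.symm.isSimpleGroup
    have hcK : ¬ IsMulCommutative f.range := fun h => hc ⟨⟨fun a b => e.injective (by
      rw [map_mul, map_mul, h.is_comm.comm])⟩⟩
    rcases h8 with h8 | ⟨F, _, _, m, hm, hF, ⟨e'⟩⟩
    · exact mech_of_not_eight hS3 hKF h3 hK hcK (Nat.card_congr e.toEquiv ▸ h8) hR hn hnc
    · obtain ⟨n, hn'⟩ := hSz f.range ⟨F, _, _, m, hm, hF, ⟨e.symm.trans e'⟩⟩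
      exact mech_of_suzuki hn' hcK hR hn hnc
  obtain ⟨s, hs, hsn⟩ := SetLike.not_le_iff_exists.1 hn
  have hsc := (hcj s hs).resolve_left hsn
  have hss := ea_sq hR hs
  let g : L →* X :=
    { toFun := fun y => f y * (s * f y * s⁻¹)
      map_one' := by simp
      map_mul' := fun y z => by
        rw [map_mul, mul_assoc (f y) (s * f y * s⁻¹), ← mul_assoc (s * f y * s⁻¹), (hsc y z).eq]
        group }
  have hg : ∀ y, g y = f y * (s * f y * s⁻¹) := fun _ => rfl
  have hg1 : ∀ y z : L, f y * (s * f z * s⁻¹) = 1 → y = 1 := fun y z h => hZ y fun w => by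
    rw [eq_inv_of_mul_eq_one_left h]
    exact (hsc z w).inv_left
  have hgi : Function.Injective g := (injective_iff_map_eq_one _).2 fun y h => hg1 y y h
  have hcg : ∀ r ∈ R, ∀ y z, r * f y * r⁻¹ = f z → r * g y * r⁻¹ = g z := fun r hr y z h => by
    rw [hg, hg, ← h]
    calc r * (f y * (s * f y * s⁻¹)) * r⁻¹ = r * f y * r⁻¹ * ((r * s) * f y * (r * s)⁻¹) := by group
      _ = _ := by rw [ea_comm hR hr hs]; group
  have hsg : ∀ y, s * g y * s⁻¹ = g y := fun y => by
    rw [hg]
    calc s * (f y * (s * f y * s⁻¹)) * s⁻¹ = s * f y * s⁻¹ * ((s * s) * f y * (s * s)⁻¹) := by group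
      _ = _ := by rw [hss, one_mul, inv_one, mul_one, (hsc y y).eq]
  have hN : R ⊓ Nrm f.range ≤ Nrm g.range := fun r hr => mem_nrm_of_cj_le (by
    rintro _ ⟨_, ⟨y, rfl⟩, rfl⟩
    obtain ⟨z, hz⟩ := conj_mem_of_mem_nrm hr.2 ⟨y, rfl⟩
    exact ⟨z, (hcg r hr.1 y z hz.symm).symm⟩)
  have hsC : s ∈ Cent g.range := mem_cent.2 (by
    rintro _ ⟨y, rfl⟩
    exact (mul_inv_eq_iff_eq_mul.1 (hsg y)).symm)
  have hsN : s ∈ Nrm g.range := cent_le_nrm _ hsC
  have hcj' : ∀ r ∈ R, r ∉ Nrm f.range → r * s ∉ Nrm f.range →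
      ∀ y z, Commute (r * g y * r⁻¹) (g z) := fun r hr h1 h2 y z => by
    have c1 := (hcj r hr).resolve_left h1
    have c2 := (hcj _ (mul_mem hr hs)).resolve_left h2
    have e : r * g y * r⁻¹ = r * f y * r⁻¹ * ((r * s) * f y * (r * s)⁻¹) := by rw [hg]; group
    have e1 : r * f y * r⁻¹ = s * ((r * s) * f y * (r * s)⁻¹) * s⁻¹ := by
      rw [ea_comm hR hr hs]
      calc r * f y * r⁻¹ = (s * s) * (r * f y * r⁻¹) * (s * s)⁻¹ := by rw [hss]; group
        _ = _ := by group
    have e2 : (r * s) * f y * (r * s)⁻¹ = s * (r * f y * r⁻¹) * s⁻¹ := by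
      rw [ea_comm hR hr hs]; group
    rw [e, hg]
    refine Commute.mul_left (Commute.mul_right (c1 y z) ?_) (Commute.mul_right (c2 y z) ?_)
    · rw [e1]; exact (c2 y z).conj s
    · rw [e2]; exact (c1 y z).conj s
  by_cases hD : R ≤ Cent g.range
  · obtain ⟨p, hp, h2, hpd⟩ : ∃ p : ℕ, p.Prime ∧ p ≠ 2 ∧ p ∣ Nat.card L := by
      by_contra h
      push Not at h
      have := Fact.mk Nat.prime_two
      refine not_two_group_of_simple hL hc (IsPGroup.iff_card.2 ⟨_,
        Nat.eq_prime_pow_of_unique_prime_dvd Nat.card_pos.ne' fun {d} hd hdd => ?_⟩)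
      by_contra h'
      exact h d hd h' hdd
    have := Fact.mk hp
    obtain ⟨y, hy⟩ := exists_prime_orderOf_dvd_card' p hpd
    have hy1 : y ≠ 1 := fun h => hp.one_lt.ne (by rw [← hy, h, orderOf_one])
    have hx : orderOf (f y * (s * f y * s⁻¹)⁻¹) = p := by
      refine orderOf_eq_prime ?_ fun h => hy1 (hg1 y y⁻¹ (by rw [← h, map_inv]; group))
      rw [(hsc y y).symm.inv_right.mul_pow, inv_pow, conj_pow, ← map_pow, ← hy, pow_orderOf_eq_one]
      simp
    refine mech_of_two hS3 h3 (inf_le_left : R ⊓ Nrm f.range ≤ R) ?_ hs (hx ▸ hp) (hx ▸ h2)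
      (fun r hr => ?_) ?_
    · rw [inf_relIndex_left]
      refine Nat.le_of_dvd two_pos (relIndex_dvd_two_iff.2 ⟨s, hs, fun r hr => ?_⟩)
      by_contra h
      push Not at h
      refine hc ⟨⟨fun y z => hgi ?_⟩⟩
      have := hcj' r hr h.2 h.1 y z
      rw [← mem_cent.1 (hD hr) _ ⟨y, rfl⟩, mul_inv_cancel_right] at this
      rw [map_mul, map_mul, this.eq]
    · obtain ⟨z, hz⟩ := conj_mem_of_mem_nrm hr.2 ⟨y, rfl⟩
      have h1 := hcg r hr.1 y z hz.symm
      rw [← mem_cent.1 (hD hr.1) _ ⟨y, rfl⟩, mul_inv_cancel_right] at h1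
      rw [← hgi h1] at hz
      have c : Commute r (f y) := mul_inv_eq_iff_eq_mul.1 hz.symm
      have cs : Commute r s := ea_comm hR hr.1 hs
      exact c.mul_right ((cs.mul_right c).mul_right cs.inv_right).inv_right
    · calc s * (f y * (s * f y * s⁻¹)⁻¹) * s⁻¹
          = s * f y * s⁻¹ * ((s * s) * f y * (s * s)⁻¹)⁻¹ := by group
        _ = _ := by rw [hss]; group
  · refine ih _ (lt_of_le_of_ne (le_inf inf_le_left hN) fun h => hsn (h.ge ⟨hs, hsN⟩).2) g hgi
      (fun r hr => ?_) hD (fun y hy => ?_) rfl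
    · by_cases h1 : r ∈ Nrm f.range
      · exact Or.inl (hN ⟨hr, h1⟩)
      by_cases h2 : r * s ∈ Nrm f.range
      · exact Or.inl ((mul_mem_cancel_right hsN).1 (hN ⟨mul_mem hr hs, h2⟩))
      exact Or.inr (hcj' r hr h1 h2)
    · exact mem_bot.1 (center_eq_bot_of_simple hL hc ▸ mem_center_iff.2 fun z => hgi (by
        rw [map_mul, map_mul, (hy z).eq]))

theorem kt_of_subnormal (hKT : JobKT.{u}) (h : KT X) (hK : K.IsSubnormal) : KT K := by
  induction hK with
  | top =>
    exact hKT.normal X _ (⊤ : Subgroup X).subtype (subtype_injective _)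
      (by rw [range_subtype]; infer_instance) h
  | step H K hle _ hN ih =>
    exact hKT.normal K H (inclusion hle) (inclusion_injective hle) (by rwa [inclusion_range]) ih

theorem mech_of_fitting_eq_bot (hSz : JobSz.{u}) (hKT : JobKT.{u}) (hKF : JobKF.{u})
    (hS3 : JobS3.{u}) (h : KT X) (h3 : ¬ Involves (Equiv.Perm (Fin 3)) X)
    (hF : fittingSubgroup X = ⊥) : Mech X := by
  intro R hR hR1
  obtain ⟨L, hL, hLR⟩ : ∃ L : Subgroup X, IsComponent L ∧ ⁅L, R⁆ ≠ ⊥ := by
    by_contra hc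
    push Not at hc
    refine hR1 (eq_bot_iff.2 (hF ▸ H14.le_fitting_of_commutator_fstar
      (H14.commutator_eq_bot_symm (H14.layer_commutator_eq_bot hc)) ?_))
    rw [hF, commutator_bot_right]
  have hs : IsSimpleGroup L := H14.simple_of_quasi (H14.comp_quasi hL) (by
    rw [← map_eq_bot_iff_of_injective _ L.subtype_injective, H14.map_center_subtype, eq_bot_iff, ← hF]
    exact H14.comp_center_le_fitting hL)
  refine mech_of_simple hSz hS3 hKF h3 hR hs (H14.quasi_not_comm (H14.comp_quasi hL))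
    (hKT.simple L hs (kt_of_subnormal hKT h (H14.comp_subnormal hL))) L.subtype L.subtype_injective
    (fun r _ => ?_) (by rw [range_subtype, ← commutator_eq_bot_iff']; exact hLR)
  rw [range_subtype]
  exact (H14.comp_eq_or_commute (H14.comp_map_conj hL r) hL).imp mem_nrm_iff_cj.2 fun e y z =>
    H14.commutator_eq_bot_iff_comm.1 e _ (mem_map_of_mem (MulAut.conj r).toMonoidHom y.2) z z.2

end

theorem jobMech (hSz : JobSz.{u}) (hKT : JobKT.{u}) (hKF : JobKF.{u}) (hS3 : JobS3.{u}) :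
    JobMech.{u} := by
  intro X _ _ h h3 hO R hR hR1
  have := Fact.mk Nat.prime_two
  have hFn := H2.fitting_normal X
  have hF : IsPi {2}ᶜ (fittingSubgroup X) :=
    ((isPi_compl_singleton Nat.prime_two).2 (H2.not_dvd_card_pPrimeCore 2 X)).of_le
      (H2.fitting_le_pPrimeCore_of_pCore_eq_bot hO)
  by_cases hc : R ≤ Cent (fittingSubgroup X)
  swap
  · exact mech_of_odd hS3 h3 hR hF (le_top.trans (normalIn_top_iff.2 hFn).nrm) hc
  set C := Cent (fittingSubgroup X) with hC
  have hCn : C.Normal := normal_centralizer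
  have hFC : fittingSubgroup C ≤ center C := by
    rw [H2.fitting_eq_subgroupOf]
    exact fun z hz => mem_center_iff.2 fun g => Subtype.ext (mem_cent.1 g.2 z hz).symm
  have hk : (QuotientGroup.mk' (center C)).ker ≤ center C := (QuotientGroup.ker_mk' _).le
  have hsurj := QuotientGroup.mk'_surjective (center C)
  have hR' : IsElementaryAbelian 2 (R.subgroupOf C) := ea_comap hR _ (subtype_injective _)
  refine mech_of_subgroupOf hc (mech_lift _ hsurj hk hR' (mech_of_fitting_eq_bot hSz hKT hKF hS3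
    (hKT.quot C _ _ hsurj (hKT.normal X C C.subtype C.subtype_injective (by rwa [range_subtype]) h))
    (fun h' => h3 (H94.involves_trans (H94.involves_trans h' (H94.involves_quotient _))
      (H94.involves_subgroup _))) ?_ _ (ea_map hR' _) fun e => hR1 ?_))
  · rw [← map_comap_eq_self_of_surjective hsurj (fittingSubgroup _),
      H2.comap_fitting_of_ker_le_center _ hsurj hk, Subgroup.map_eq_bot_iff, QuotientGroup.ker_mk']
    exact hFC
  · rw [Subgroup.map_eq_bot_iff, QuotientGroup.ker_mk'] at e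
    have h1 := e.trans (H2.center_le_fitting C)
    rw [H2.fitting_eq_subgroupOf] at h1
    exact (ea_isPi hR).eq_bot (hF.of_le fun r hr => h1 (show (⟨r, hc hr⟩ : C) ∈ R.subgroupOf C from hr))

theorem jobCls (hKT : JobKT.{u}) (hM : JobMech.{u}) : JobCls.{u} where
  odd G _ _ H hH h := ⟨hKT.odd G H H.subtype H.subtype_injective (by rwa [range_subtype]) h.1,
    s3f_subgroup h.2 H⟩
  normal G _ _ H hH h := ⟨hKT.normal G H H.subtype H.subtype_injective (by rwa [range_subtype]) h.1,
    s3f_subgroup h.2 H⟩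
  good G _ _ h Y _ f hf hO := by
    have := Finite.of_surjective f hf
    refine hM Y (hKT.quot G Y f hf h.1) (fun h' => h.2 (H94.involves_trans h'
      (involves_of_ker_le (QuotientGroup.mk' (pCore 2 G)) f hf ?_))) hO
    rw [QuotientGroup.ker_mk', ← Subgroup.map_eq_bot_iff, eq_bot_iff, ← hO]
    exact H2.map_pCore_le_of_surjective f hf

theorem jobCls' (hSz : JobSz.{u}) (hKT : JobKT.{u}) (hKF : JobKF.{u}) (hS3 : JobS3.{u}) :
    JobCls.{u} := jobCls hKT (jobMech hSz hKT hKF hS3)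

end H23
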