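import Cfsg.Agent.H67.SPIII
import Cfsg.Agent.H78.S2Kit

/-! STD-SP chapter III, slot T2: squares and additivity on independent triples. -/

set_option autoImplicit false
set_option linter.unusedSectionVars false

namespace H23.SP3T2

open H67.UA hiding Par sg
open H67.SP
open H67.SA (cm)
open H86.SPI (hf_self hf_comm hf_smul_right' ok)
open H78.S2 (ac_Tc' ac_qq' EE_fix EE_conj')
open Subgroup

universe u

section Grp

variable {G : Type u} [Group G] {A B C T X P Q p q r : G}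

theorem sq3 (h1 : B * A = A * B * p) (h2 : C * A = A * C * q) (h3 : C * B = B * C * r)
    (pB : Commute p B) (pC : Commute p C) (qB : Commute q B) (qC : Commute q C)
    (rC : Commute r C) : A * B * C * (A * B * C) = A * A * (B * B) * (C * C) * (r * p * q) :=
  calc A * B * C * (A * B * C) = A * B * (C * A) * B * C := by group
    _ = A * (B * A) * C * (q * B) * C := by rw [h2]; group
    _ = A * A * B * (p * C) * B * (q * C) := by rw [h1, qB.eq]; group
    _ = A * A * B * C * (p * B) * C * q := by rw [pC.eq, qC.eq]; group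
    _ = A * A * B * (C * B) * (p * C) * q := by rw [pB.eq]; group
    _ = A * A * B * B * C * (r * C) * p * q := by rw [h3, pC.eq]; group
    _ = _ := by rw [rC.eq]; group

theorem com3 (h1 : T * X = X * T * p) (h2 : A * X = X * A * q) (h3 : B * X = X * B * r)
    (pA : Commute p A) (pB : Commute p B) (qB : Commute q B) (h : p * q * r = 1) :
    X * (T * A * B) = T * A * B * X :=
  (calc T * A * B * X = T * A * (B * X) := by group
    _ = T * (A * X) * B * r := by rw [h3]; group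
    _ = T * X * A * (q * B) * r := by rw [h2]; group
    _ = X * T * (p * A) * B * q * r := by rw [h1, qB.eq]; group
    _ = X * T * A * (p * B) * q * r := by rw [pA.eq]; group
    _ = X * (T * A * B) * (p * q * r) := by rw [pB.eq]; group
    _ = _ := by rw [h, mul_one]).symm

theorem rev3 (h1 : A * T = T * A * p) (h2 : B * T = T * B * q) (h3 : B * A = A * B * r)
    (qA : Commute q A) : B * A * T = T * A * B * (r * q * p) :=
  calc B * A * T = B * (A * T) := by group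
    _ = B * T * A * p := by rw [h1]; group
    _ = T * B * (q * A) * p := by rw [h2]; group
    _ = T * (B * A) * q * p := by rw [qA.eq]; group
    _ = _ := by rw [h3]; group

theorem two4 {Z : Subgroup G} (hZ : ∀ a ∈ Z, ∀ b ∈ Z, a * b = b * a)
    (h2 : P * B * C ∈ Z) (h4 : Q * A * C ∈ Z)
    (hA : A * A ∈ Z) (hB : B * B ∈ Z) (hp : p ∈ Z) (hq : q ∈ Z) (hr : r ∈ Z)
    (cA : ∀ z ∈ Z, z * A = A * z) (cB : ∀ z ∈ Z, z * B = B * z) (cC : ∀ z ∈ Z, z * C = C * z)
    (cT : ∀ z ∈ Z, z * T = T * z) (k1 : B * A = A * B * p) (k2 : A * C = C * A * q)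
    (k3 : B * C = C * B * r) :
    P * B * C * (T * B * Q) * (A * A * q) = Q * A * C * (T * A * P) * (B * B * r * p) := by
  have e1 : T * A * P * (B * C) = P * B * C * (T * A) := by
    rw [← mul_assoc (P * B * C), cT _ h2, mul_assoc T (P * B * C), cA _ h2]; group
  have e2 : T * B * Q * (A * C) = Q * A * C * (T * B) := by
    rw [← mul_assoc (Q * A * C), cT _ h4, mul_assoc T (Q * A * C), cB _ h4]; group
  have e3 : A * C * A = A * A * q * C := by
    rw [k2, mul_assoc _ q, cA q hq, cC _ (mul_mem hA hq)]; group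
  have e4 : B * C * B * p = B * B * r * p * C := by
    rw [k3, mul_assoc _ r, cB r hr, cC _ (mul_mem (mul_mem hB hr) hp)]; group
  refine mul_right_cancel (b := C) ?_
  calc _ = P * B * C * (T * B * Q * (A * C)) * A := by rw [mul_assoc _ (A * A * q) C, ← e3]; group
    _ = P * B * C * (Q * A * C) * T * (B * A) := by rw [e2]; group
    _ = Q * A * C * (P * B * C * (T * A)) * B * p := by rw [hZ _ h2 _ h4, k1]; group
    _ = _ := by rw [← e1, mul_assoc _ (B * B * r * p) C, ← e4]; group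

theorem six {Z : Subgroup G} (hZ : ∀ a ∈ Z, ∀ b ∈ Z, a * b = b * a) {a b c d f h : G}
    (ha : a ∈ Z) (hb : b ∈ Z) (hc : c ∈ Z) (hd : d ∈ Z) (hf : f ∈ Z) (hh : h ∈ Z) :
    a * b * c * (c * d * f) * (b * d * h) * (a * h * f) =
      a * a * (b * b) * (c * c) * (d * d) * (f * f) * (h * h) := by
  let _ : CommGroup Z := { (inferInstance : Group Z) with
    mul_comm := fun x y => Subtype.ext (hZ _ x.2 _ y.2) }
  have : ∀ a b c d f h : Z, a * b * c * (c * d * f) * (b * d * h) * (a * h * f) =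
      a * a * (b * b) * (c * c) * (d * d) * (f * f) * (h * h) := fun a b c d f h => by ac_rfl
  exact congrArg Subtype.val (this ⟨a, ha⟩ ⟨b, hb⟩ ⟨c, hc⟩ ⟨d, hd⟩ ⟨f, hf⟩ ⟨h, hh⟩)

theorem mix {Z : Subgroup G} (hZ : ∀ a ∈ Z, ∀ b ∈ Z, a * b = b * a) {a b c d f h : G}
    (hb : b ∈ Z) (hc : c ∈ Z) (hd : d ∈ Z) (hf : f ∈ Z) :
    a * b * (c * d) * (f * h) = a * (c * f) * (b * d * h) := by
  rw [mul_assoc a b, ← mul_assoc b c, hZ b hb c hc, mul_assoc a, ← mul_assoc _ f h, mul_assoc c b d,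
    mul_assoc c, hZ _ (mul_mem hb hd) f hf]
  group

end Grp

variable {n : ℕ} {F : Type} [Field F] [StarRing F] [TrivialStar F] [CharP F 2] [Finite F]
  [hp : Par n F]

section X

variable {u v w : Vn n F}

theorem hs (c : F) (h : hf u v = 0) : hf (c • v) u = 0 := by rw [hf_smul_left, hf_symm h, mul_zero]

theorem ac_wd (c : F) (h : hf u v = 0) (y : Vn n F) :
    ac (qq (c • v) u) y = y + (c * hf y v) • u + (c * hf y u) • v := by
  rw [ac_qq' (hs c h), hf_smul_right', smul_smul, mul_comm (hf y u)]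

/-- identities inside `S²(W)` -/
local macro "xid" h:ident : tactic => `(tactic| (
  refine ac_ext fun y => ?_
  have h1 := ($h).uv
  have h2 := ($h).uw
  have h3 := ($h).vw
  have h4 := hf_symm h1
  have h5 := hf_symm h2
  have h6 := hf_symm h3
  simp only [m3, m2, ac_mul, ac_Tc', ac_wd, ac_one, hf_add_left, hf_add_right, hf_smul_left,
    hf_smul_right', hf_self, h1, h2, h3, h4, h5, h6, add_zero, mul_zero]
  ext i
  simp only [Pi.add_apply, Pi.smul_apply, smul_eq_mul]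
  grind))

theorem x1 (h : P3 u v w) (c : F) : qq (c • w) (u + v) * qq (c • w) u * qq (c • w) v = 1 := by
  xid h

theorem x2 (h : P3 u v w) (a b c d f k : F) : m3 u w v a b c d f k = m3 u v w a c b f d k := by
  xid h

theorem x3 (h : P3 u v w) (a b c d f k : F) :
    m3 u v (v + w) a b c d f k = m3 u v w a (b + c) c (d + f) f (k + c) := by
  xid h

theorem x4 (h : P3 u v w) (a b c d f k : F) :
    m3 u (v + u) w a b c d f k = m3 u v w (a + b) b c (d + b) (f + k) k := by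
  xid h

theorem x5 (h : P3 u v w) (a : F) : m3 u v w a 0 0 0 0 0 = Tc a u := by
  xid h

theorem x6 (h : P3 u v w) (c : F) : qq (c • w) u * qq (c • w) v * qq (c • w) (u + v) = 1 := by
  xid h

theorem p3 (h : hf u v = 0) : P3 u v u := ⟨h, hf_self u, hf_symm h⟩

theorem x8 (h : hf u v = 0) (ρ β : F) : Tc ρ (u + v) * Tc ρ u * Tc ρ v *
    (qq (β • u) v * qq (β • (u + v)) u * qq (β • (u + v)) v) = qq ((ρ + β) • v) u := by
  have h := p3 h
  xid h

theorem x9 (h : hf u v = 0) (β : F) : Tc β u * Tc β v * (Tc β u * Tc β v) = 1 := by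
  have h := p3 h
  xid h

theorem x10 (h : hf u v = 0) (β : F) : qq (β • u) v * qq (β • (u + v)) v * qq (β • (u + v)) u *
    (Tc β u * Tc β (u + v)) = Tc β u * Tc β v * Tc β u := by
  have h := p3 h
  xid h

theorem x11 (h : P3 u v w) (ρ β : F) : qq (β • u) v * (Tc ρ v * qq (β • w) v * qq (β • u) v) *
    (Tc ρ u * qq (β • w) u)⁻¹ * (Tc β v * Tc β u * (Tc β v * Tc β w) * (Tc β v * Tc β (u + w))) =
    Tc β u * Tc β v * (Tc β u * Tc β w) * (Tc β u * Tc β (v + w)) *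
      (Tc (ρ + β) u * Tc (ρ + β) v) := by
  rw [inv_eq_of_mul_eq_one_right (show Tc ρ u * qq (β • w) u * (Tc ρ u * qq (β • w) u) = 1 by xid h)]
  xid h

theorem x12 (h : hf u v = 0) (a k : F) : Tc a u * (Tc k u * Tc k v) = m2 u v (a + k) k 0 := by
  have h := p3 h
  xid h

theorem x13 (h : hf u v = 0) (a : F) : Tc a v = m2 u v 0 a 0 := by
  have h := p3 h
  xid h

theorem x14 (a : F) : Tc a u * Tc a u * Tc a u * Tc a u = 1 := by
  have h := p3 (hf_self u)
  xid h

theorem m3_conj (h : P3 u v w) (g : XU n F) (a b c d f k : F) :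
    g * m3 u v w a b c d f k * g⁻¹ = m3 (ac g u) (ac g v) (ac g w) a b c d f k := by
  have c1 : ∀ (a : F) x, g * Tc a x * g⁻¹ = Tc a (ac g x) := fun a x =>
    Tc_conj (hf_self x) (star_trivial a) g
  have c2 : ∀ (a : F) {x y}, hf x y = 0 → g * qq (a • y) x * g⁻¹ = qq (a • ac g y) (ac g x) :=
    fun a x y k => by rw [EE_conj' (hs a k), ac_smul]
  simp only [m3, m2, ← c1, ← c2 _ h.uv, ← c2 _ h.uw, ← c2 _ h.vw]
  group

/-- `W` is totally isotropic -/
def TI (W : Submodule F (Vn n F)) : Prop := ∀ x ∈ W, ∀ y ∈ W, hf x y = 0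

theorem ti_span {T : Set (Vn n F)} (h : ∀ x ∈ T, ∀ y ∈ T, hf x y = 0) : TI (Submodule.span F T) := by
  have k : ∀ y, (∀ x ∈ T, hf x y = 0) → ∀ x ∈ Submodule.span F T, hf x y = 0 := fun y hy x hx => by
    induction hx using Submodule.span_induction with
    | mem x hx => exact hy x hx
    | zero => simp
    | add a b _ _ ha hb => rw [hf_add_left, ha, hb, add_zero]
    | smul a b _ hb => rw [hf_smul_left, hb, mul_zero]
  exact fun x hx y hy => k y (fun x hx => hf_symm (k x (fun z hz => h z hz x hx) y hy)) x hx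

theorem exists_ti (h : P3 u v w) : ∃ W : Submodule F (Vn n F), TI W ∧ u ∈ W ∧ v ∈ W ∧ w ∈ W := by
  refine ⟨_, ti_span (T := {u, v, w}) ?_, Submodule.subset_span (by simp),
    Submodule.subset_span (by simp), Submodule.subset_span (by simp)⟩
  simp [hf_self, h.uv, h.uw, h.vw, hf_symm h.uv, hf_symm h.uw, hf_symm h.vw]

theorem TI.qa {W : Submodule F (Vn n F)} (h : TI W) (hu : u ∈ W) (hv : v ∈ W) (hw : w ∈ W) :
    qq v u * qq w u = qq (v + w) u := by
  rw [H86.SPI.EE_mul' (h _ hv _ hu) (h _ hw _ hu), h _ hw _ hv]; simp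

theorem exists_g [Base n F] {u' v' w' : Vn n F} (h : P3 u v w) (l : Li3 u v w) (h' : P3 u' v' w')
    (l' : Li3 u' v' w') : ∃ g : XU n F, ac g u = u' ∧ ac g v = v' ∧ ac g w = w' := by
  obtain ⟨g, a, b, c⟩ := FW.w3 u v w h.uv h.uw h.vw l
  obtain ⟨g', a', b', c'⟩ := FW.w3 u' v' w' h'.uv h'.uw h'.vw l'
  exact ⟨g' * g⁻¹, by rw [ac_mul, ← a, ac_inv_ac, a'], by rw [ac_mul, ← b, ac_inv_ac, b'],
    by rw [ac_mul, ← c, ac_inv_ac, c']⟩

theorem li3_of (l : Li3 u v w) (a b c d k m : F) (h : a * d + b * c ≠ 0) :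
    Li3 u (a • v + b • w + k • u) (c • v + d • w + m • u) := fun x y z e => by
  obtain ⟨h1, h2, h3⟩ := l (x + y * k + z * m) (y * a + z * c) (y * b + z * d) (by
    rw [← e]; module)
  have hy : y = 0 := (mul_eq_zero.1 (show y * (a * d + b * c) = 0 by
    linear_combination d * h2 + c * h3 - z * c * d * two0 F)).resolve_right h
  have hz : z = 0 := (mul_eq_zero.1 (show z * (a * d + b * c) = 0 by
    linear_combination b * h2 + a * h3 - y * a * b * two0 F)).resolve_right h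
  exact ⟨by simpa [hy, hz] using h1, hy, hz⟩

end X

variable {G : Type u} [Group G] {e : XU n F →* G} {t : G} {τ : Vn n F → G} {β ρ : F}
  {W : Submodule F (Vn n F)} {u v w z : Vn n F}

variable (e τ W) in
/-- the generators -/
def SS : Set G := {g | (∃ x ∈ W, g = τ x) ∨ ∃ p, (∀ x ∈ W, ac p x = x) ∧ g = e p}

variable (e τ W) in
/-- an abelian group centralised by the `τ x` -/
def ZW : Subgroup G := centralizer (SS e τ W) ⊓ centralizer (centralizer (SS e τ W))

theorem z_comm : ∀ a ∈ ZW e τ W, ∀ b ∈ ZW e τ W, a * b = b * a := fun _ ha _ hb => hb.2 _ ha.1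

theorem z_tau (h : u ∈ W) : ∀ a ∈ ZW e τ W, a * τ u = τ u * a := fun _ ha =>
  (ha.1 _ (Or.inl ⟨u, h, rfl⟩)).symm

theorem tau_cc (h : u ∈ W) : τ u ∈ centralizer (centralizer (SS e τ W) : Set G) := fun _ ha =>
  (ha _ (Or.inl ⟨u, h, rfl⟩)).symm

theorem EE_z (r : R0 e τ) (i : TI W) (hu : u ∈ W) (hv : v ∈ W) (c : F) :
    e (EE u v c) ∈ ZW e τ W := by
  have k : ∀ x ∈ W, ac (EE u v c) x = x := fun x hx =>
    ac_EE_fix (ok (i _ hv _ hu) c) (i _ hx _ hu) (i _ hx _ hv)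
  refine ⟨?_, fun a ha => (ha _ (Or.inr ⟨_, k, rfl⟩)).symm⟩
  rintro _ (⟨x, hx, rfl⟩ | ⟨p, hp, rfl⟩)
  · exact (r.fix (k x hx)).symm
  · rw [← map_mul, EE_fix (i _ hv _ hu) c (hp u hu) (hp v hv), map_mul]

theorem Tc_z (r : R0 e τ) (i : TI W) (hu : u ∈ W) (c : F) : e (Tc c u) ∈ ZW e τ W :=
  EE_z r i hu W.zero_mem c

theorem qq_z (r : R0 e τ) (i : TI W) (hu : u ∈ W) (hv : v ∈ W) (c : F) :
    e (qq (c • v) u) ∈ ZW e τ W := EE_z r i hu (W.smul_mem c hv) 0

theorem TT_z (r : R0 e τ) (i : TI W) (hu : u ∈ W) (hv : v ∈ W) :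
    e (Tc β u * Tc β v) ∈ ZW e τ W := by
  rw [map_mul]; exact mul_mem (Tc_z r i hu β) (Tc_z r i hv β)

theorem sw (r : R1 e τ β) (i : TI W) (hu : u ∈ W) (hv : v ∈ W) :
    τ u * τ v = τ v * τ u * e (qq (β • v) u) := by
  have k := qq_z r.toR0 i hu hv β
  rw [mul_assoc, ← z_tau hu _ k, ← mul_assoc, ← z_tau hv _ k, ← r.cmp u v (i _ hu _ hv), cm]
  group

theorem qc (r : R1 e τ β) (i : TI W) (hu : u ∈ W) (hv : v ∈ W) (hw : w ∈ W) :
    Commute (e (qq (β • v) u)) (τ w) := z_tau hw _ (qq_z r.toR0 i hu hv β)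

theorem s_z (r : R1 e τ β) (i : TI W) (hu : u ∈ W) (hv : v ∈ W) :
    τ (u + v) * τ u * τ v ∈ ZW e τ W := by
  have huv := W.add_mem hu hv
  refine ⟨?_, mul_mem (mul_mem (tau_cc huv) (tau_cc hu)) (tau_cc hv)⟩
  rintro _ (⟨x, hx, rfl⟩ | ⟨p, hp, rfl⟩)
  · refine com3 (sw r i huv hx) (sw r i hu hx) (sw r i hv hx) (qc r i huv hx hu) (qc r i huv hx hv)
      (qc r i hu hx hv) ?_
    rw [← map_mul, ← map_mul, x1 ⟨i _ hu _ hv, i _ hu _ hx, i _ hv _ hx⟩, map_one]
  · exact ((show Commute _ _ from r.fix (hp _ huv)).mul_right (r.fix (hp _ hu))).mul_right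
      (r.fix (hp _ hv))

theorem sg_z (r : R1 e τ β) (i : TI W) (hu : u ∈ W) (hv : v ∈ W) : sg e τ β u v ∈ ZW e τ W :=
  mul_mem (s_z r i hu hv) (TT_z r.toR0 i hu hv)

theorem sg_sq (r : R1 e τ β) (q : Sq e τ ρ) (i : TI W) (hu : u ∈ W) (hv : v ∈ W) :
    sg e τ β u v * sg e τ β u v = e (qq ((ρ + β) • v) u) := by
  have huv := W.add_mem hu hv
  rw [sg, mul_assoc, ← mul_assoc (e _), z_comm _ (TT_z r.toR0 i hu hv) _ (s_z r i hu hv),
    mul_assoc _ (e _), ← map_mul, x9 (i _ hu _ hv), map_one, mul_one,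
    sq3 (sw r i hu huv) (sw r i hv huv) (sw r i hv hu) (qc r i hu huv hu) (qc r i hu huv hv)
      (qc r i hv huv hu) (qc r i hv huv hv) (qc r i hv hu hv), q, q, q, ← x8 (i _ hu _ hv)]
  simp only [map_mul]

theorem sg_sh (r : R1 e τ β) (i : TI W) (hu : u ∈ W) (hv : v ∈ W) :
    sg e τ β u (v + u) = sg e τ β u v * e (Tc β u) := by
  have huv := W.add_mem hu hv
  rw [sg, sg, add_comm v u, ← add_assoc, v_add_self, zero_add,
    rev3 (sw r i hu huv) (sw r i hv huv) (sw r i hv hu) (qc r i hv huv hu), mul_assoc, ← map_mul,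
    ← map_mul, ← map_mul, x10 (i _ hu _ hv), mul_assoc _ (e _), ← map_mul]

variable (e τ β) in
/-- the defect of additivity -/
noncomputable def E (u v w : Vn n F) : G := sg e τ β u v * sg e τ β u w * sg e τ β u (v + w)

theorem E_eqv [Base n F] (r : R0 e τ) (g : XU n F) :
    e g * E e τ β u v w * (e g)⁻¹ = E e τ β (ac g u) (ac g v) (ac g w) := by
  simp only [E, ← ac_add, ← r.sg_eqv β g]; group

theorem E_M [Base n F] (a : AW e t) (r : R1 e τ β) (tt : Tt e τ t) (h : P3 u v w) (l : Li3 u v w) :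
    ∃ a b c d f k, E e τ β u v w = e (m3 u v w a b c d f k) := by
  obtain ⟨W, i, hu, hv, hw⟩ := exists_ti h
  have hvw := W.add_mem hv hw
  have sv := r.toR0.sv a.cen tt β
  have k : ∀ {x y : Vn n F}, x ∈ W → y ∈ W →
      sg e τ β u x * (t * e (qq y u)) = t * e (qq (x + y) u) * sg e τ β u x := fun {x y} hx hy => by
    rw [← mul_assoc, mul_inv_eq_iff_eq_mul.1 (sv u x (i _ hu _ hx)), mul_assoc,
      z_comm _ (sg_z r i hu hx) _ (EE_z r.toR0 i hu hy 0), ← i.qa hu hx hy, map_mul]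
    group
  have h1 : E e τ β u v w * t = t * E e τ β u v w := by
    rw [E, mul_assoc, mul_inv_eq_iff_eq_mul.1 (sv u _ (i _ hu _ hvw)), ← mul_assoc, mul_assoc _ _ (_ * _),
      k hw hvw, ← mul_assoc, k hv (W.add_mem hw hvw), add_comm v w, ← add_assoc w, v_add_self,
      zero_add, v_add_self, qq, EE_zero, map_one]
    group
  obtain ⟨a1, b, c, d, f, k, h2 | h2⟩ := a.v3 _ u v w h l h1 fun p h1 h2 h3 => by
    rw [eq_comm, ← mul_inv_eq_iff_eq_mul, E_eqv r.toR0, h1, h2, h3]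
  · exact ⟨a1, b, c, d, f, k, h2⟩
  · have h3 : e (m3 u v w a1 b c d f k) ∈ ZW e τ W := by
      simp only [m3, m2, map_mul]
      exact mul_mem (mul_mem (mul_mem (mul_mem (mul_mem (Tc_z r.toR0 i hu _) (Tc_z r.toR0 i hv _))
        (qq_z r.toR0 i hu hv _)) (Tc_z r.toR0 i hw _)) (qq_z r.toR0 i hu hw _)) (qq_z r.toR0 i hv hw _)
    have h4 : t * e (m3 u v w a1 b c d f k) ∈ ZW e τ W :=
      h2 ▸ mul_mem (mul_mem (sg_z r i hu hv) (sg_z r i hu hw)) (sg_z r i hu hvw)
    have h5 := tt u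
    rw [← z_tau hu _ ((mul_mem_cancel_right h3).1 h4), mul_inv_cancel_right, left_eq_mul,
      ← map_one e] at h5
    exact (one_ne_zero (Tc_eq_one (fun k => one_ne_zero (l 1 0 0 (by simp [k])).1) (hf_self u)
      (star_one F) (a.inj h5))).elim

theorem E_Tc [Base n F] (a : AW e t) (r : R1 e τ β) (tt : Tt e τ t) (h : P3 u v w) (l : Li3 u v w) :
    ∃ a, E e τ β u v w = e (Tc a u) := by
  obtain ⟨W, i, hu, hv, hw⟩ := exists_ti h
  have hvw := W.add_mem hv hw
  obtain ⟨a1, b, c, d, f, k, h1⟩ := E_M a r tt h l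
  have key : ∀ {v' w' : Vn n F}, v' ∈ W → w' ∈ W → Li3 u v' w' → E e τ β u v' w' = E e τ β u v w →
      m3 u v' w' a1 b c d f k = m3 u v w a1 b c d f k := fun {v' w'} hv' hw' l' h2 => by
    obtain ⟨g, g1, g2, g3⟩ := exists_g h l ⟨i _ hu _ hv', i _ hu _ hw', i _ hv' _ hw'⟩ l'
    have h3 := E_eqv (β := β) (u := u) (v := v) (w := w) r.toR0 g
    rw [g1, g2, g3, h2, h1, ← map_inv, ← map_mul, ← map_mul, m3_conj h, g1, g2, g3] at h3
    exact a.inj h3
  have k1 := key hw hv (by simpa using li3_of l 0 1 1 0 0 0 (by simp)) (by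
    rw [E, E, add_comm w v, z_comm _ (sg_z r i hu hw) _ (sg_z r i hu hv)])
  have k2 := key hv hvw (by simpa using li3_of l 1 0 1 1 0 0 (by simp)) (by
    rw [E, E, ← add_assoc, v_add_self, zero_add, mul_assoc,
      z_comm _ (sg_z r i hu hvw) _ (sg_z r i hu hw), mul_assoc])
  have k3 := key (W.add_mem hv hu) hw (by simpa using li3_of l 1 0 0 1 1 0 (by simp)) (by
    rw [E, E, add_right_comm v u w, sg_sh r i hu hv, sg_sh r i hu hvw, mul_assoc _ (e _),
      z_comm _ (Tc_z r.toR0 i hu β) _ (sg_z r i hu hw), ← mul_assoc, ← mul_assoc, mul_assoc _ (e _),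
      z_comm _ (Tc_z r.toR0 i hu β) _ (sg_z r i hu hvw), ← mul_assoc, mul_assoc _ (e _), ← map_mul,
      H78.S2.Tc_sq, map_one, mul_one])
  rw [x2 h] at k1
  rw [x3 h] at k2
  rw [x4 h] at k3
  obtain ⟨-, b1, -, d1, -⟩ := a.uq3 _ _ _ _ _ _ _ _ _ _ _ _ _ _ _ h l k1
  obtain ⟨-, c0, -, f0, -⟩ := a.uq3 _ _ _ _ _ _ _ _ _ _ _ _ _ _ _ h l k2
  obtain ⟨-, -, -, -, k0, -⟩ := a.uq3 _ _ _ _ _ _ _ _ _ _ _ _ _ _ _ h l k3
  rw [add_eq_left] at c0 f0 k0
  subst b1 d1 c0 f0 k0
  exact ⟨a1, by rw [h1, x5 h]⟩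

theorem E_sw (r : R1 e τ β) (q : Sq e τ ρ) (h : P3 u v w) :
    E e τ β v u w = E e τ β u v w * e (Tc (ρ + β) u * Tc (ρ + β) v) := by
  obtain ⟨W, i, hu, hv, hw⟩ := exists_ti h
  have hvw := W.add_mem hv hw
  have huw := W.add_mem hu hw
  have r0 := r.toR0
  have k := two4 (T := τ (u + (v + w))) z_comm (s_z r i hv hw) (s_z r i hu hw) (q u ▸ Tc_z r0 i hu ρ)
    (q v ▸ Tc_z r0 i hv ρ) (qq_z r0 i hv hu β) (qq_z r0 i hu hw β) (qq_z r0 i hv hw β) (z_tau hu)
    (z_tau hv) (z_tau hw) (z_tau (W.add_mem hu hvw)) (sw r i hv hu) (sw r i hu hw) (sw r i hv hw)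
    (P := τ (v + w)) (Q := τ (u + w))
  rw [q, q, ← map_mul, ← map_mul, ← map_mul, ← eq_mul_inv_iff_mul_eq, ← map_inv] at k
  rw [E, E, sg, sg, sg, sg, sg, sg,
    mix z_comm (TT_z r0 i hv hu) (s_z r i hv hw) (TT_z r0 i hv hw) (s_z r i hv huw),
    mix z_comm (TT_z r0 i hu hv) (s_z r i hu hw) (TT_z r0 i hu hw) (s_z r i hu hvw),
    add_left_comm v u w, k, add_comm v u, mul_assoc (τ (u + v)) (τ v), sw r i hv hu]
  have h1 := congrArg e (x11 h ρ β)
  have h2 := z_comm _ (qq_z r0 i hv hu β) _ (mul_mem (s_z r i hu hw) (s_z r i hu hvw))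
  have key : ∀ a b c S p x y z m k : G, p * S = S * p → p * x * y * z = m * k →
      a * (b * c * p) * (S * x * y) * z = a * b * c * S * m * k := fun a b c S p x y z m k h h' =>
    calc _ = a * b * c * (p * S) * x * y * z := by group
      _ = a * b * c * S * (p * x * y * z) := by rw [h]; group
      _ = _ := by rw [h']; group
  simp only [map_mul] at h1 ⊢
  rw [key _ _ _ _ _ _ _ _ _ _ h2 h1]

theorem E_eq [Base n F] (a : AW e t) (r : R1 e τ β) (tt : Tt e τ t) (q : Sq e τ ρ) (h : P3 u v w)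
    (l : Li3 u v w) : E e τ β u v w = e (Tc (ρ + β) u) := by
  obtain ⟨c, h1⟩ := E_Tc a r tt h l
  obtain ⟨d, h2⟩ := E_Tc a r tt (⟨hf_symm h.uv, h.vw, h.uw⟩ : P3 v u w) fun x y z k => by
    obtain ⟨k1, k2, k3⟩ := l y x z (by rw [← k, add_comm (y • u)])
    exact ⟨k2, k1, k3⟩
  have h3 := E_sw r q h
  rw [h1, h2, ← map_mul, x12 h.uv, x13 h.uv] at h3
  have h4 := (a.uq2 _ _ _ _ _ _ _ _ h.uv (fun x y k => by
    obtain ⟨k1, k2, -⟩ := l x y 0 (by simpa using k)
    exact ⟨k1, k2⟩) (a.inj h3)).1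
  rw [h1, show c = ρ + β by linear_combination -h4 - (ρ + β) * two0 F]

theorem kappa [Base n F] (a : AW e t) (r : R1 e τ β) (tt : Tt e τ t) (q : Sq e τ ρ) (i : TI W)
    (hu : u ∈ W) (hv : v ∈ W) (hw : w ∈ W) (hz : z ∈ W) (l1 : Li3 u v w) (l2 : Li3 u (v + w) z)
    (l3 : Li3 u w z) (l4 : Li3 u v (w + z)) (l5 : Li u (v + z)) : ρ + β = 0 := by
  have hvw := W.add_mem hv hw
  have hwz := W.add_mem hw hz
  have h0 := W.add_mem hvw hz
  have p : ∀ {x y}, x ∈ W → y ∈ W → P3 u x y := fun hx hy => ⟨i _ hu _ hx, i _ hu _ hy, i _ hx _ hy⟩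
  have e1 := E_eq a r tt q (p hv hw) l1
  have e2 := E_eq a r tt q (p hvw hz) l2
  have e3 := E_eq a r tt q (p hw hz) l3
  have e4 := E_eq a r tt q (p hv hwz) l4
  have k := six z_comm (sg_z r i hu hv) (sg_z r i hu hw) (sg_z r i hu hvw) (sg_z r i hu hz)
    (sg_z r i hu h0) (sg_z r i hu hwz)
  rw [E] at e1 e2 e3 e4
  rw [← add_assoc] at e4
  have s : ∀ {x}, x ∈ W → (ρ + β) • x ∈ W := W.smul_mem (ρ + β)
  rw [e1, e2, e3, e4, sg_sq r q i hu hv, sg_sq r q i hu hw, sg_sq r q i hu hvw, sg_sq r q i hu hz,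
    sg_sq r q i hu h0, sg_sq r q i hu hwz] at k
  simp only [← map_mul] at k
  rw [x14, i.qa hu (s hv) (s hw), ← smul_add, i.qa hu (s hvw) (s hvw), v_add_self, qq, EE_zero,
    one_mul, i.qa hu (s hz) (s h0), ← smul_add, i.qa hu (s (W.add_mem hz h0)) (s hwz), ← smul_add,
    show z + (v + w + z) + (w + z) = v + z + (z + z) + (w + w) by abel, v_add_self, v_add_self,
    add_zero, add_zero, ← EE_zero u] at k
  obtain ⟨⟨c, hc⟩, -⟩ := H78.S2.EE_inj' (H78.S2.li_ne l5) (hf_zero_left u)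
    (i _ (s (W.add_mem hv hz)) _ hu) (a.inj k)
  exact (l5 c (ρ + β) (by rw [hc, zero_add, v_add_self])).2

omit hp in
theorem li3_ev {i j k : Fin (n + 1)} (h1 : i ≠ j) (h2 : i ≠ k) (h3 : j ≠ k) :
    Li3 (ev i : Vn n F) (ev j) (ev k) := fun a b c h => by
  have a1 := congrFun h i
  have a2 := congrFun h j
  have a3 := congrFun h k
  simp [ev_apply, h1, h2, h3, h1.symm, h2.symm, h3.symm] at a1 a2 a3
  exact ⟨a1, a2, a3⟩

theorem kappa0 [Base n F] (a : AW e t) (r : R1 e τ β) (tt : Tt e τ t) (q : Sq e τ ρ) :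
    ρ + β = 0 := by
  have h5 := hp.five
  let i : Fin 4 → Fin (n + 1) := fun j => ⟨j, by omega⟩
  have hi : ∀ {j k}, j ≠ k → i j ≠ i k := fun h k => h (Fin.ext (Fin.mk.inj k))
  have pp : ∀ j k : Fin 4, j.val + k.val ≠ n → hf (ev (i j) : Vn n F) (ev (i k)) = 0 :=
    fun j k h => by rw [H54.SPF.hf_evv, if_neg h]
  have l : Li3 (ev (i 0) : Vn n F) (ev (i 1)) (ev (i 2)) :=
    li3_ev (hi (by decide)) (hi (by decide)) (hi (by decide))
  by_cases h : n = 5
  · obtain ⟨W, ti, hu, hv, hw⟩ := exists_ti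
      ⟨pp 0 1 (by simp; omega), pp 0 2 (by simp; omega), pp 1 2 (by simp; omega)⟩
    obtain ⟨c, c0, c1⟩ : ∃ c : F, c ≠ 0 ∧ c ≠ 1 := by
      by_contra k
      push Not at k
      have := Nat.card_le_card_of_surjective (fun b : Bool => if b then (1 : F) else 0) fun c => by
        by_cases c0 : c = 0
        · exact ⟨false, c0.symm⟩
        · exact ⟨true, (k c c0).symm⟩
      have h4 := hp.four h
      simp at this
      omega
    refine kappa a r tt q ti hu hv hw (W.smul_mem c hv) l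
      (by simpa using li3_of l 1 1 c 0 0 0 (by simpa using c0))
      (by simpa using li3_of l 0 1 c 0 0 0 (by simpa using c0))
      (by simpa [add_comm] using li3_of l 1 0 c 1 0 0 (by simp)) fun x y k => ?_
    obtain ⟨k1, k2, -⟩ := l x (y * (1 + c)) 0 (by rw [← k]; module)
    exact ⟨k1, (mul_eq_zero.1 k2).resolve_right fun z => c1 (by linear_combination z - two0 F)⟩
  · have h7 : 7 ≤ n := by obtain ⟨m, hm⟩ := hp.odd; omega
    have ti : TI (Submodule.span F (Set.range fun j => (ev (i j) : Vn n F))) := ti_span (by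
      rintro _ ⟨j, rfl⟩ _ ⟨k, rfl⟩
      exact pp j k (by omega))
    have m : ∀ j, ev (i j) ∈ Submodule.span F (Set.range fun j => (ev (i j) : Vn n F)) :=
      fun j => Submodule.subset_span ⟨j, rfl⟩
    have l4 : ∀ x y z s : F, x • (ev (i 0) : Vn n F) + y • ev (i 1) + z • ev (i 2) + s • ev (i 3) = 0 →
        x = 0 ∧ y = 0 ∧ z = 0 ∧ s = 0 := fun x y z s k => by
      have a0 := congrFun k (i 0)
      have a1 := congrFun k (i 1)
      have a2 := congrFun k (i 2)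
      have a3 := congrFun k (i 3)
      simp [ev_apply, i] at a0 a1 a2 a3
      exact ⟨a0, a1, a2, a3⟩
    refine kappa a r tt q ti (m 0) (m 1) (m 2) (m 3) l (fun x y z k => ?_)
      (li3_ev (hi (by decide)) (hi (by decide)) (hi (by decide))) (fun x y z k => ?_) fun x y k => ?_
    · obtain ⟨k1, k2, -, k3⟩ := l4 x y y z (by rw [← k]; module)
      exact ⟨k1, k2, k3⟩
    · obtain ⟨k1, k2, -, k3⟩ := l4 x y z z (by rw [← k]; module)
      exact ⟨k1, k2, k3⟩
    · obtain ⟨k1, k2, -⟩ := l4 x y 0 y (by rw [← k]; module)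
      exact ⟨k1, k2⟩

theorem jobT2 : JobT2.{u} := by
  intro n F _ _ _ _ _ _ G _ _ e t _ _ a τ β ρ r tt q
  have k := kappa0 a r tt q
  obtain rfl : ρ = β := by linear_combination k - β * two0 F
  refine ⟨r, q, fun u v w h l => ?_⟩
  obtain ⟨W, i, hu, hv, hw⟩ := exists_ti h
  have h1 := E_eq a r tt q h l
  have h2 := sg_sq r q i hu (W.add_mem hv hw)
  rw [k, zero_smul, qq, EE_zero, map_one] at h2
  rw [k, Tc, EE_zero, map_one, E, ← h2] at h1
  exact (mul_right_cancel h1).symm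

end H23.SP3T2
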