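/- STD-R (S3323), job S1: coordinates and the `Z*`-theorem. -/
import Cfsg.Agent.H65.SRAux
import Cfsg.Agent.H54.ParModel
import Cfsg.Agent.H34.BS
import Cfsg.Agent.H42.OddOrder
import Cfsg.Agent.H14.FStar
import Cfsg.Agent.H2.PrimeCore
import Cfsg.Agent.H98.Sylow
import Cfsg.Agent.H56.OutGrp
import Cfsg.Agent.S2128

set_option autoImplicit false
set_option linter.unusedSectionVars false
set_option linter.unusedVariables false

open Subgroup H63.Oc H64.SG H65.SR
open scoped commutatorElement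

universe u v

namespace H23.SRS

section Core
variable {G : Type*} [Group G] [Finite G]

theorem cfs_bot (hs : IsSimpleGroup (Cfsg.generalizedFittingSubgroup G))
    (hna : ¬ IsMulCommutative (Cfsg.generalizedFittingSubgroup G)) :
    centralizer (Cfsg.generalizedFittingSubgroup G : Set G) = ⊥ := by
  have h1 : center (Cfsg.generalizedFittingSubgroup G) = ⊥ :=
    (hs.eq_bot_or_eq_top_of_normal _ inferInstance).resolve_right fun e =>
      hna ⟨⟨fun a b => (mem_center_iff.1 (e.ge (mem_top b)) a)⟩⟩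
  refine eq_bot_iff.2 fun x hx => ?_
  have hx' : x ∈ Cfsg.generalizedFittingSubgroup G := H14.centralizer_fstar_le hx
  have : (⟨x, hx'⟩ : Cfsg.generalizedFittingSubgroup G) ∈ center _ :=
    mem_center_iff.2 fun y => Subtype.ext (mem_centralizer_iff.1 hx y y.2)
  rw [h1, mem_bot] at this
  exact mem_bot.2 (congrArg Subtype.val this)

theorem odd_core_bot (hs : IsSimpleGroup (Cfsg.generalizedFittingSubgroup G))
    (hna : ¬ IsMulCommutative (Cfsg.generalizedFittingSubgroup G)) : Cfsg.oddCore G = ⊥ := by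
  have hF := H14.fstar_normal G
  have hodd : Odd (Nat.card (Cfsg.oddCore G)) :=
    Nat.coprime_two_right.1 (H2.coprime_card_pPrimeCore 2 G)
  rcases hs.eq_bot_or_eq_top_of_normal
    ((Cfsg.oddCore G).subgroupOf (Cfsg.generalizedFittingSubgroup G)) inferInstance with h | h
  · rw [subgroupOf_eq_bot] at h
    refine eq_bot_iff.2 fun x hx => ?_
    rw [← cfs_bot hs hna]
    refine mem_centralizer_iff.2 fun y hy => ?_
    have h1 : ⁅y, x⁆ ∈ Cfsg.oddCore G := by
      have := mul_mem (Subgroup.Normal.conj_mem inferInstance x hx y) (inv_mem hx)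
      simpa only [commutatorElement_def, mul_assoc] using this
    have h2 : ⁅y, x⁆ ∈ Cfsg.generalizedFittingSubgroup G := by
      have := mul_mem hy (hF.conj_mem _ (inv_mem hy) x)
      simpa only [commutatorElement_def, mul_assoc] using this
    exact commutatorElement_eq_one_iff_mul_comm.1 (Subgroup.disjoint_def.1 h h1 h2)
  · exfalso
    rw [subgroupOf_eq_top] at h
    have hsol : Group.IsSolvable (Cfsg.generalizedFittingSubgroup G) :=
      H42.odd_order (hodd.of_dvd_nat (card_dvd_of_le h))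
    exact hna ⟨⟨IsSimpleGroup.comm_iff_isSolvable.2 hsol⟩⟩

theorem zs_of (hs : IsSimpleGroup (Cfsg.generalizedFittingSubgroup G))
    (hna : ¬ IsMulCommutative (Cfsg.generalizedFittingSubgroup G)) {t : G} (ht : Inv2 t) :
    ∃ g, g * t * g⁻¹ ≠ t ∧ g * t * g⁻¹ ∈ Cz t := by
  by_contra h
  push Not at h
  have hi : Cfsg.IsIsolatedInvolution t :=
    ⟨orderOf_eq_prime (by rw [pow_two, ht.1]) ht.2, fun g hc => by
      by_contra hne
      exact h g hne (mem_Cz.2 hc.eq.symm)⟩
  have hc : t ∈ centralizer (Cfsg.generalizedFittingSubgroup G : Set G) :=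
    mem_centralizer_iff.2 fun y _ => by
      have := H34.zstar hi y
      rw [odd_core_bot hs hna, mem_bot] at this
      have e : t * y = y * t := by
        rw [mul_inv_eq_one, mul_inv_eq_iff_eq_mul] at this; exact this
      exact e.symm
  rw [cfs_bot hs hna, mem_bot] at hc
  exact ht.2 hc

/-- a `2`-element normalising `L` with `Out L` of odd order induces an inner automorphism -/
theorem out_of {L : Subgroup G} (ho : Odd (Nat.card (Cfsg.Out L))) {g : G} (hg : g ∈ Ns L)
    (h2 : Is2 g) : ∃ l ∈ L, l⁻¹ * g ∈ Cs L := by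
  obtain ⟨k, hk⟩ := h2
  set α : MulAut L := L.normalizerMonoidHom ⟨g, hg⟩ with hα
  have hk' : α ^ 2 ^ k = 1 := by
    rw [hα, ← map_pow, ← map_one L.normalizerMonoidHom]
    exact congrArg _ (Subtype.ext hk)
  have h1 : (QuotientGroup.mk α : Cfsg.Out L) = 1 := by
    refine eq_one_of_odd ⟨k, by rw [← QuotientGroup.mk_pow, hk', QuotientGroup.mk_one]⟩ ?_
    exact ho.of_dvd_nat (orderOf_dvd_natCard _)
  obtain ⟨l, hl⟩ := (QuotientGroup.eq_one_iff α).1 h1
  refine ⟨l, l.2, mem_Cs.2 fun y hy => ?_⟩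
  have := congrArg Subtype.val (DFunLike.congr_fun hl ⟨y, hy⟩)
  have e : (l : G) * y * (l : G)⁻¹ = g * y * g⁻¹ := this
  calc y * ((l : G)⁻¹ * g) = (l : G)⁻¹ * ((l : G) * y * (l : G)⁻¹) * g := by group
    _ = _ := by rw [e]; group

end Core

theorem jobS1 : JobS1.{u, v} := by
  intro G _ _ hs hna L hL K _ _ _ m hm hK ⟨e⟩ hR
  obtain ⟨T, A₀, hb, h0, hsyl⟩ := H54.Par.jobModel K m hK
  let φ : (⊤ : Subgroup (Cfsg.Lie.twistedF4 K (2 ^ m))) →* G :=
    (L.subtype.comp (e.symm : Cfsg.Lie.twistedF4 K (2 ^ m) →* L)).comp (Subgroup.subtype ⊤)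
  have hφi : Function.Injective φ :=
    (Subtype.val_injective.comp e.symm.injective).comp Subtype.val_injective
  have hφ : ∀ c, φ ⟨A₀.ι c, le_top (a := A₀.G0) (ι_mem A₀ c)⟩ = 1 → c = 1 := fun c hc => by
    have := congrArg Subtype.val ((map_eq_one_iff φ hφi).1 hc)
    exact (map_eq_one_iff _ A₀.inj).1 this
  have hG0 : (mapAD A₀ ⊤ le_top φ hφ).G0 = L := by
    rw [mapAD_G0, h0]
    apply le_antisymm
    · rintro _ ⟨x, -, rfl⟩
      exact (e.symm x).2
    · intro x hx
      exact ⟨⟨e ⟨x, hx⟩, mem_top _⟩, mem_top _, by simp [φ]⟩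
  obtain ⟨⟨t, htK⟩, ht⟩ := exists_prime_orderOf_dvd_card' 2 hL.2.1.1.two_dvd
  have ht' : orderOf t = 2 := by rw [← ht]; exact (Subgroup.orderOf_mk _ _).symm
  have hti : Inv2 t := ⟨by rw [← pow_two, ← ht', pow_orderOf_eq_one], fun h => by simp [h] at ht'⟩
  refine ⟨T, mapAD A₀ ⊤ le_top φ hφ, t, hG0, ⟨?_, mapAD_braid _ _ _ _ _ hb, ?_, m, hm, hK, ?_⟩,
    hti, ?_, ?_, ?_, ?_, zs_of hs hna hti⟩
  · rw [hK]
    calc 8 = 2 ^ 3 := by norm_num
      _ ≤ _ := Nat.pow_le_pow_right (by norm_num) (by omega)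
  · intro P hP h2
    rw [hG0] at hP ⊢
    obtain ⟨g, hg⟩ := hsyl ((P.subgroupOf L).map (e : L →* _)) ((H98.isPGroup_subgroupOf h2 L).map _)
    refine ⟨e.symm g, (e.symm g).2, fun x hx => ?_⟩
    obtain ⟨c, hc⟩ := hg (e ⟨x, hP hx⟩) ⟨⟨x, hP hx⟩, hx, rfl⟩
    refine ⟨c, ?_⟩
    change ((e.symm (A₀.ι c) : L) : G) = _
    rw [hc]
    simp
  · rw [hG0]; exact ⟨e⟩
  · rw [hG0]; exact htK
  · rw [hG0]
    intro g hg
    change g ∈ normalizer (L : Set G)
    rw [hL.2.2.2]
    by_contra hn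
    have ho := hL.2.1.2 g hn
    have hm' : t ∈ centralizer (L : Set G) ⊓ (centralizer (L : Set G)).map (MulAut.conj g).toMonoidHom :=
      ⟨htK, t, htK, by
        change g * t * g⁻¹ = t
        rw [mem_Cz.1 hg]; group⟩
    have := ho.of_dvd_nat (Subgroup.orderOf_dvd_natCard _ hm')
    rw [ht'] at this
    exact absurd this (by decide)
  · rw [hG0]
    intro g hg h2
    refine out_of ?_ hg h2
    rw [Nat.card_congr (H56.outCongr e).toEquiv, Cfsg.Agent.S2128.result hm hK]
    exact odd_two_mul_add_one m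
  · rw [hG0]
    intro R hR' h2
    obtain ⟨S, hS⟩ := (H98.isPGroup_subgroupOf h2 (Cs L)).exists_le_sylow
    have := hR S
    have hc : IsCyclic (R.subgroupOf (Cs L)) := Subgroup.isCyclic_of_le hS
    exact isCyclic_of_surjective _ (subgroupOfEquivOfLe hR').surjective

end H23.SRS
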