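import Cfsg.Agent.H23.ST0a
import Cfsg.Agent.H23.STE8
import Cfsg.Agent.H47.ZSKit3

/-! STD-S (S3095): job O1. -/

set_option autoImplicit false
set_option linter.unusedSectionVars false

namespace H23.ST

open H64.SG Subgroup H25.ST
open H67.SA (cm conj_mem_cjs mem_cjs card_cjs cjs_inv_le)
open H7 (conj_mem_of_mem_normalizer inv_conj_mem_of_mem_normalizer mem_normalizer_of_forall)

universe u

variable {X : Type} [Group X] {G : Type u} [Group G] [Finite G] {e : X →* G} {t : G}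

/-- `u` moves `t` to `t e a`. -/
def Th (e : X →* G) (t u : G) (a : X) : Prop := u * t * u⁻¹ = t * e a

theorem Th.mul {u v : G} {a b : X} (h : Th e t u a) (h' : Th e t v b) (c : e b * u = u * e b) :
    Th e t (u * v) (a * b) := by
  unfold Th at *
  rw [show u * v * t * (u * v)⁻¹ = u * (v * t * v⁻¹) * u⁻¹ by group, h',
    show u * (t * e b) * u⁻¹ = u * t * u⁻¹ * (u * e b * u⁻¹) by group, h, ← c, map_mul]; group

theorem Th.inv {u : G} {a : X} (h : Th e t u a) (c : e a * u = u * e a) : Th e t u⁻¹ a⁻¹ := by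
  unfold Th at *
  rw [map_inv, eq_mul_inv_iff_mul_eq, show u⁻¹ * t * u⁻¹⁻¹ * e a = u⁻¹ * t * (u * e a) by group, ← c,
    mul_assoc u⁻¹, ← mul_assoc t, ← h]; group

theorem th_one {u : G} : Th e t u 1 ↔ u ∈ Cz t := by
  rw [Th, map_one, mul_one, mem_Cz, mul_inv_eq_iff_eq_mul, eq_comm]

theorem Th.conj (hB : B1 e t) {u : G} {a : X} (h : Th e t u a) (m : X) :
    Th e t (e m * u * (e m)⁻¹) (m * a * m⁻¹) := by
  unfold Th at *
  rw [show e m * u * (e m)⁻¹ * t * (e m * u * (e m)⁻¹)⁻¹ =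
    e m * (u * (e m⁻¹ * t * (e m⁻¹)⁻¹) * u⁻¹) * (e m)⁻¹ by rw [map_inv]; group, hB.conj_t, h,
    ← mul_assoc, ← hB.comm, map_mul, map_mul, map_inv]; group

theorem Th.unique (hi : Function.Injective e) {u : G} {a b : X} (h : Th e t u a) (h' : Th e t u b) :
    a = b := hi (mul_left_cancel (h.symm.trans h'))

theorem exists_ind_sub (hi : Function.Injective e) {A : Subgroup X} {g : G} (hg : g ∈ Ns (A.map e)) :
    ∃ γ : MulAut A, ∀ y : A, g * e y * g⁻¹ = e (γ y) :=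
  exists_ind (e := e.comp A.subtype) (hi.comp A.subtype_injective) (by
    rwa [← MonoidHom.map_range, range_subtype])

/-- The action of `u` on `L`. -/
def Ac (e : X →* G) (E L : Subgroup X) (u : G) (φ : E → E) : Prop :=
  ∀ μ ∈ L, ∀ x : E, μ * μ = x → u * e μ * u⁻¹ = e (μ * φ x)

/-- The group `D₁`. -/
def D1 (e : X →* G) (t : G) (O : Subgroup G) {E L : Subgroup X} (h : E ≤ L) : Subgroup G where
  carrier := {u | u ∈ Cs (L.map e) ⊓ Cs O ∧ ∃ a ∈ E, Th e t u a}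
  one_mem' := ⟨one_mem _, 1, one_mem E, th_one.2 (one_mem _)⟩
  mul_mem' := fun ⟨a1, a, a2, a3⟩ ⟨b1, b, b2, b3⟩ =>
    ⟨mul_mem a1 b1, a * b, mul_mem a2 b2, a3.mul b3 (mem_Cs_map.1 a1.1 b (h b2))⟩
  inv_mem' := fun ⟨a1, a, a2, a3⟩ =>
    ⟨inv_mem a1, a⁻¹, inv_mem a2, a3.inv (mem_Cs_map.1 a1.1 a (h a2))⟩

theorem cm_mul_right (a b c : G) : cm a (b * c) = cm a b * (b * cm a c * b⁻¹) := by unfold cm; group

theorem cm_swap (a b : G) : cm b a = (cm a b)⁻¹ := by unfold cm; group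

theorem cm_eq_one {a b : G} : cm a b = 1 ↔ a * b = b * a := by
  unfold cm; rw [mul_inv_eq_one, mul_inv_eq_iff_eq_mul]

theorem conj_cm (g a b : G) : g * cm a b * g⁻¹ = cm (g * a * g⁻¹) (g * b * g⁻¹) := by unfold cm; group

section

variable {z ζ s j₁ j₂ a : X} {E L : Subgroup X} (h : FOd z ζ s j₁ j₂ a E L)
include h

theorem fo_EL : E ≤ L := fun x hx => ((h.om x).1 hx).1

theorem fo_L : Cs E = L := le_antisymm h.ce (h.ab.trans (centralizer_le (fo_EL h)))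

theorem fo_NL [Finite X] : Ns E ≤ Ns L := fo_L h ▸ fun g hg =>
  mem_Ns_iff.2 (by rw [cj_Cs, mem_Ns_iff.1 hg])

theorem fo_four {μ : X} (hμ : μ ∈ L) : μ ^ 2 ^ 2 = 1 := by
  rw [← h.el _ (h.sq μ hμ), sq, pow_mul, sq, sq]

theorem fo_sq (x : E) : x * x = 1 := Subtype.ext (h.el x x.2)

theorem ac_ex (hi : Function.Injective e) {u : G} (h1 : u ∈ Ns (L.map e)) (h2 : u ∈ Cs (E.map e)) :
    ∃ φ : E →* E, Ac e E L u φ := by
  obtain ⟨γ, hγ⟩ := exists_ind_sub hi h1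
  let _ : CommGroup L := { (inferInstance : Group L) with
    mul_comm := fun a b => Subtype.ext (h.ab b.2 a a.2) }
  have fE : ∀ μ : L, (μ : X) ∈ E → γ μ = μ := fun μ hμ => Subtype.ext (hi (by
    rw [← hγ, ← mem_Cs_map.1 h2 _ hμ, mul_inv_cancel_right]))
  have dE : ∀ μ : L, ((μ⁻¹ * γ μ : L) : X) ∈ E := fun μ => (h.om _).2 ⟨(μ⁻¹ * γ μ).2, by
    rw [← coe_mul, mul_mul_mul_comm, ← map_mul, fE _ (h.sq μ μ.2), ← mul_inv, inv_mul_cancel, coe_one]⟩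
  have dd : ∀ μ ν : L, μ * μ = ν * ν → μ⁻¹ * γ μ = ν⁻¹ * γ ν := fun μ ν c => by
    have := fE (μ * ν⁻¹) ((h.om _).2 ⟨(μ * ν⁻¹).2, by
      rw [← coe_mul, mul_mul_mul_comm, c, ← mul_inv, mul_inv_cancel, coe_one]⟩)
    rw [map_mul, map_inv, mul_inv_eq_iff_eq_mul] at this
    rw [this, mul_assoc, inv_mul_cancel_left]
  choose r r1 r2 using fun x : E => h.rt x x.2
  refine ⟨MonoidHom.mk' (fun x => ⟨_, dE ⟨r x, r1 x⟩⟩) fun x y => Subtype.ext ?_, fun μ hμ x hx => ?_⟩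
  · have := dd ⟨r (x * y), r1 _⟩ (⟨r x, r1 x⟩ * ⟨r y, r1 y⟩) (by
      rw [mul_mul_mul_comm]; exact Subtype.ext (by simp [r2]))
    rw [map_mul, mul_inv, mul_mul_mul_comm] at this
    exact congrArg (fun w : L => (w : X)) this
  · have := congrArg Subtype.val (dd ⟨r x, r1 x⟩ ⟨μ, hμ⟩ (Subtype.ext ((r2 x).trans hx.symm)))
    rw [hγ ⟨μ, hμ⟩]
    exact congrArg e (by simp only [MonoidHom.mk'_apply, this]; simp)

theorem ac_unique (hi : Function.Injective e) {u : G} {φ φ' : E → E} (a1 : Ac e E L u φ)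
    (a2 : Ac e E L u φ') (x : E) : φ x = φ' x := by
  obtain ⟨μ, hμ, c⟩ := h.rt x x.2
  exact Subtype.ext (mul_left_cancel (hi ((a1 μ hμ x c).symm.trans (a2 μ hμ x c))))

theorem ac_conj [Finite X] {u : G} {φ : E → E} (a1 : Ac e E L u φ) {m : X} (hm : m ∈ Ns E)
    {ψ : MulAut E} (hψ : ∀ x : E, m * x * m⁻¹ = ψ x) :
    Ac e E L (e m * u * (e m)⁻¹) fun x => ψ (φ (ψ⁻¹ x)) := fun μ hμ x c => by
  have := a1 _ (inv_conj_mem_of_mem_normalizer (fo_NL h hm) hμ) (ψ⁻¹ x) (by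
    rw [show m⁻¹ * μ * m * (m⁻¹ * μ * m) = m⁻¹ * (μ * μ) * m by group, c]
    conv_lhs => rw [← MulAut.apply_inv_self E ψ x, ← hψ]
    group)
  rw [← hψ, show μ * (m * ↑(φ (ψ⁻¹ x)) * m⁻¹) = m * (m⁻¹ * μ * m * ↑(φ (ψ⁻¹ x))) * m⁻¹ by group,
    map_mul e _ m⁻¹, map_mul e m, ← this]
  simp only [map_mul, map_inv]; group

omit h in
theorem ac_mul {u v : G} {φ φ' : E → E} (a1 : Ac e E L u φ) (a2 : Ac e E L v φ')
    (hu : u ∈ Cs (E.map e)) : Ac e E L (u * v) fun x => φ x * φ' x := fun μ hμ x c => by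
  rw [show u * v * e μ * (u * v)⁻¹ = u * (v * e μ * v⁻¹) * u⁻¹ by group, a2 μ hμ x c, map_mul,
    ← mul_assoc, mul_assoc _ _ u⁻¹, mem_Cs_map.1 (inv_mem hu) _ (φ' x).2, ← mul_assoc, a1 μ hμ x c,
    ← map_mul, coe_mul, mul_assoc]

variable (hF : F0 X) (hC : CE e t) {O : Subgroup G} (hA : AB e t O)
include hF hC

theorem ac_cen {c : G} (h1 : c ∈ Cz t) (h2 : c ∈ Cs (E.map e)) :
    Ac e E L c (fun _ => 1) ∨ Ac e E L c fun x => x := by
  have := hF.fin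
  obtain ⟨β, hβ⟩ := hC.ind h1
  have fE := hβ.le_fx hC.inj h2
  have bE : mp β E = E := hβ.mp_eq hC.inj (Cs_le_Ns _ h2)
  obtain ⟨φ, hφ⟩ := ac_ex h hC.inj (hβ.mem_Ns_map (A := L) (by rw [← fo_L h, mp_Cs, bE])) h2
  refine (scalar8 (fo_sq h) h.card (z := ⟨z, h.zE⟩) (fun k => h.zI.ne (congrArg Subtype.val k)) φ
    fun ψ _ => .inl fun v => ?_).imp (fun (k : ∀ v, φ v = 1) μ a x b => k x ▸ hφ μ a x b)
      fun (k : ∀ v, φ v = v) μ a x b => k x ▸ hφ μ a x b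
  obtain ⟨m, hm, hψ⟩ := h.gl ψ
  have l1 : m * (β m)⁻¹ ∈ L := h.ce fun x hx => by
    have k := mem_fx.1 (fE (inv_conj_mem_of_mem_normalizer hm hx))
    rw [map_mul, map_mul, map_inv, mem_fx.1 (fE hx)] at k
    calc x * (m * (β m)⁻¹) = m * (m⁻¹ * x * m) * (β m)⁻¹ := by group
      _ = _ := by rw [← k]; group
  have a1 : Ac e E L (e (m * (β m)⁻¹)) fun _ => 1 := fun μ hμ x _ => by
    rw [← map_mul, ← h.ab l1 μ hμ, map_mul, mul_inv_cancel_right]; simp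
  have a2 := ac_mul a1 hφ (map_mem_Cs (h.ab.trans (centralizer_le (fo_EL h)) l1))
  rw [show e (m * (β m)⁻¹) * c = e m * c * (e m)⁻¹ by rw [map_mul, map_inv, ← hβ]; group] at a2
  simpa using ac_unique h hC.inj (ac_conj h hφ hm hψ) a2 (ψ v)

include hA

theorem ac_z {y : G} (h1 : Th e t y z) (h2 : y ∈ Cs (E.map e)) :
    Ac e E L y (fun _ => 1) ∨ Ac e E L y fun x => x := by
  have := hF.fin
  have n1 : y ∈ Ns (L.map e) := by
    rw [show L.map e = (Py z).map e ⊓ Cs (E.map e) from le_antisymm (le_inf (map_mono h.LP) (by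
      rintro _ ⟨μ, hμ, rfl⟩; exact map_mem_Cs (fo_L h ▸ hμ))) (by
      rintro _ ⟨⟨p, -, rfl⟩, hp⟩
      exact ⟨p, h.ce ((comap_Cs hC.inj E).le hp), rfl⟩), ← hA.pf_Cz hC.toB1]
    exact H16.Nm_inf_le _ _ ⟨Ns_le_Ns_Pf _ (mem_Ns_CC (.inl h1) (by
      rw [← mem_Cs_map.1 h2 z h.zE, mul_inv_cancel_right])), Ns_le_Ns_Cs _ (Cs_le_Ns _ h2)⟩
  obtain ⟨φ, hφ⟩ := ac_ex h hC.inj n1 h2
  refine (scalar8 (fo_sq h) h.card (z := ⟨z, h.zE⟩) (fun k => h.zI.ne (congrArg Subtype.val k)) φ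
    fun ψ hz => ?_).imp (fun (k : ∀ v, φ v = 1) μ a x b => k x ▸ hφ μ a x b)
      fun (k : ∀ v, φ v = v) μ a x b => k x ▸ hφ μ a x b
  obtain ⟨m, hm, hψ⟩ := h.gl ψ
  have y' : e m * y * (e m)⁻¹ ∈ Cs (E.map e) :=
    conj_mem_of_mem_normalizer (Ns_le_Ns_Cs _ (map_mem_Ns hm)) h2
  have t1 := (h1.conj hC.toB1 m).mul (h1.inv (mem_Cs_map.1 h2 z h.zE))
    (mem_Cs_map.1 y' _ (inv_mem h.zE))
  rw [show m * z * m⁻¹ = z from (hψ ⟨z, h.zE⟩).trans (congrArg Subtype.val hz), mul_inv_cancel,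
    th_one] at t1
  have c2 := mul_mem y' (inv_mem h2)
  refine (ac_cen h hF hC t1 c2).imp (fun k v => ?_) fun k v => ?_
  · have a2 := ac_mul k hφ c2
    rw [inv_mul_cancel_right] at a2
    simpa using ac_unique h hC.inj (ac_conj h hφ hm hψ) a2 (ψ v)
  · have a2 := ac_mul k hφ c2
    rw [inv_mul_cancel_right] at a2
    have := ac_unique h hC.inj (ac_conj h hφ hm hψ) a2 (ψ v)
    simp only [MulAut.inv_apply_self] at this
    exact this.trans (Subtype.ext (h.el.comm (ψ v).2 (φ (ψ v)).2))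

theorem cm_cen {y : G} (h1 : Th e t y z) (h2 : y ∈ Cs (E.map e)) {m : X} (hm : m ∈ Ns E) :
    cm y (e m) ∈ Cs (L.map e) := by
  have := hF.fin
  rcases ac_z h hF hC hA h1 h2 with k | k
  · refine cm_mem (mem_Cs_map.2 fun μ hμ => ?_) (Ns_le_Ns_Cs _ (map_mem_Ns (fo_NL h hm)))
    exact (mul_inv_eq_iff_eq_mul.1 (by simpa using k μ hμ ⟨_, h.sq μ hμ⟩ rfl)).symm
  have k1 : ∀ μ ∈ L, y * e μ * y⁻¹ = (e μ)⁻¹ := fun μ hμ => by
    rw [k μ hμ ⟨_, h.sq μ hμ⟩ rfl, ← map_inv]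
    exact congrArg e (eq_inv_of_mul_eq_one_left (by
      rw [← h.el _ (h.sq μ hμ)]; simp only [mul_assoc]))
  refine mem_Cs_map.2 fun μ hμ => ?_
  have k2 := k1 _ (inv_conj_mem_of_mem_normalizer (fo_NL h hm) hμ)
  simp only [map_mul, map_inv] at k2
  have k3 : y⁻¹ * ((e m)⁻¹ * e μ * e m) * y = ((e m)⁻¹ * e μ * e m)⁻¹ := by
    generalize (e m)⁻¹ * e μ * e m = w at k2
    calc y⁻¹ * w * y = y⁻¹ * (y * w * y⁻¹)⁻¹ * y := by rw [k2, inv_inv]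
      _ = w⁻¹ := by group
  rw [eq_comm, ← mul_inv_eq_iff_eq_mul]
  calc _ = y * e m * (y⁻¹ * ((e m)⁻¹ * e μ * e m) * y) * (e m)⁻¹ * y⁻¹ := by unfold cm; group
    _ = (y * e μ * y⁻¹)⁻¹ := by rw [k3]; group
    _ = _ := by rw [k1 μ hμ, inv_inv]

theorem th_NO {u : G} {b : X} (hb : b ∈ E) (h1 : Th e t u b) (h2 : u ∈ Cs (E.map e)) : u ∈ Ns O := by
  have := hF.fin
  refine mem_normalizer_of_forall fun o ho => ?_
  have od : Odd (orderOf (u * o * u⁻¹)) := by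
    rw [show orderOf (u * o * u⁻¹) = orderOf o from (MulAut.conj u).orderOf_eq o]
    exact odd_orderOf_of_mem hA.odd ho
  have c2 : u * o * u⁻¹ ∈ Cs (E.map e) :=
    mul_mem (mul_mem h2 (Cs_range_le E (hA.le ho).1)) (inv_mem h2)
  have c1 : u * o * u⁻¹ ∈ Cz t := mem_Cz.2 (mul_right_cancel (b := e b) (by
    rw [mul_assoc, ← mem_Cs_map.1 c2 b hb, ← mul_assoc, mul_assoc _ t, ← h1, conj_mul, conj_mul,
      mem_Cz.1 (hA.le ho).2]))
  obtain ⟨β, hβ⟩ := hC.ind c1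
  have b1 := hβ.odd hC.inj od
  obtain ⟨v, rfl⟩ := hF.inn_odd b1
  have hv : v ∈ L := h.ce fun x hx => (mem_Cz.1 (fx_conj v ▸ hβ.le_fx hC.inj c2 hx)).symm
  have b2 := (hβ.eq_one_iff hC.inj).1 ((Is2.map ⟨2, fo_four h hv⟩ MulAut.conj).eq_one b1)
  refine (hA.ko _ b2 c1).resolve_right fun k => hC.inv.2 ((is2_of_sq hC.inv.1).eq_one ?_)
  have := odd_orderOf_mul (orderOf_inv (u * o * u⁻¹) ▸ od) (odd_orderOf_of_mem hA.odd k) (by
    rw [inv_mul_cancel_left, ← mem_Cz.1 c1, mul_inv_cancel_right])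
  rwa [inv_mul_cancel_left] at this

theorem exists_y (hM : Mv e t z) : ∃ y ∈ Cs (E.map e), Th e t y z := by
  have := hF.fin
  obtain ⟨g, g1, g2⟩ := hM
  obtain ⟨γ, hγ⟩ := exists_ind_sub (A := Py z) hC.inj (g := g) (by
    rw [← hA.pf_Cz hC.toB1]; exact Ns_le_Ns_Pf _ (mem_Ns_CC (.inl g1) g2))
  obtain ⟨x, hx, h1⟩ := h.h1 γ
  have xz : x * z * x⁻¹ = z := by rw [← mem_Cz.1 (Pf_le _ hx), mul_inv_cancel_right]
  obtain ⟨φ, hφ⟩ := exists_ind_sub (A := E) hC.inj (g := e x * g) (mem_normalizer_of_forall (by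
    rintro _ ⟨y, hy, rfl⟩
    refine ⟨_, h1 ⟨y, h.LP (fo_EL h hy)⟩ hy, ?_⟩
    rw [map_mul, map_mul, map_inv, ← hγ]; group))
  obtain ⟨m, hm, hψ⟩ := h.gl φ
  have mz : m⁻¹ * z * m⁻¹⁻¹ = z := by
    have := hφ ⟨z, h.zE⟩
    rw [← hψ, show e x * g * e z * (e x * g)⁻¹ = e x * (g * e z * g⁻¹) * (e x)⁻¹ by group, g2,
      ← map_inv, ← map_mul, ← map_mul, xz] at this
    conv_lhs => rw [hC.inj this]
    group
  refine ⟨(e m)⁻¹ * (e x * g), mem_Cs_map.2 fun v hv => ?_, ?_⟩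
  · have := hφ ⟨v, hv⟩
    rw [← hψ, mul_inv_eq_iff_eq_mul] at this
    rw [mul_assoc (e m)⁻¹, this]; simp [mul_assoc]
  · have k := (Th.conj hC.toB1 g1 x).conj hC.toB1 m⁻¹
    rw [xz, mz] at k
    unfold Th at k ⊢
    rw [← k]
    calc _ = (e m)⁻¹ * e x * (g * t * g⁻¹) * (e x)⁻¹ * e m := by group
      _ = (e m)⁻¹ * e x * (g * (e (x⁻¹ * m) * t * (e (x⁻¹ * m))⁻¹) * g⁻¹) * (e x)⁻¹ * e m := by
        rw [hC.conj_t]
      _ = _ := by simp only [map_mul, map_inv]; group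

omit hF hA in
theorem D1_conj [Finite X] (hO : O ≤ Cs e.range) {m : X} (hm : m ∈ Ns E) {u : G}
    (hu : u ∈ D1 e t O (fo_EL h)) : e m * u * (e m)⁻¹ ∈ D1 e t O (fo_EL h) := by
  obtain ⟨⟨a1, a2⟩, b, b1, b2⟩ := hu
  have : e m ∈ Cs O := le_centralizer_iff.1 hO ⟨m, rfl⟩
  exact ⟨⟨conj_mem_of_mem_normalizer (Ns_le_Ns_Cs _ (map_mem_Ns (fo_NL h hm))) a1,
    show _ ∈ Cs O from mul_mem (mul_mem this a2) (inv_mem this)⟩, _, conj_mem_of_mem_normalizer hm b1, b2.conj hC.toB1 m⟩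

/-- The group `R`. -/
theorem exists_R : ∃ R ≤ D1 e t O (fo_EL h), IsPGroup 2 R ∧ (∀ u ∈ D1 e t O (fo_EL h), Is2 u → u ∈ R) ∧
    ∀ u ∈ D1 e t O (fo_EL h), ∀ b, Th e t u b → ∃ r ∈ R, Th e t r b := by
  have := Fact.mk Nat.prime_two
  obtain ⟨R, hR⟩ := H7.exists_isSylowIn (p := 2) (D1 e t O (fo_EL h))
  have cO : D1 e t O (fo_EL h) ≤ Cs O := fun u hu => hu.1.2
  have h1 := H47.ZS.le_sup_syl Nat.prime_two hR (cO.trans (Cs_le_Ns O)) fun g hg => by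
    obtain ⟨⟨a1, -⟩, b, b1, b2⟩ := hg
    have c1 := b2.mul b2 (mem_Cs_map.1 a1 b (fo_EL h b1))
    rw [h.el b b1, th_one] at c1
    obtain ⟨β, hβ⟩ := hC.ind c1
    obtain ⟨μ, hμ, rfl⟩ := h.sc β (hβ.le_fx hC.inj (mul_mem a1 a1))
    have k1 := ind_conj_iff.1 hβ
    have k2 : g * g * (e μ)⁻¹ ∈ Cz t := mul_mem c1 (inv_mem (hC.mem_Cz μ))
    have k3 : (g * g * (e μ)⁻¹) ^ 2 ∈ O := (hA.ko _ k1 k2).elim (pow_mem · 2) fun k => by
      have := pow_mem k 2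
      rwa [(show Commute _ t from (mem_Cz.1 k2).symm).mul_pow, sq t, hC.tt, mul_one] at this
    refine ⟨3, ?_⟩
    have := pow_mem k3 2
    rwa [← pow_mul, (show Commute (g * g) (e μ) from (mem_Cs_map.1 (mul_mem a1 a1) μ hμ).symm).inv_right.mul_pow,
      inv_pow, ← map_pow, show μ ^ (2 * 2) = 1 from fo_four h hμ, map_one, inv_one, mul_one, ← sq,
      ← pow_mul] at this
  have h2 : D1 e t O (fo_EL h) ≤ Ns R := h1.trans (sup_le
    ((le_centralizer_iff.1 (hR.le.trans cO)).trans (Cs_le_Ns R)) le_normalizer)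
  refine ⟨R, hR.le, hR.isPGroup, fun u hu u2 => hR.le_of_normalizes u2.zpowers (zpowers_le.2 hu)
    (zpowers_le.2 (h2 hu)) (mem_zpowers u), fun u hu b hb => ?_⟩
  obtain ⟨o, ho, r, hr, rfl⟩ := (H46.mem_sup_of_nrm (hR.le.trans (cO.trans (Cs_le_Ns O)))).1 (h1 hu)
  have := (th_one.2 (inv_mem (hA.le ho).2)).mul hb (mem_Cs_range.1 (inv_mem (hA.le ho).1) b)
  exact ⟨r, hr, by simpa using this⟩

end

theorem jobO1 : JobO1.{u} := by
  intro X _ G _ _ e t hF z ζ s j₁ j₂ a E L h hC O hA hM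
  have := hF.fin
  have hi := hC.inj
  have EL := fo_EL h
  have hO : O ≤ Cs e.range := hA.le.trans inf_le_left
  obtain ⟨y, y1, y2⟩ := exists_y h hF hC hA hM
  obtain ⟨ξ, ξp, ξt⟩ := exists_singer (fo_sq h) h.card
  obtain ⟨x, hx, xξ⟩ := h.gl ξ
  obtain ⟨R, RD, R2, R3, R4⟩ := exists_R h hF hC hA
  have fpf : ∀ v : E, ξ v = v → v = 1 := fun v hv => by
    have := ξp v
    rwa [hv, hv, hv, left_eq_mul] at this
  have cL : ∀ r ∈ R, ∀ μ ∈ L, e μ * r = r * e μ := fun r hr => mem_Cs_map.1 (RD hr).1.1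
  have cE : ∀ r ∈ R, ∀ v : E, e v * r = r * e v := fun r hr v => cL r hr v (EL v.2)
  have nR : ∀ m ∈ Ns E, ∀ r ∈ R, e m * r * (e m)⁻¹ ∈ R := fun m hm r hr =>
    R3 _ (D1_conj h hC hO hm (RD hr)) ((isPGroup_iff_is2.1 R2 r hr).conj _)
  have LR : L.map e ≤ R := by
    rintro _ ⟨μ, hμ, rfl⟩
    exact R3 _ ⟨⟨map_mem_Cs (h.ab hμ), le_centralizer_iff.1 hO ⟨μ, rfl⟩⟩, 1, one_mem E,
      th_one.2 (hC.mem_Cz μ)⟩ (Is2.map ⟨2, fo_four h hμ⟩ e)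
  have tR : t ∈ R := R3 t ⟨⟨Cs_range_le L hC.cen, fun o ho => (mem_Cz.1 (hA.le ho).2).symm⟩, 1,
    one_mem E, th_one.2 (mem_Cz.2 rfl)⟩ (is2_of_sq hC.tt)
  have R1 : ∀ r ∈ R, r ∈ Cz t → r ∈ L.map e ∨ r * t ∈ L.map e := fun r hr c => by
    obtain ⟨β, hβ⟩ := hC.ind c
    obtain ⟨μ, hμ, rfl⟩ := h.sc β (hβ.le_fx hi (RD hr).1.1)
    refine (hA.inn r c (isPGroup_iff_is2.1 R2 r hr) μ hβ).imp (fun k => ⟨μ, hμ, k.symm⟩)
      fun k => ⟨μ, hμ, ?_⟩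
    rw [k, hC.comm, mul_assoc, hC.tt, mul_one]
  have sq2 : sqs R ≤ L.map e := (closure_le _).2 (by
    rintro _ ⟨r, hr, rfl⟩
    obtain ⟨b, b1, b2⟩ := (RD hr).2
    have c1 := b2.mul b2 (cL r hr b (EL b1))
    rw [h.el b b1, th_one] at c1
    refine (R1 _ (mul_mem hr hr) c1).resolve_right fun ⟨μ, hμ, k⟩ => ?_
    have c2 : r ∈ Cz t := mem_Cz.2 (mul_left_cancel (a := r * r) (by
      rw [← mul_assoc, ← k, cL r hr μ hμ, k]; group))
    rcases R1 r hr c2 with ⟨ν, -, k'⟩ | ⟨ν, -, k'⟩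
    · exact hC.t_ne hF ((ν * ν)⁻¹ * μ) (by rw [map_mul, map_inv, map_mul, k, k']; group)
    · refine hC.t_ne hF ((ν * ν)⁻¹ * μ) ?_
      rw [map_mul, map_inv, map_mul, k, k', mul_assoc r t, ← mul_assoc t, mem_Cz.1 c2,
        mul_assoc r t t, hC.tt]; group)
  have cmE : ∀ p ∈ R, ∀ q ∈ R, ∃ v : E, cm p q = e v := fun p hp q hq => by
    obtain ⟨μ, hμ, k⟩ := sq2 (cm_mem_sqs hp hq)
    obtain ⟨ν, hν, k'⟩ := sq2 (sq_mem_sqs hq)
    refine ⟨⟨μ, (h.om μ).2 ⟨hμ, hi ?_⟩⟩, k.symm⟩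
    have := cm_mul_right p q q
    rw [← k', cm_eq_one.2 (cL p hp ν hν).symm, ← k, ← cL q hq μ hμ, mul_inv_cancel_right] at this
    rw [map_mul, ← this, map_one]
  -- the generator
  obtain ⟨u, uR, b, b1, ub, l, hl, u3⟩ : ∃ u ∈ R, ∃ b : E, b ≠ 1 ∧ Th e t u b ∧ ∃ l ∈ L,
      e x * (e x * (e x * u * (e x)⁻¹) * (e x)⁻¹) * (e x)⁻¹ = e l * (u * (e x * u * (e x)⁻¹)) := by
    have z1 : ξ ⟨z, h.zE⟩ ≠ ⟨z, h.zE⟩ := fun k => h.zI.ne (congrArg Subtype.val (fpf _ k))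
    have t1 := y2.mul ((y2.inv (mem_Cs_map.1 y1 z h.zE)).conj hC.toB1 x) (mem_Cs_map.1 y1 _
      (conj_mem_of_mem_normalizer hx (inv_mem h.zE)))
    rw [show y * (e x * y⁻¹ * (e x)⁻¹) = cm y (e x) by unfold cm; group] at t1
    obtain ⟨r, hr, t2⟩ := R4 _ ⟨⟨cm_cen h hF hC hA y2 y1 hx, cm_mem' (le_centralizer_iff.1 hO ⟨x, rfl⟩)
      (Ns_le_Ns_Cs _ (th_NO h hF hC hA h.zE y2 y1))⟩, _, mul_mem h.zE
        (conj_mem_of_mem_normalizer hx (inv_mem h.zE)), t1⟩ _ t1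
    obtain ⟨b, b1, t3⟩ : ∃ b : E, b ≠ 1 ∧ Th e t r b :=
      ⟨⟨z, h.zE⟩ * (ξ ⟨z, h.zE⟩)⁻¹, fun k => z1 (mul_inv_eq_one.1 k).symm, by
        rw [coe_mul, coe_inv, ← xξ, conj_inv]; exact t2⟩
    have s1 := t3.conj hC.toB1 x
    rw [xξ] at s1
    have s2 := s1.conj hC.toB1 x
    rw [xξ] at s2
    have s3 := s2.conj hC.toB1 x
    rw [xξ, ξp] at s3
    have r1 := nR x hx r hr
    have r3 := nR x hx _ (nR x hx _ r1)
    have s4 := s3.mul ((t3.mul s1 (cE r hr _)).inv (cL _ (mul_mem hr r1) _ (EL (mul_mem b.2 (ξ b).2))))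
      (cL _ r3 _ (EL (inv_mem (mul_mem b.2 (ξ b).2))))
    rw [coe_mul, h.el.comm (ξ b).2 b.2, mul_inv_cancel, th_one] at s4
    rcases R1 _ (mul_mem r3 (inv_mem (mul_mem hr r1))) s4 with ⟨μ, hμ, k⟩ | ⟨μ, hμ, k⟩
    · exact ⟨r, hr, b, b1, t3, μ, hμ, by rw [k]; group⟩
    refine ⟨t * r, mul_mem tR hr, b, b1, by
      simpa using (th_one.2 (mem_Cz.2 (rfl : t * t = _))).mul t3 (hC.comm _).symm,
      μ * (b : X)⁻¹, mul_mem hμ (inv_mem (EL b.2)), ?_⟩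
    have ct : ∀ w, e x * (t * w) * (e x)⁻¹ = t * (e x * w * (e x)⁻¹) := fun w => by
      rw [← mul_assoc, ← hC.comm]; group
    rw [ct, ct, ct, show t * r * (t * (e x * r * (e x)⁻¹)) =
      t * (r * t * r⁻¹) * (r * (e x * r * (e x)⁻¹)) by group, t3, ← mul_assoc t t, hC.tt, one_mul,
      map_mul, map_inv, mul_assoc (e μ), inv_mul_cancel_left, ← hC.conj_eq μ, k, hC.inv_eq,
      mul_assoc t _ t, mul_assoc _ t t, hC.tt]
    group
  have ub1 := ub.conj hC.toB1 x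
  set u1 := e x * u * (e x)⁻¹ with hu1
  set u2 := e x * u1 * (e x)⁻¹ with hu2
  have r1 : u1 ∈ R := nR x hx u uR
  have r2 : u2 ∈ R := nR x hx u1 r1
  have cl : ∀ p ∈ R, cm p (e l * (u * u1)) = cm p u * cm p u1 := fun p hp => by
    obtain ⟨v, hv⟩ := cmE p hp u uR
    obtain ⟨w, hw⟩ := cmE p hp u1 r1
    rw [cm_mul_right, cm_eq_one.2 (cL p hp l hl).symm, one_mul, cm_mul_right, hv, hw, ← cE u uR,
      mul_inv_cancel_right, ← map_mul, ← map_inv, ← map_mul, ← map_mul, ← coe_mul,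
      ← h.ab hl _ (EL (v * w).2), mul_inv_cancel_right]
  have eξ : ∀ v : E, e x * e v * (e x)⁻¹ = e (ξ v) := fun v => by
    rw [← xξ, map_mul, map_mul, map_inv]
  obtain ⟨β, hβ⟩ := cmE u uR u1 r1
  obtain ⟨γ, hγ⟩ := cmE u uR u2 r2
  have c12 : cm u1 u2 = e (ξ β) := by rw [← eξ, ← hβ, conj_cm]
  have d1 : ξ γ = β⁻¹ := Subtype.ext (hi (by
    rw [← eξ, ← hγ, conj_cm, u3, cl _ r1, cm_eq_one.2 rfl, mul_one, cm_swap, hβ, coe_inv, map_inv]))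
  have d2 : ξ (ξ β) = γ⁻¹ * (ξ β)⁻¹ := Subtype.ext (hi (by
    rw [← eξ, ← c12, conj_cm, u3, cl _ r2, cm_swap u, cm_swap u1, hγ, c12]; simp))
  have d3 : β = 1 := by
    have k := congrArg ξ d2
    rw [ξp, map_mul, map_inv, d1, inv_inv, map_inv, inv_eq_of_mul_eq_one_right (fo_sq h _),
      show ξ β * β = β * ξ β from Subtype.ext (h.el.comm (ξ β).2 β.2), mul_right_inj] at k
    exact fpf β (ξ.injective k).symm
  have d4 : γ = 1 := ξ.injective (by rw [d1, d3, map_one, inv_one])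
  rw [d3, map_one] at c12
  rw [d3] at hβ
  rw [d4] at hγ
  rw [coe_one, map_one, cm_eq_one] at c12 hβ hγ
  set P := L.map e ⊔ zpowers u ⊔ zpowers u1 ⊔ zpowers u2 with hP
  have PR : P ≤ R := sup_le (sup_le (sup_le LR (zpowers_le.2 uR)) (zpowers_le.2 r1)) (zpowers_le.2 r2)
  have LP : L.map e ≤ P := le_sup_of_le_left (le_sup_of_le_left le_sup_left)
  have m0 : u ∈ P := mem_sup_left (mem_sup_left (mem_sup_right (mem_zpowers u)))
  have m1 : u1 ∈ P := mem_sup_left (mem_sup_right (mem_zpowers u1))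
  have m2 : u2 ∈ P := mem_sup_right (mem_zpowers u2)
  have ab : P ≤ Cs P := by
    have k : ∀ g ∈ R, g * u = u * g → g * u1 = u1 * g → g * u2 = u2 * g → g ∈ Cs P :=
      fun g hg a0 a1 a2 => H47.ZS.le_c1_iff.1 (sup_le (sup_le (sup_le (H47.ZS.le_c1_iff.2 (RD hg).1.1)
        (zpowers_le.2 (mem_Cz.2 a0))) (zpowers_le.2 (mem_Cz.2 a1))) (zpowers_le.2 (mem_Cz.2 a2)))
    refine sup_le (sup_le (sup_le ?_ (zpowers_le.2 (k u uR rfl hβ hγ)))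
      (zpowers_le.2 (k u1 r1 hβ.symm rfl c12))) (zpowers_le.2 (k u2 r2 hγ.symm c12.symm rfl))
    rintro _ ⟨μ, hμ, rfl⟩
    exact k _ (LR ⟨μ, hμ, rfl⟩) (cL u uR μ hμ) (cL u1 r1 μ hμ) (cL u2 r2 μ hμ)
  have xP : ∀ p ∈ P, e x * p * (e x)⁻¹ ∈ P := by
    have : P ≤ P.comap (MulAut.conj (e x)).toMonoidHom := sup_le (sup_le (sup_le
      (fun g hg => LP (conj_mem_of_mem_normalizer (map_mem_Ns (fo_NL h hx)) hg)) (zpowers_le.2 m1))
      (zpowers_le.2 m2)) (zpowers_le.2 (by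
        show e x * u2 * (e x)⁻¹ ∈ P
        rw [u3]; exact mul_mem (LP ⟨l, hl, rfl⟩) (mul_mem m0 m1)))
    exact fun p hp => this hp
  have on : ∀ a ∈ E, ∃ p ∈ P, Th e t p a := fun a ha => by
    by_cases a1 : a = 1
    · exact ⟨1, one_mem P, a1 ▸ th_one.2 (one_mem _)⟩
    obtain ⟨n, hn⟩ := ξt b ⟨a, ha⟩ b1 fun k => a1 (congrArg Subtype.val k)
    rw [show a = (ξ ^ n) b from congrArg Subtype.val hn.symm]
    clear hn
    induction n with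
    | zero => exact ⟨u, m0, ub⟩
    | succ n ih =>
      obtain ⟨p, hp, k⟩ := ih
      exact ⟨_, xP p hp, by rw [pow_succ', MulAut.mul_apply, ← xξ]; exact k.conj hC.toB1 x⟩
  have rP : ∀ r ∈ R, r ∈ P ∨ r * t ∈ P := fun r hr => by
    obtain ⟨c, c1, c2⟩ := (RD hr).2
    obtain ⟨p, hp, k⟩ := on c c1
    have k1 := (k.inv (cL p (PR hp) c (EL c1))).mul c2 (cL _ (inv_mem (PR hp)) c (EL c1))
    rw [inv_mul_cancel, th_one] at k1
    exact (R1 _ (mul_mem (inv_mem (PR hp)) hr) k1).imp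
      (fun k => by simpa using mul_mem hp (LP k)) fun k => by simpa [mul_assoc] using mul_mem hp (LP k)
  refine ⟨P, ab, R2.to_le PR, LP, fun p hp => (RD (PR hp)).1.2, fun p hp => (RD (PR hp)).2, on,
    fun p hp => (R1 p (PR hp.1) hp.2).resolve_right fun k => b1 ?_, ?_⟩
  · have := (mul_mem_cancel_left (mem_inf.1 hp).1).1 (LP k)
    exact Subtype.ext (ub.unique hi (th_one.2 (mem_Cz.2 (ab m0 t this))))
  rintro _ ⟨m, hm, rfl⟩
  refine mem_normalizer_of_forall fun p hp => ?_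
  by_contra c0
  have cj : ∀ q ∈ P, e m * q * (e m)⁻¹ * (e m * p * (e m)⁻¹) =
      e m * p * (e m)⁻¹ * (e m * q * (e m)⁻¹) := fun q hq => by rw [conj_mul, conj_mul, ab hp q hq]
  have p1 := (rP _ (nR m hm p (PR hp))).resolve_left c0
  have key : ∀ q ∈ P, e m * q * (e m)⁻¹ ∈ P → e m * q * (e m)⁻¹ ∈ Cz t := fun q hq k =>
    mem_Cz.2 (mul_left_cancel (a := e m * p * (e m)⁻¹) (by
      rw [← mul_assoc, ab k _ p1, ← mul_assoc, cj q hq, mul_assoc]))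
  obtain ⟨c, c1, c2⟩ := (RD (nR m hm p (PR hp))).2
  have : (E : Set X) ⊆ {1, c} := fun a ha => by
    obtain ⟨q, hq, k⟩ := on _ (inv_conj_mem_of_mem_normalizer hm ha)
    have k1 := k.conj hC.toB1 m
    rw [show m * (m⁻¹ * a * m) * m⁻¹ = a by group] at k1
    rcases rP _ (nR m hm q (PR hq)) with k2 | k2
    · exact .inl (k1.unique hi (th_one.2 (key q hq k2)))
    · have k3 := (th_one (e := e)).2 (key _ (mul_mem hq (inv_mem hp)) (by
        convert mul_mem k2 (inv_mem p1) using 1; group))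
      have k4 := k3.mul c2 (cL _ (nR m hm _ (PR (mul_mem hq (inv_mem hp)))) c (EL c1))
      rw [conj_mul, inv_mul_cancel_right, one_mul] at k4
      exact .inr (k1.unique hi k4)
  have k := (Set.ncard_le_ncard this).trans ((Set.ncard_insert_le 1 {c}).trans (by simp : _ ≤ 2))
  rw [show (E : Set X).ncard = 8 from h.card] at k
  omega

end H23.ST
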