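/- Sylow 2-subgroups of symmetric and alternating groups through their matching. -/
import Cfsg.Agent.S4349
import Cfsg.Agent.H2.MinNormal

set_option autoImplicit false
open Subgroup Equiv Equiv.Perm

namespace H23.SA
variable {n : ℕ}

/-- a Sylow 2-subgroup with its matching -/
structure St (T : Subgroup (Perm (Fin n))) (τ : Perm (Fin n)) : Prop where
  pg : IsPGroup 2 T
  max : ∀ R : Subgroup (Perm (Fin n)), IsPGroup 2 R → T ≤ R → R = T
  odd : ¬ 2 ∣ T.index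
  inv : ∀ i, τ (τ i) = i
  one : ∀ i j, τ i = i → τ j = j → i = j
  fl : ∀ g : Perm (Fin n), (∀ i, g i = i ∨ g i = τ i) → g ∈ T
  comm : ∀ g ∈ T, ∀ i, g (τ i) = τ (g i)

theorem exists_St (P : Sylow 2 (Perm (Fin n))) : ∃ τ, St (P : Subgroup (Perm (Fin n))) τ := by
  obtain ⟨τ, h1, h2, -, h3⟩ := H30.SM.exists_tau P
  have m : ∀ i, swap i (τ i) ∈ (P : Subgroup (Perm (Fin n))) := fun i => h3 _ (H30.SM.swap_mem h1 i)
  have c : ∀ g ∈ (P : Subgroup (Perm (Fin n))), ∀ i,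
      swap (g i) (g (τ i)) ∈ (P : Subgroup (Perm (Fin n))) :=
    fun g hg i => by rw [swap_apply_apply]; exact mul_mem (mul_mem hg (m i)) (inv_mem hg)
  have k : ∀ g ∈ (P : Subgroup (Perm (Fin n))), ∀ i, τ i ≠ i → τ (g i) ≠ g i := fun g hg i hi e => by
    have n1 : g (τ i) ≠ g i := g.injective.ne hi
    have n2 : τ (g (τ i)) ≠ g (τ i) := fun e' => n1 (h2 _ _ e' e)
    have := Cfsg.Agent.S4349.no_tri P.2 (swap_comm (g i) _ ▸ c g hg i) (m (g (τ i))) n1 n2.symm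
    exact n1 (by rw [← h1 (g (τ i)), ← this, e])
  refine ⟨τ, P.2, fun R a b => P.is_maximal' a b, P.not_dvd_index, h1, h2, h3, fun g hg i => ?_⟩
  by_cases hi : τ i = i
  · rw [hi]
    by_contra e
    exact k _ (inv_mem hg) (g i) (Ne.symm e) (by simpa using hi)
  · exact Cfsg.Agent.S4349.no_tri P.2 (c g hg i) (m (g i)) (g.injective.ne (Ne.symm hi))
      (k g hg i hi).symm

/-- same orbit -/
def Orb (T : Subgroup (Perm (Fin n))) (i j : Fin n) : Prop := ∃ g ∈ T, g i = j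

section Orb
variable {T : Subgroup (Perm (Fin n))} {i j k : Fin n}
theorem Orb.refl (i : Fin n) : Orb T i i := ⟨1, one_mem _, rfl⟩
theorem Orb.symm (h : Orb T i j) : Orb T j i := by
  obtain ⟨g, hg, rfl⟩ := h; exact ⟨g⁻¹, inv_mem hg, by simp⟩
theorem Orb.trans (h : Orb T i j) (h' : Orb T j k) : Orb T i k := by
  obtain ⟨g, hg, rfl⟩ := h; obtain ⟨g', hg', rfl⟩ := h'; exact ⟨g' * g, mul_mem hg' hg, rfl⟩
theorem Orb.app (h : Orb T i j) {g : Perm (Fin n)} (hg : g ∈ T) : Orb T i (g j) :=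
  h.trans ⟨g, hg, rfl⟩
end Orb

theorem swap_odd {a b : Fin n} (h : b ≠ a) : swap a b ∉ alternatingGroup (Fin n) := by
  rw [mem_alternatingGroup, sign_swap h.symm]; decide

theorem mul_odd {g h : Perm (Fin n)} (hg : g ∉ alternatingGroup (Fin n))
    (hh : h ∉ alternatingGroup (Fin n)) : g * h ∈ alternatingGroup (Fin n) := by
  rw [mem_alternatingGroup] at *
  rw [Perm.sign_mul, (Int.units_eq_one_or _).resolve_left hg, (Int.units_eq_one_or _).resolve_left hh]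
  decide

variable {T : Subgroup (Perm (Fin n))} {τ : Perm (Fin n)} (h : St T τ)
include h

namespace St

theorem t_mem (i : Fin n) : swap i (τ i) ∈ T := h.fl _ (H30.SM.swap_mem h.inv i)

theorem tau_mem : τ ∈ T := h.fl _ fun _ => Or.inr rfl

theorem orb_tau (i : Fin n) : Orb T i (τ i) := ⟨τ, h.tau_mem, rfl⟩

theorem conj_t {g : Perm (Fin n)} (hg : g ∈ T) (i : Fin n) :
    g * swap i (τ i) * g⁻¹ = swap (g i) (τ (g i)) := by
  rw [← swap_apply_apply, h.comm g hg]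

theorem t_tau (i : Fin n) : swap (τ i) (τ (τ i)) = swap i (τ i) := by rw [h.inv, swap_comm]

theorem t_pair {i j : Fin n} (e : j = i ∨ j = τ i) : swap j (τ j) = swap i (τ i) := by
  rcases e with rfl | rfl
  exacts [rfl, h.t_tau i]

theorem t_out {i x : Fin n} (hx : ¬ Orb T i x) : swap i (τ i) x = x :=
  swap_apply_of_ne_of_ne (fun e => hx (e ▸ Orb.refl _)) (fun e => hx (e ▸ h.orb_tau _))

theorem nf {g : Perm (Fin n)} (hg : g ∈ T) {i : Fin n} (hi : τ i ≠ i) : τ (g i) ≠ g i := by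
  rw [← h.comm g hg]; exact g.injective.ne hi

theorem fix {g : Perm (Fin n)} (hg : g ∈ T) {i : Fin n} (hi : τ i = i) : g i = i :=
  h.one _ _ (by rw [← h.comm g hg, hi]) hi

theorem tt_mem {i j : Fin n} (hi : τ i ≠ i) (hj : τ j ≠ j) :
    swap i (τ i) * swap j (τ j) ∈ T ⊓ alternatingGroup (Fin n) :=
  ⟨mul_mem (h.t_mem i) (h.t_mem j), mul_odd (swap_odd hi) (swap_odd hj)⟩

theorem restr {X : Set (Fin n)} (hX : ∀ g ∈ T, ∀ x ∈ X, g x ∈ X) {g : Perm (Fin n)} (hg : g ∈ T) :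
    ∃ r ∈ T, (∀ x ∈ X, r x = g x) ∧ ∀ x ∉ X, r x = x := by
  classical
  have hX' : ∀ g ∈ T, ∀ x, g x ∈ X ↔ x ∈ X := fun g hg x =>
    ⟨fun e => by simpa using hX _ (inv_mem hg) _ e, hX g hg x⟩
  let D : Set (Fin n) → Subgroup (Perm (Fin n)) := fun Y =>
    if hY : ∀ g ∈ T, ∀ x ∈ Y, g x ∈ Y then
    { carrier := {r | ∃ g ∈ T, ∀ x ∈ Y, r x = g x}
      one_mem' := ⟨1, one_mem _, fun _ _ => rfl⟩
      mul_mem' := by
        rintro a b ⟨g, hg, ha⟩ ⟨g', hg', hb⟩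
        exact ⟨g * g', mul_mem hg hg', fun x hx => by
          rw [Perm.mul_apply, Perm.mul_apply, hb x hx, ha _ (hY _ hg' x hx)]⟩
      inv_mem' := by
        rintro a ⟨g, hg, ha⟩
        exact ⟨g⁻¹, inv_mem hg, fun x hx => by
          rw [Perm.inv_eq_iff_eq, ha _ (hY _ (inv_mem hg) x hx)]; simp⟩ } else ⊥
  have hc : ∀ g ∈ T, ∀ x ∈ Xᶜ, g x ∈ Xᶜ := fun g hg x hx e => hx ((hX' g hg x).1 e)
  have mD : ∀ Y (hY : ∀ g ∈ T, ∀ x ∈ Y, g x ∈ Y) r, r ∈ D Y ↔ ∃ g ∈ T, ∀ x ∈ Y, r x = g x :=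
    fun Y hY r => by simp only [D, dif_pos hY]; rfl
  have pw : ∀ Y (hY : ∀ g ∈ T, ∀ x ∈ Y, g x ∈ Y) r, r ∈ D Y → ∃ k : ℕ, ∀ l, ∀ x ∈ Y,
      (r ^ 2 ^ (k + l)) x = x := by
    intro Y hY r hr
    obtain ⟨g, hg, e⟩ := (mD Y hY r).1 hr
    obtain ⟨k, hk⟩ := h.pg ⟨g, hg⟩
    have hk' : g ^ 2 ^ k = 1 := congrArg Subtype.val hk
    have : ∀ m : ℕ, ∀ x ∈ Y, (r ^ m) x = (g ^ m) x := by
      intro m
      induction m with
      | zero => intro x _; rfl
      | succ m ih =>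
        intro x hx
        rw [pow_succ, pow_succ, Perm.mul_apply, Perm.mul_apply, e x hx, ih _ (hY g hg x hx)]
    exact ⟨k, fun l x hx => by rw [this _ x hx, pow_add, pow_mul, hk', one_pow]; rfl⟩
  have hR := h.max (D X ⊓ D Xᶜ) (fun r => by
    obtain ⟨k, hk⟩ := pw X hX r r.2.1
    obtain ⟨l, hl⟩ := pw Xᶜ hc r r.2.2
    refine ⟨k + l, Subtype.ext (Equiv.ext fun x => ?_)⟩
    by_cases hx : x ∈ X
    · exact hk l x hx
    · have := hl k x hx
      rwa [add_comm] at this)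
    (fun g hg => ⟨(mD X hX g).2 ⟨g, hg, fun _ _ => rfl⟩, (mD _ hc g).2 ⟨g, hg, fun _ _ => rfl⟩⟩)
  have e1 : ∀ x ∈ X, ofSubtype (g.subtypePerm (p := (· ∈ X)) (hX' g hg)) x = g x := fun x hx => by
    rw [ofSubtype_apply_of_mem _ hx]; rfl
  have e2 : ∀ x ∉ X, ofSubtype (g.subtypePerm (p := (· ∈ X)) (hX' g hg)) x = x := fun x hx =>
    ofSubtype_apply_of_not_mem _ hx
  exact ⟨_, hR ▸ ⟨(mD X hX _).2 ⟨g, hg, e1⟩, (mD _ hc _).2 ⟨1, one_mem _, e2⟩⟩, e1, e2⟩

theorem orb0 {i j : Fin n} (hi : τ i ≠ i) (ho : Orb T i j) :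
    ∃ g ∈ T ⊓ alternatingGroup (Fin n), g i = j ∨ g i = τ j := by
  obtain ⟨g, hg, rfl⟩ := ho
  by_cases e : g ∈ alternatingGroup (Fin n)
  · exact ⟨g, ⟨hg, e⟩, Or.inl rfl⟩
  · exact ⟨swap (g i) (τ (g i)) * g, ⟨mul_mem (h.t_mem _) hg, mul_odd (swap_odd (h.nf hg hi)) e⟩,
      Or.inr (by simp)⟩

theorem ex_nf (l : List (Fin n)) (hl : l.length + 1 < n) : ∃ x, τ x ≠ x ∧ x ∉ l := by
  by_cases e : ∃ f, τ f = f
  · obtain ⟨f, hf⟩ := e
    obtain ⟨x, hx⟩ := H30.SM.exists_not_mem_list (f :: l) hl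
    rw [List.mem_cons, not_or] at hx
    exact ⟨x, fun e => hx.1 (h.one _ _ e hf), hx.2⟩
  · obtain ⟨x, hx⟩ := H30.SM.exists_not_mem_list l (by omega)
    exact ⟨x, fun e' => e ⟨x, e'⟩, hx⟩

theorem fix_of_pair {c : Perm (Fin n)} (hc : ∀ i, c i = i ∨ c i = τ i) {j y : Fin n}
    (e : y = j ∨ y = τ j) (hy : c y = y) : c j = j := by
  rcases e with rfl | rfl
  · exact hy
  · rcases hc j with e | e
    · exact e
    · have := c.injective (hy.trans e.symm)
      rw [e, this]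

theorem cent (h6 : 6 ≤ n) {c : Perm (Fin n)}
    (hc : ∀ g ∈ T ⊓ alternatingGroup (Fin n), c * g = g * c) :
    (∀ i, c i = i ∨ c i = τ i) ∧ ∀ i j, Orb T i j → c i = i → c j = j := by
  have app : ∀ g ∈ T ⊓ alternatingGroup (Fin n), ∀ x, c (g x) = g (c x) := fun g hg x =>
    congrArg (fun s : Perm (Fin n) => s x) (hc g hg)
  have k1 : ∀ i j, τ i ≠ i → τ j ≠ j → j ≠ i → j ≠ τ i →
      c i = i ∨ c i = τ i ∨ c i = j ∨ c i = τ j := by
    intro i j hi hj a b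
    by_contra hne
    push Not at hne
    have e := app _ (h.tt_mem hi hj) i
    have b' : i ≠ τ j := fun e => b (by rw [e, h.inv])
    rw [Perm.mul_apply, Perm.mul_apply, swap_apply_of_ne_of_ne a.symm b', swap_apply_left,
      swap_apply_of_ne_of_ne hne.2.2.1 hne.2.2.2, swap_apply_of_ne_of_ne hne.1 hne.2.1] at e
    exact hi (c.injective e)
  have k2 : ∀ i, τ i ≠ i → c i = i ∨ c i = τ i := by
    intro i hi
    obtain ⟨j, hj, a⟩ := h.ex_nf [i, τ i] (by simp; omega)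
    obtain ⟨k, hk, b⟩ := h.ex_nf [i, τ i, j, τ j] (by simp; omega)
    simp only [List.mem_cons, List.not_mem_nil, or_false, not_or] at a b
    have b' : j ≠ τ k := fun e => b.2.2.2 (by rw [e, h.inv])
    have b'' : τ j ≠ τ k := τ.injective.ne (Ne.symm b.2.2.1)
    rcases k1 i j hi hj a.1 a.2 with e | e | e | e
    · exact Or.inl e
    · exact Or.inr e
    all_goals
      rcases k1 i k hi hk b.1 b.2.1 with e' | e' | e' | e'
      · exact Or.inl e'
      · exact Or.inr e'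
      · first | exact absurd (e'.symm.trans e) b.2.2.1 | exact absurd (e'.symm.trans e) b.2.2.2
      · first | exact absurd (e.symm.trans e') b' | exact absurd (e.symm.trans e') b''
  have k3 : ∀ i, c i = i ∨ c i = τ i := by
    intro i
    by_cases hi : τ i = i
    · left
      by_contra e
      have hy : τ (c i) ≠ c i := fun e' => e (h.one _ _ e' hi)
      have hy' : τ (τ (c i)) ≠ τ (c i) := by rw [h.inv]; exact hy.symm
      rcases k2 _ hy with a | a
      · exact e (c.injective a)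
      · rcases k2 _ hy' with b | b
        · exact hy (c.injective (b.trans a.symm))
        · rw [h.inv] at b
          have := c.injective b
          exact hy' (by rw [this, hi])
    · exact k2 i hi
  refine ⟨k3, fun i j ho e => ?_⟩
  by_cases hi : τ i = i
  · obtain ⟨g, hg, rfl⟩ := ho
    rw [h.fix hg hi, e]
  · obtain ⟨g, hg, e'⟩ := h.orb0 hi ho
    exact h.fix_of_pair k3 e' (by rw [app g hg, e])

theorem exists_central {N : Subgroup (Perm (Fin n))} (hN : N ≤ T ⊓ alternatingGroup (Fin n))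
    (hn : ∀ g ∈ T ⊓ alternatingGroup (Fin n), ∀ x ∈ N, g * x * g⁻¹ ∈ N) (hne : N ≠ ⊥) :
    ∃ z ∈ N, z ≠ 1 ∧ ∀ g ∈ T ⊓ alternatingGroup (Fin n), z * g = g * z := by
  have : Group.IsNilpotent (T ⊓ alternatingGroup (Fin n) : Subgroup _) :=
    (h.pg.to_le inf_le_left).isNilpotent
  have : (N.subgroupOf (T ⊓ alternatingGroup (Fin n))).Normal := ⟨fun x hx g => hn g g.2 x hx⟩
  obtain ⟨z, hz, hz1⟩ := (Subgroup.ne_bot_iff_exists_ne_one.1
    (H2.inf_center_ne_bot_of_isNilpotent (N.subgroupOf (T ⊓ alternatingGroup (Fin n))) (by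
      rwa [Ne, subgroupOf_eq_bot, disjoint_iff, inf_eq_left.2 hN]))) |>.imp
      fun z hz => (⟨z.2, hz⟩ : _ ∧ _)
  refine ⟨z.1, hz.1, fun e => hz1 (Subtype.ext (Subtype.ext e)), fun g hg => ?_⟩
  exact (congrArg Subtype.val (mem_center_iff.1 hz.2 ⟨g, hg⟩)).symm

theorem tau_orb (h6 : 6 ≤ n) {N : Subgroup (Perm (Fin n))} (hN : N ≤ T ⊓ alternatingGroup (Fin n))
    (hn : ∀ g ∈ T ⊓ alternatingGroup (Fin n), ∀ x ∈ N, g * x * g⁻¹ ∈ N) {i j : Fin n}
    (hi : τ i ≠ i) (ho : Orb T i j) (a : j ≠ i) (b : j ≠ τ i)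
    (hm : swap i (τ i) * swap j (τ j) ∈ N) :
    ∃ z ∈ N, (∀ x, Orb T i x → z x = τ x) ∧ ∀ x, ¬ Orb T i x → z x = x := by
  let K : Subgroup (Perm (Fin n)) :=
    { carrier := {g | ∀ x, ¬ Orb T i x → g x = x}
      one_mem' := fun _ _ => rfl
      mul_mem' := fun {g g'} a b x hx => by rw [Perm.mul_apply, b x hx, a x hx]
      inv_mem' := fun {g} a x hx => by rw [Perm.inv_eq_iff_eq, a x hx] }
  obtain ⟨z, hz, hz1, hc⟩ := h.exists_central (N := N ⊓ K) (inf_le_left.trans hN)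
    (fun g hg x hx => ⟨hn g hg x hx.1, fun y hy => by
      rw [Perm.mul_apply, Perm.mul_apply, hx.2 _ (fun e => hy (by simpa using e.app hg.1))]
      simp⟩) (fun e => by
      have h1 : swap i (τ i) * swap j (τ j) ∈ N ⊓ K := ⟨hm, fun x hx => by
        rw [Perm.mul_apply, h.t_out (fun e => hx (ho.trans e)), h.t_out hx]⟩
      rw [e, mem_bot] at h1
      have h2 := congrArg (fun s : Perm (Fin n) => s i) h1
      have b' : i ≠ τ j := fun e => b (by rw [e, h.inv])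
      simp only [Perm.mul_apply, swap_apply_of_ne_of_ne a.symm b', swap_apply_left] at h2
      exact hi h2)
  obtain ⟨c1, c2⟩ := h.cent h6 hc
  refine ⟨z, hz.1, fun x hx => ?_, hz.2⟩
  rcases c1 x with e | e
  · exfalso
    apply hz1
    ext y
    by_cases hy : Orb T i y
    · rw [c2 x y (hx.symm.trans hy) e]; rfl
    · rw [hz.2 y hy]; rfl
  · exact e

theorem const_mem (h6 : 6 ≤ n) {N : Subgroup (Perm (Fin n))}
    (hN : N ≤ T ⊓ alternatingGroup (Fin n))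
    (hn : ∀ g ∈ T ⊓ alternatingGroup (Fin n), ∀ x ∈ N, g * x * g⁻¹ ∈ N)
    (hm : ∀ i, τ i ≠ i → ∃ j, Orb T i j ∧ j ≠ i ∧ j ≠ τ i ∧ swap i (τ i) * swap j (τ j) ∈ N)
    (c : Perm (Fin n)) (c1 : ∀ i, c i = i ∨ c i = τ i) (c2 : ∀ i j, Orb T i j → c i = i → c j = j) :
    c ∈ N := by
  induction hk : c.support.card using Nat.strong_induction_on generalizing c with
  | _ k ih =>
  by_cases e : c = 1
  · rw [e]; exact one_mem _
  obtain ⟨i, hi⟩ : ∃ i, c i ≠ i := by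
    by_contra hc
    push Not at hc
    exact e (Equiv.ext hc)
  have hi' : τ i ≠ i := by rcases c1 i with a | a; exacts [absurd a hi, a ▸ hi]
  obtain ⟨j, a1, a2, a3, a4⟩ := hm i hi'
  obtain ⟨z, hz, z1, z2⟩ := h.tau_orb h6 hN hn hi' a1 a2 a3 a4
  have f1 : ∀ x, Orb T i x → (z⁻¹ * c) x = x := fun x hx => by
    rw [Perm.mul_apply, Perm.inv_eq_iff_eq, z1 x hx]
    exact (c1 x).resolve_left fun e => hi (c2 x i hx.symm e)
  have f2 : ∀ x, ¬ Orb T i x → (z⁻¹ * c) x = c x := fun x hx => by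
    rw [Perm.mul_apply, Perm.inv_eq_iff_eq, z2]
    intro e
    rcases c1 x with a | a <;> rw [a] at e
    · exact hx e
    · exact hx (e.trans (h.orb_tau x).symm)
  have := ih _ (by
    rw [← hk]
    refine Finset.card_lt_card ⟨fun x hx => ?_, fun hs => ?_⟩
    · rw [mem_support] at hx ⊢
      by_cases o : Orb T i x
      · exact absurd (f1 x o) hx
      · rwa [f2 x o] at hx
    · exact mem_support.1 (hs (mem_support.2 hi)) (f1 i (Orb.refl i))) (z⁻¹ * c) (fun x => by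
    by_cases o : Orb T i x
    · exact Or.inl (f1 x o)
    · rw [f2 x o]; exact c1 x) (fun x y o e => by
    by_cases o' : Orb T i y
    · exact f1 y o'
    · rw [f2 y o']
      rw [f2 x (fun e => o' (e.trans o))] at e
      exact c2 x y o e) rfl
  simpa using mul_mem hz this

end St

end H23.SA
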