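/- Direct decompositions of Sylow 2-subgroups of alternating groups. -/
import Cfsg.Agent.H23.SylAlt

set_option autoImplicit false
open Subgroup Equiv Equiv.Perm

namespace H23.SA
variable {n : ℕ}

/-- an internal direct decomposition -/
structure Dec (P S₁ S₂ : Subgroup (Perm (Fin n))) : Prop where
  le1 : S₁ ≤ P
  le2 : S₂ ≤ P
  comm : ∀ a ∈ S₁, ∀ b ∈ S₂, a * b = b * a
  disj : ∀ x ∈ S₁, x ∈ S₂ → x = 1
  gen : ∀ g ∈ P, ∃ a ∈ S₁, ∃ b ∈ S₂, g = a * b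

theorem Dec.symm {P S₁ S₂ : Subgroup (Perm (Fin n))} (d : Dec P S₁ S₂) : Dec P S₂ S₁ :=
  ⟨d.le2, d.le1, fun a ha b hb => (d.comm b hb a ha).symm, fun x a b => d.disj x b a, fun g hg => by
    obtain ⟨a, ha, b, hb, e⟩ := d.gen g hg
    exact ⟨b, hb, a, ha, e.trans (d.comm a ha b hb)⟩⟩

theorem Dec.norm {P S₁ S₂ : Subgroup (Perm (Fin n))} (d : Dec P S₁ S₂) :
    ∀ g ∈ P, ∀ x ∈ S₁, g * x * g⁻¹ ∈ S₁ := by
  intro g hg x hx
  obtain ⟨a, ha, b, hb, rfl⟩ := d.gen g hg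
  have : a * b * x * (a * b)⁻¹ = a * x * a⁻¹ := by
    rw [mul_assoc a b x, ← d.comm x hx b hb]; group
  rw [this]
  exact mul_mem (mul_mem ha hx) (inv_mem ha)

/-- some element moves a pair of the orbit -/
def Mv (T : Subgroup (Perm (Fin n))) (τ : Perm (Fin n)) (S : Subgroup (Perm (Fin n))) (i : Fin n) :
    Prop := ∃ a ∈ S, ∃ x, Orb T i x ∧ a x ≠ x ∧ a x ≠ τ x

variable {T : Subgroup (Perm (Fin n))} {τ : Perm (Fin n)} (h : St T τ)
include h

namespace St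

theorem good {g δ : Perm (Fin n)} (hg : g ∈ T) (hδ : δ ∈ T) (c : g * δ = δ * g) {i j : Fin n}
    (e : δ i = j ∨ δ i = τ j) : (g i = i → g j = j) ∧ (g i = τ i → g j = τ j) := by
  have c' : g (δ i) = δ (g i) := congrArg (fun s : Perm (Fin n) => s i) c
  refine ⟨fun a => ?_, fun a => ?_⟩ <;> rw [a] at c'
  · rcases e with e | e <;> rw [e] at c'
    · exact c'
    · exact τ.injective (by rw [← h.comm g hg, c'])
  · rw [h.comm δ hδ] at c'
    rcases e with e | e <;> rw [e] at c'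
    · exact c'
    · exact τ.injective (by rw [← h.comm g hg, c'])

theorem small {c : Perm (Fin n)} (hA : c ∈ alternatingGroup (Fin n))
    (hc : ∀ i, c i = i ∨ c i = τ i) {y : Fin n} (hy : τ y ≠ y)
    (hf : ∀ x, τ x ≠ x → x ≠ y → x ≠ τ y → c x = x) : c = 1 := by
  have hf' : ∀ x, x ≠ y → x ≠ τ y → c x = x := fun x a b => by
    by_cases e : τ x = x
    · rcases hc x with e' | e'
      exacts [e', e'.trans e]
    · exact hf x e a b
  have cT := h.fl c hc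
  rcases hc y with e | e
  · ext x
    by_cases a : x = y
    · rw [a, e]; rfl
    by_cases b : x = τ y
    · rw [b, h.comm c cT, e]; rfl
    rw [hf' x a b]; rfl
  · exfalso
    apply swap_odd hy
    convert hA using 1
    ext x
    by_cases a : x = y
    · rw [a, e, swap_apply_left]
    by_cases b : x = τ y
    · rw [b, h.comm c cT, e, swap_apply_right, h.inv]
    rw [hf' x a b, swap_apply_of_ne_of_ne a b]

theorem pair_inv {g : Perm (Fin n)} (hg : g ∈ T) {i j : Fin n} (e : g i = j ∨ g i = τ j) :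
    g⁻¹ j = i ∨ g⁻¹ j = τ i := by
  rcases e with e | e
  · exact Or.inl (by rw [← e]; simp)
  · exact Or.inr (by rw [Perm.inv_eq_iff_eq, h.comm g hg, e, h.inv])

theorem pair_mul {g : Perm (Fin n)} (hg : g ∈ T) {i k l : Fin n} (e : l = i ∨ l = τ i)
    (e' : g i = k ∨ g i = τ k) : g l = k ∨ g l = τ k := by
  rcases e with rfl | rfl
  · exact e'
  · rw [h.comm g hg]
    rcases e' with e | e <;> rw [e]
    · exact Or.inr rfl
    · exact Or.inl (h.inv _)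

variable {S₁ S₂ : Subgroup (Perm (Fin n))} (d : Dec (T ⊓ alternatingGroup (Fin n)) S₁ S₂)
include d

theorem mv_at {i : Fin n} (m : Mv T τ S₁ i) : ∃ a ∈ S₁, a i ≠ i ∧ a i ≠ τ i := by
  obtain ⟨a, ha, x, o, a1, a2⟩ := m
  have aT := (d.le1 ha).1
  have hx : τ x ≠ x := fun e => a1 (h.fix aT e)
  obtain ⟨g, hg, e⟩ := h.orb0 hx o.symm
  have k : ∀ y, y = i ∨ y = τ i → (g * a * g⁻¹) i ≠ y := fun y hy e' => by
    have h1 := h.pair_mul (inv_mem hg.1) hy (h.pair_inv hg.1 e)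
    have h2 : g⁻¹ y = a (g⁻¹ i) := by rw [← e']; simp
    have h3 := h.pair_inv hg.1 e
    rw [h2] at h1
    rcases h3 with b | b <;> rw [b] at h1
    · exact h1.elim a1 a2
    · rw [h.comm a aT] at h1
      exact h1.elim (fun c => a2 (τ.injective (by rw [c, h.inv]))) (fun c => a1 (τ.injective c))
  exact ⟨_, d.norm g hg a ha, k _ (Or.inl rfl), k _ (Or.inr rfl)⟩

theorem nmv_const {i : Fin n} (m : ¬ Mv T τ S₂ i) {b : Perm (Fin n)} (hb : b ∈ S₂) :
    (∀ x, Orb T i x → b x = x ∨ b x = τ x) ∧ ∀ y, Orb T i y → b i = i → b y = y := by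
  have k : ∀ b ∈ S₂, ∀ x, Orb T i x → b x = x ∨ b x = τ x := fun b hb x o => by
    by_contra e
    push Not at e
    exact m ⟨b, hb, x, o, e⟩
  refine ⟨k b hb, fun y o e => ?_⟩
  by_cases hi : τ i = i
  · obtain ⟨g, hg, rfl⟩ := o
    rw [h.fix hg hi, e]
  obtain ⟨g, hg, e'⟩ := h.orb0 hi o
  obtain ⟨a, ha, c, hc, rfl⟩ := d.gen g hg
  have h1 : a i = y ∨ a i = τ y := by
    have := h.pair_inv (d.le2 hc).1 (k c hc i (Orb.refl i))
    have h2 := h.pair_mul hg.1 this e'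
    simpa using h2
  exact (h.good (d.le2 hb).1 (d.le1 ha).1 (d.comm a ha b hb).symm h1).1 e

theorem not_both {i k : Fin n} (hk : τ k ≠ k) (o : ¬ Orb T i k) (m1 : Mv T τ S₁ i)
    (m2 : Mv T τ S₂ i) : False := by
  obtain ⟨α, hα, a1, a2⟩ := h.mv_at d m1
  obtain ⟨β, hβ, b1, b2⟩ := h.mv_at d.symm m2
  have αT := (d.le1 hα).1
  have βT := (d.le2 hβ).1
  have hi : τ i ≠ i := fun e => a1 (h.fix αT e)
  have hj := h.nf αT hi
  have tk : ∀ x, Orb T i x → swap k (τ k) x = x := fun x hx =>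
    h.t_out fun e => o (hx.trans e.symm)
  have tk' : ∀ x, Orb T i x → swap (α k) (τ (α k)) x = x := fun x hx =>
    h.t_out fun e => o (hx.trans (e.symm.trans (Orb.symm ⟨α, αT, rfl⟩)))
  have hm := h.tt_mem hi hk
  have hu : α * ((swap i (τ i) * swap k (τ k)) * α⁻¹ * (swap i (τ i) * swap k (τ k))⁻¹) ∈ S₁ :=
    mul_mem hα (d.norm _ hm _ (inv_mem hα))
  have eu : α * ((swap i (τ i) * swap k (τ k)) * α⁻¹ * (swap i (τ i) * swap k (τ k))⁻¹) =
      swap (α i) (τ (α i)) * swap (α k) (τ (α k)) * swap k (τ k) * swap i (τ i) := by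
    rw [← h.conj_t αT, ← h.conj_t αT, mul_inv_rev, swap_inv, swap_inv]; group
  rw [eu] at hu
  have a3 : τ i ≠ τ (α i) := τ.injective.ne a1.symm
  have q : ∀ b ∈ S₂, (b i = i ∨ b i = τ i) ∨ (b i = α i ∨ b i = τ (α i)) := fun b hb => by
    by_contra e
    push Not at e
    have bT := (d.le2 hb).1
    have := congrArg (fun s : Perm (Fin n) => s i) (d.comm _ hu b hb)
    simp only [Perm.mul_apply] at this
    rw [swap_apply_of_ne_of_ne e.1.1 e.1.2, tk _ ⟨b, bT, rfl⟩, tk' _ ⟨b, bT, rfl⟩,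
      swap_apply_of_ne_of_ne e.2.1 e.2.2, swap_apply_left, tk _ (h.orb_tau i), tk' _ (h.orb_tau i),
      swap_apply_of_ne_of_ne a2.symm a3] at this
    exact hi (b.injective this).symm
  have qβ : β i = α i ∨ β i = τ (α i) := (q β hβ).resolve_left (not_or.2 ⟨b1, b2⟩)
  obtain ⟨γ, hγ, s, hs, c, e, p⟩ : ∃ γ ∈ T, ∃ s ∈ S₂, γ * β = β * γ ∧
      swap i (τ i) * swap k (τ k) = γ * s ∧ (s i = i ∨ s i = τ i) := by
    obtain ⟨a, ha, b, hb, e⟩ := d.gen _ hm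
    rcases q b hb with p | p
    · exact ⟨a, (d.le1 ha).1, b, hb, d.comm a ha β hβ, e, p⟩
    · refine ⟨a * β, mul_mem (d.le1 ha).1 βT, β⁻¹ * b, mul_mem (inv_mem hβ) hb, ?_, ?_, ?_⟩
      · rw [← mul_assoc, d.comm a ha β hβ]
      · rw [e]; group
      · exact h.pair_mul (inv_mem βT) p (h.pair_inv βT qβ)
  have g1 := h.good (i := i) (d.le2 hs).1 αT (d.comm α hα s hs).symm (Or.inl rfl)
  have g2 := h.good hγ βT c qβ
  have e1 : γ (s i) = τ i := by
    rw [← Perm.mul_apply, ← e, Perm.mul_apply, tk _ (Orb.refl i), swap_apply_left]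
  have e2 : γ (s (α i)) = α i := by
    rw [← Perm.mul_apply, ← e, Perm.mul_apply, tk _ ⟨α, αT, rfl⟩, swap_apply_of_ne_of_ne a1 a2]
  rcases p with p | p
  · rw [p] at e1
    rw [g1.1 p, g2.2 e1] at e2
    exact hj e2
  · rw [p, h.comm γ hγ] at e1
    rw [g1.2 p, h.comm γ hγ, g2.1 (τ.injective e1)] at e2
    exact hj e2

theorem caseB (h6 : 6 ≤ n) (NP : ∀ i, τ i ≠ i → ∃ j, Orb T i j ∧ j ≠ i ∧ j ≠ τ i)
    (mu : ∀ i, τ i ≠ i → ∃ k, τ k ≠ k ∧ ¬ Orb T i k) (m : ∀ i, τ i ≠ i → ¬ Mv T τ S₂ i) :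
    S₂ = ⊥ := by
  have fl : ∀ b ∈ S₂, ∀ x, b x = x ∨ b x = τ x := fun b hb x => by
    by_cases e : τ x = x
    · exact Or.inl (h.fix (d.le2 hb).1 e)
    · exact (h.nmv_const d (m x e) hb).1 x (Orb.refl x)
  rw [eq_bot_iff]
  intro b hb
  refine d.disj b (h.const_mem h6 d.le1 d.norm (fun i hi => ?_) b (fl b hb) (fun i j o e => ?_)) hb
  · obtain ⟨j, o, j1, j2⟩ := NP i hi
    obtain ⟨k, hk, ok⟩ := mu i hi
    obtain ⟨g, hg, rfl⟩ := o
    obtain ⟨r, hr, r1, r2⟩ := h.restr (X := {x | Orb T i x}) (fun g hg x hx => Orb.app hx hg) hg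
    obtain ⟨r', hr', r1', r2'⟩ : ∃ r' ∈ T ⊓ alternatingGroup (Fin n),
        (r' i = g i ∨ r' i = τ (g i)) ∧ r' k = k := by
      by_cases e : r ∈ alternatingGroup (Fin n)
      · exact ⟨r, ⟨hr, e⟩, Or.inl (r1 i (Orb.refl i)), r2 k ok⟩
      · refine ⟨r * swap i (τ i), ⟨mul_mem hr (h.t_mem i), mul_odd e (swap_odd hi)⟩, Or.inr ?_, ?_⟩
        · rw [Perm.mul_apply, swap_apply_left, r1 _ (h.orb_tau i), h.comm g hg]
        · rw [Perm.mul_apply, h.t_out ok, r2 k ok]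
    obtain ⟨a, ha, c, hc, rfl⟩ := d.gen r' hr'
    have aT := (d.le1 ha).1
    have p1 : a i = g i ∨ a i = τ (g i) := by
      simpa using h.pair_mul hr'.1 (fl _ (inv_mem hc) i) r1'
    have p2 : a k = k ∨ a k = τ k := by
      simpa using h.pair_mul hr'.1 (fl _ (inv_mem hc) k) (Or.inl r2')
    have hm := h.tt_mem hi hk
    have hu : ((swap i (τ i) * swap k (τ k)) * a * (swap i (τ i) * swap k (τ k))⁻¹) * a⁻¹ ∈ S₁ :=
      mul_mem (d.norm _ hm _ ha) (inv_mem ha)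
    have eu : ((swap i (τ i) * swap k (τ k)) * a * (swap i (τ i) * swap k (τ k))⁻¹) * a⁻¹ =
        swap i (τ i) * (swap k (τ k) * (a * swap k (τ k) * a⁻¹)) * (a * swap i (τ i) * a⁻¹) := by
      rw [mul_inv_rev, swap_inv, swap_inv]; group
    rw [eu, h.conj_t aT, h.conj_t aT, h.t_pair p1, h.t_pair p2, swap_mul_self, mul_one] at hu
    exact ⟨g i, ⟨g, hg, rfl⟩, j1, j2, hu⟩
  · by_cases hi : τ i = i
    · obtain ⟨g, hg, rfl⟩ := o
      rw [h.fix hg hi, e]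
    · exact (h.nmv_const d (m i hi) hb).2 j o e

theorem some_mv {i j : Fin n} (hi : τ i ≠ i) (o : Orb T i j) (j1 : j ≠ i) (j2 : j ≠ τ i)
    (m1 : ¬ Mv T τ S₁ i) (m2 : ¬ Mv T τ S₂ i) : False := by
  obtain ⟨g, hg, e⟩ := h.orb0 hi o
  obtain ⟨a, ha, b, hb, rfl⟩ := d.gen g hg
  have p := h.pair_mul (d.le1 ha).1 ((h.nmv_const d m2 hb).1 i (Orb.refl i))
    ((h.nmv_const d.symm m1 ha).1 i (Orb.refl i))
  rw [← Perm.mul_apply] at p
  rcases e with e | e <;> rw [e] at p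
  · exact p.elim j1 j2
  · exact p.elim (fun c => j2 (by rw [← c, h.inv])) (fun c => j1 (τ.injective c))

theorem multi (h6 : 6 ≤ n) (NP : ∀ i, τ i ≠ i → ∃ j, Orb T i j ∧ j ≠ i ∧ j ≠ τ i)
    (mu : ∀ i, τ i ≠ i → ∃ k, τ k ≠ k ∧ ¬ Orb T i k) : S₁ = ⊥ ∨ S₂ = ⊥ := by
  have nb : ∀ i, τ i ≠ i → ¬ Mv T τ S₁ i ∨ ¬ Mv T τ S₂ i := fun i hi => by
    obtain ⟨k, hk, o⟩ := mu i hi
    exact not_and_or.1 fun c => h.not_both d hk o c.1 c.2
  by_cases c1 : ∀ i, τ i ≠ i → ¬ Mv T τ S₂ i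
  · exact Or.inr (h.caseB d h6 NP mu c1)
  by_cases c2 : ∀ i, τ i ≠ i → ¬ Mv T τ S₁ i
  · exact Or.inl (h.caseB d.symm h6 NP mu c2)
  exfalso
  push Not at c1 c2
  obtain ⟨k, hk, mk⟩ := c1
  obtain ⟨i, hi, mi⟩ := c2
  have mk' := (nb k hk).resolve_right (not_not.2 mk)
  have mi' := (nb i hi).resolve_left (not_not.2 mi)
  have mono : ∀ {S : Subgroup (Perm (Fin n))} {x y}, Orb T x y → Mv T τ S y → Mv T τ S x :=
    fun o ⟨a, ha, z, oz, e⟩ => ⟨a, ha, z, o.trans oz, e⟩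
  obtain ⟨a, ha, b, hb, e⟩ := d.gen _ (h.tt_mem hi hk)
  have e' : swap i (τ i) * a = swap k (τ k) * b⁻¹ := by
    rw [eq_mul_inv_iff_mul_eq, mul_assoc, ← e, ← mul_assoc, swap_mul_self, one_mul]
  have key : ∀ x, τ x ≠ x → ∃ s : Perm (Fin n), (∀ y, Orb T x y → (swap i (τ i) * a) y = s y) ∧
      (∀ y, Orb T x y → s y = y ∨ s y = τ y) ∧ ∀ y, Orb T x y → s x = x → s y = y := by
    intro x hx
    rcases nb x hx with m | m
    · refine ⟨a, fun y o => ?_, h.nmv_const d.symm m ha⟩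
      rw [Perm.mul_apply, h.t_out]
      exact fun o' => m (mono ((o.app (d.le1 ha).1).trans o'.symm) mi)
    · refine ⟨b⁻¹, fun y o => ?_, h.nmv_const d m (inv_mem hb)⟩
      rw [e', Perm.mul_apply, h.t_out]
      exact fun o' => m (mono ((o.app (inv_mem (d.le2 hb).1)).trans o'.symm) mk)
  have cT : swap i (τ i) * a ∈ T := mul_mem (h.t_mem i) (d.le1 ha).1
  have := h.const_mem h6 le_rfl (fun g hg x hx => mul_mem (mul_mem hg hx) (inv_mem hg))
    (fun i hi => by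
      obtain ⟨j, o, j1, j2⟩ := NP i hi
      obtain ⟨g, hg, rfl⟩ := o
      exact ⟨g i, ⟨g, hg, rfl⟩, j1, j2, h.tt_mem hi (h.nf hg hi)⟩) (swap i (τ i) * a)
    (fun x => by
      by_cases hx : τ x = x
      · exact Or.inl (h.fix cT hx)
      · obtain ⟨s, s1, s2, -⟩ := key x hx
        rw [s1 x (Orb.refl x)]; exact s2 x (Orb.refl x))
    (fun x y o e => by
      by_cases hx : τ x = x
      · obtain ⟨g, hg, rfl⟩ := o
        rw [h.fix hg hx, e]
      · obtain ⟨s, s1, -, s3⟩ := key x hx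
        rw [s1 y o]; exact s3 y o (by rw [← s1 x (Orb.refl x), e]))
  have aA : a ∈ alternatingGroup (Fin n) := (d.le1 ha).2
  have cA : swap i (τ i) * a ∈ alternatingGroup (Fin n) := this.2
  exact swap_odd hi (by simpa using mul_mem cA (inv_mem aA))

theorem of_unique (h6 : 6 ≤ n) (w : Perm (Fin n)) (u : ∀ z ∈ alternatingGroup (Fin n), z ≠ 1 →
    (∀ i, z i = i ∨ z i = τ i) → (∀ i j, Orb T i j → z i = i → z j = j) → z = w) :
    S₁ = ⊥ ∨ S₂ = ⊥ := by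
  by_contra c
  push Not at c
  obtain ⟨z, hz, z1, z2⟩ := h.exists_central d.le1 d.norm c.1
  obtain ⟨z', hz', z1', z2'⟩ := h.exists_central d.le2 d.symm.norm c.2
  have e := u z (d.le1 hz).2 z1 (h.cent h6 z2).1 (h.cent h6 z2).2
  have e' := u z' (d.le2 hz').2 z1' (h.cent h6 z2').1 (h.cent h6 z2').2
  exact z1 (d.disj z hz (by rw [e, ← e']; exact hz'))

theorem noPair (h6 : 6 ≤ n) (NP : ∀ i, τ i ≠ i → ∃ j, Orb T i j ∧ j ≠ i ∧ j ≠ τ i) :
    S₁ = ⊥ ∨ S₂ = ⊥ := by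
  by_cases mu : ∀ i, τ i ≠ i → ∃ k, τ k ≠ k ∧ ¬ Orb T i k
  · exact h.multi d h6 NP mu
  push Not at mu
  obtain ⟨i, -, o⟩ := mu
  refine h.of_unique d h6 τ fun z _ z1 z2 z3 => ?_
  obtain ⟨x, hx⟩ : ∃ x, z x ≠ x := by
    by_contra hc
    push Not at hc
    exact z1 (Equiv.ext hc)
  have hx' : τ x ≠ x := fun e => by rcases z2 x with a | a; exacts [hx a, hx (a.trans e)]
  refine Equiv.ext fun y => ?_
  rcases z2 y with a | a
  · by_contra e
    exact hx (z3 y x ((o y fun e' => e (a.trans e'.symm)).symm.trans (o x hx')) a)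
  · exact a

theorem onePair (h6 : 6 ≤ n) {y i j : Fin n} (hy : τ y ≠ y) (hi : τ i ≠ i) (o : Orb T i j)
    (j1 : j ≠ i) (j2 : j ≠ τ i)
    (all : ∀ x, τ x ≠ x → x ≠ y → x ≠ τ y → Orb T i x) : S₁ = ⊥ ∨ S₂ = ⊥ := by
  obtain ⟨w, hw, w1, w2⟩ := h.tau_orb h6 le_rfl
    (fun g hg x hx => mul_mem (mul_mem hg hx) (inv_mem hg)) hi o j1 j2
    (h.tt_mem hi (by obtain ⟨g, hg, rfl⟩ := o; exact h.nf hg hi))
  refine h.of_unique d h6 w fun z zA z1 z2 z3 => ?_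
  have zi : ∀ x, Orb T i x → z x = τ x := fun x ox => (z2 x).resolve_left fun e =>
    z1 (h.small zA z2 hy fun v a b c => z3 x v (ox.symm.trans (all v a b c)) e)
  have zT := h.fl z z2
  have := h.small (c := w⁻¹ * z) (mul_mem (inv_mem hw.2) zA) (fun x => by
      by_cases ox : Orb T i x
      · exact Or.inl (by rw [Perm.mul_apply, Perm.inv_eq_iff_eq, zi x ox, w1 x ox])
      · rw [Perm.mul_apply, Perm.inv_eq_iff_eq.2 (w2 (z x) fun e => ox (by
          simpa using e.app (inv_mem zT))).symm]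
        exact z2 x) hy (fun x a b c => by
      rw [Perm.mul_apply, Perm.inv_eq_iff_eq, zi x (all x a b c), w1 x (all x a b c)])
  rw [inv_mul_eq_one] at this
  exact this.symm

end St

end H23.SA
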