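import Cfsg.Agent.H28.TESpec2

/-! Tower NF (S1308), chapter TE part 1: the job `FE`. -/

set_option autoImplicit false

open Cfsg Subgroup H14 H98 H1.Gold H31.S2 H14.GC H14.FE H14.NF H28.TE

namespace H23.TeFE

universe u

theorem jobFE : JobFE.{u} := by
  intro zc co G _ _ Q hy l0 E pz four Q₂ E₂ p ne hc nc
  have : Fact (Nat.Prime 2) := ⟨Nat.prime_two⟩
  have p0 := H51.TE.pt_base Q E
  obtain ⟨v1, -, ⟨R0, hR0, e0⟩, z0⟩ := pz _ _ p0
  obtain ⟨v2, c2, ⟨R1, hR1, e1⟩, -⟩ := pz _ _ p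
  have EQ : E ≤ Q := fun x hx => hR0.le (e0.le hx).1
  have E2 : IsPGroup 2 E := hR0.isPGroup.to_le fun x hx => (e0.le hx).1
  have EQ' : E₂ ≤ Q₂ := fun x hx => hR1.le (e1.le hx).1
  have E2' : IsPGroup 2 E₂ := hR1.isPGroup.to_le fun x hx => (e1.le hx).1
  obtain ⟨s, hs, is⟩ := four_exists_inv four
  have hn : E₂ ≤ nor Q := fun t ht => hy.cen_le _ v1 s (EQ hs) is
    (mem_centralizer_singleton_iff.2 (mem_centralizer_iff.1 (hc ht) s hs).symm)
  have nb : E₂ ≠ ⊥ := fun e => by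
    rw [e, card_bot, eq_comm, card_eq_one] at c2
    rw [c2] at hs
    exact is.1 (mem_bot.1 hs)
  obtain ⟨T, hT, le⟩ := exists_isSyl_le E2' (le_inf EQ' hn)
  have nT : T ≠ ⊥ := fun e => nb (le_bot_iff.1 (e ▸ le))
  obtain ⟨R, hR, -, hr⟩ := inv_syl (Y := Q) hT.isPGroup (hT.le.trans inf_le_right)
  by_cases f : IsSyl 2 T Q₂
  · exact ⟨R, hR, ((l0 _ _ v1 v2 ne T hT nT R hR hr).1 f).trans (centralizer_anti le)⟩
  · exfalso
    have ln := (l0 _ _ v1 v2 ne T hT nT R hR hr).2 f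
    have e := (zc G _ _ _ _ _ ln R ⟨hR, inf_le_left, hr⟩).1
    have c := ln.card
    rw [e, (z0 R hR).1, ← c2] at c
    obtain rfl : E₂ = T := eq_of_le_of_card_ge le c.ge
    obtain ⟨R', hR', h1, h2⟩ := inv_syl (U := E₂ ⊔ E) (Y := Q)
      (E2'.to_sup_of_normal_right' E2 (le_normalizer_of_le_centralizer hc))
      (sup_le hn (EQ.trans le_normalizer))
    have h3 : E₂ ≤ nor R' := le_sup_left.trans h2
    have ln' := (l0 _ _ v1 v2 ne E₂ hT nT R' hR' h3).2 f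
    rw [(zc G _ _ _ _ _ ln' R' ⟨hR', inf_le_left, h3⟩).1,
      ← (z0 R' hR').2 ((le_inf le_sup_right EQ).trans h1)] at ln'
    exact nc ((co G Q E).1 _ _ _ _ ln' p0 p)

end H23.TeFE
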