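import Cfsg.Agent.H78.TEDef
import Cfsg.Agent.H98.Coprime

/-! STD-2E6: job RU (facts on the Sylow subgroup `U` and its normal subgroup `R`). -/

set_option autoImplicit false
set_option linter.unusedSectionVars false
set_option synthInstance.maxSize 2048

namespace H23.TE

open Cfsg.Lie H63 H65 H64 H64.SG H68 H78.TE H78.TE.Qd Subgroup
open scoped commutatorElement

/-- `V` is an ideal of positive roots -/
abbrev Idl (V : Set (Rt E6)) : Prop :=
  ∀ r ∈ V, 36 ≤ r.1 ∧ ∀ s, 36 ≤ s.1 → ip r s = -1 → su r s ∈ V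

section Y

variable {K : Type} [Field K] [CharP K 2]

theorem ip_cases : ∀ r s : Rt E6, 36 ≤ r.1 → 36 ≤ s.1 → ip r s = -1 ∨ 0 ≤ ip r s := by
  decide +kernel

theorem commY {r s : Rt E6} (h : ip r s = -1) (a b : K) :
    ⁅xG E6 K r a, xG E6 K s b⁆ = xG E6 K (su r s) (a * b) :=
  e6.commutator_add (stY K).toStN.toSt (su_add h) a b

theorem comm_memY {V : Set (Rt E6)} {r s : Rt E6} (hr : 36 ≤ r.1) (hs : 36 ≤ s.1)
    (h : ip r s = -1 → su r s ∈ V) (a b : K) : ⁅xG E6 K r a, xG E6 K s b⁆ ∈ gY K V := by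
  rcases ip_cases r s hr hs with e | e
  · rw [commY e]; exact x_mem_gen (h e) _
  · rw [commutatorElement_eq_one_iff_mul_comm.2 (cY e a b)]; exact one_mem _

theorem norY {V : Set (Rt E6)} (hV : Idl V) {s : Rt E6} (hs : 36 ≤ s.1) (b : K) :
    xG E6 K s b ∈ Ns (gY K V) := by
  have k : ∀ g ∈ gY K V, xG E6 K s b * g * (xG E6 K s b)⁻¹ ∈ gY K V := fun g hg =>
    conj_mem_of_gen (fun r hr y hy => by
      obtain ⟨a, rfl⟩ := (stY K).toStN.toSt.mem_XR.1 hy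
      have := mul_mem (inv_mem (comm_memY (hV r hr).1 hs ((hV r hr).2 s hs) a b)) (x_mem_gen hr a)
      rw [commutatorElement_inv, commutatorElement_def, inv_mul_cancel_right] at this
      exact this) hg
  refine mem_normalizer_iff.2 fun g => ⟨k g, fun h => ?_⟩
  have := k _ h
  rw [x_inv (stY K).toStN.toSt] at this
  rwa [← mul_assoc, ← mul_assoc, x_sq (stY K).toStN.toSt, one_mul, mul_assoc,
    x_sq (stY K).toStN.toSt, mul_one] at this

theorem cmY {S S' V : Set (Rt E6)} (hV : Idl V) (h1 : ∀ r ∈ S, 36 ≤ r.1) (h2 : ∀ r ∈ S', 36 ≤ r.1)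
    (h : ∀ r ∈ S, ∀ s ∈ S', ip r s = -1 → su r s ∈ V) : ⁅gY K S, gY K S'⁆ ≤ gY K V := by
  refine (H98.le_stab_iff.1 (gen_le_iff.2 fun s hs b => H98.mem_stab.2 ⟨norY hV (h2 s hs) b, ?_⟩)).2
  have : ⁅zpowers (xG E6 K s b), gY K S⁆ ≤ gY K V := by
    refine (H98.le_stab_iff.1 (gen_le_iff.2 fun r hr a =>
      H98.mem_stab.2 ⟨norY hV (h1 r hr) a, fun c hc => ?_⟩)).2
    obtain ⟨t, rfl⟩ := (stY K).toStN.toSt.mem_XR.1 ((zpowers_le).2 (x_mem_XR E6 _ s b) hc)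
    rw [← commutatorElement_inv]
    exact inv_mem (comm_memY (h1 r hr) (h2 s hs) (h r hr s hs) a t)
  intro c hc
  rw [← commutatorElement_inv]
  exact inv_mem (this (commutator_mem_commutator (mem_zpowers _) hc))

end Y

variable {F K : Type} [Field F] [Field K] [CharP K 2] {T : Qd F K}

theorem cm (h : T.KB) {S S' V : Set (Rt E6)} (c1 : Cl S) (c2 : Cl S') (c3 : Cl V) (hV : Idl V)
    (e : ∀ r ∈ S, ∀ s ∈ S', ip r s = -1 → su r s ∈ V) : ⁅T.gt S, T.gt S'⁆ ≤ T.gt V :=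
  commutator_le.2 fun a ha b hb => (h.gtY V c3 _).2
    (cmY hV c1.1.1 c2.1.1 e (commutator_mem_commutator ((h.gtY S c1 a).1 ha) ((h.gtY S' c2 b).1 hb)))

theorem gt_empty : T.gt ∅ = ⊥ := le_bot_iff.1 (T.gt_le.2 fun _ h => h.elim)

theorem ct (h : T.KB) (c : T.CT) {S S' V P : Set (Rt E6)} (c1 : Cl S) (c2 : Cl S') (c3 : Cl V)
    (hV : Idl V) (e : (∀ r ∈ S', r ∈ S) ∧ (∀ r ∈ P, 36 ≤ r.1) ∧
      (∀ r ∈ S', ∀ s ∈ P, (ip r s = -1 → su r s ∈ V) ∧ (ip r (gm s) = -1 → su r (gm s) ∈ V)) ∧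
      ∀ r ∈ S, r ∉ S' → ∃ s ∈ P, ip r s = -1 ∧ su r s ∉ V)
    {g : T.X} (hg : g ∈ T.gt S) (k : ∀ s ∈ P, ∀ a, ⁅g, T.xs s a⁆ ∈ T.gt V) : g ∈ T.gt S' :=
  (h.gtY S' c2 g).2 (c S S' V P c1.1 c2.1 e.1 e.2.1 hV e.2.2.1 e.2.2.2 g ((h.gtY S c1 g).1 hg)
    fun s hs a => (h.gtY V c3 _).1 (k s hs a))

theorem nrmU (h : T.KB) {S : Set (Rt E6)} (c : Cl S)
    (e : ∀ r ∈ SU, ∀ s ∈ S, s ≠ ng r ∧ (ip r s = -1 → su r s ∈ S)) : T.U ≤ Ns (T.gt S) :=
  T.gt_le.2 fun r hr u => h.nrm S c r (e r hr) u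

/-- a root that is a sum of two short roots -/
theorem xs_mem_comm (h : T.KB) {A B : Subgroup T.X} {r s : Rt E6} (e1 : ip r s = -1)
    (e2 : 0 ≤ ip r (gm s)) (hr : ∀ a, T.xs r a ∈ A) (hs : ∀ a, T.xs s a ∈ B) (u : K) :
    T.xs (su r s) u ∈ ⁅B, A⁆ := by
  have := commutator_mem_commutator (inv_mem (hs 1)) (hr u)
  rw [commutatorElement_def, inv_inv, mul_assoc, mul_assoc, ← mul_assoc (T.xs r u), h.cs r s e1 e2,
    inv_mul_cancel_left, mul_one] at this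
  exact this

/-- a short root that is a sum of a long and a short root -/
theorem xs_mem_cj (h : T.KB) {N : Subgroup T.X} {r v : Rt D4} {s : Rt E6} (e0 : gm s ≠ s)
    (e1 : ip (lr r) s = -1) (e2 : lr v = su (su (lr r) s) (gm s))
    (k : ∀ u, (T.x r 1)⁻¹ * (T.xs s u * T.x r 1 * (T.xs s u)⁻¹) ∈ N) (hv : ∀ c, T.x v c ∈ N) (u : K) :
    T.xs (su (lr r) s) u ∈ N := by
  obtain ⟨n, hn⟩ := T.exists_nm u
  have := mul_mem (k u) (inv_mem (hv (1 * n)))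
  rw [h.cj r v s e0 e1 e2 u n 1 hn, map_one, one_mul, mul_assoc (T.x r 1), inv_mul_cancel_left,
    mul_inv_cancel_right] at this
  exact this

theorem xs_long {N : Subgroup T.X} {r : Rt D4} (k : ∀ c, T.x r c ∈ N) (u : K) :
    T.xs (lr r) u ∈ N := by
  obtain ⟨c, hc⟩ := T.exists_tr u
  rw [T.xs_lr r hc]; exact k c

theorem clU : Cl SU := by decide +kernel
theorem clR : Cl SR := by decide +kernel
theorem clQ : Cl SQ := by decide +kernel
theorem clA : Cl SA := by decide +kernel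
theorem clW : Cl SW := by decide +kernel
theorem clE : Cl SE := by decide +kernel
theorem clZ : Cl SZ := by decide +kernel
theorem cl0 : Cl ∅ := ⟨⟨fun _ h => h.elim, fun _ h => h.elim⟩, fun _ h => h.elim⟩
theorem id0 : Idl ∅ := fun _ h => h.elim
theorem idZ : Idl SZ := by decide +kernel
theorem idW : Idl SW := by decide +kernel

theorem zuR (h : T.KB) (c : T.CT) : T.R ⊓ Cs T.R = T.Z := by
  rw [← h.gtZ]
  refine le_antisymm (fun g hg => ct h c clR clZ cl0 id0 (P := SR) (by decide +kernel) hg.1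
    fun s hs a => ?_) (le_inf (T.gt_mono (show ∀ r ∈ SZ, r ∈ SR by decide +kernel)) ?_)
  · rw [commutatorElement_eq_one_iff_mul_comm.2 (hg.2 _ (T.xs_mem hs a)).symm]; exact one_mem _
  · exact commutator_eq_bot_iff_le_centralizer.1 (le_bot_iff.1
      (gt_empty (T := T) ▸ cm h clZ clR cl0 id0 (by decide +kernel)))

theorem cVR (h : T.KB) (c : T.CT) {u : T.X} (hu : u ∈ T.R) :
    u ∈ T.El ↔ ⁅zpowers u, T.R⁆ ≤ T.Z := by
  rw [← h.gtZ]
  exact ⟨fun e => (commutator_mono ((zpowers_le).2 e) le_rfl).trans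
    (cm h clE clR clZ idZ (by decide +kernel)), fun e => ct h c clR clE clZ idZ (P := SR)
      (by decide +kernel) hu fun s hs a =>
        e (commutator_mem_commutator (mem_zpowers u) (T.xs_mem hs a))⟩

theorem cEA (h : T.KB) : T.W = ⁅T.A, T.A⁆ := by
  refine le_antisymm (T.gt_le.2 fun r hr u => ?_) (cm h clA clA clW idW (by decide +kernel))
  obtain ⟨s, hs, t, ht, e1, e2, rfl⟩ := (show ∀ r ∈ SW, ∃ s ∈ SA, ∃ t ∈ SA,
    ip s t = -1 ∧ 0 ≤ ip s (gm t) ∧ su s t = r by decide +kernel) r hr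
  exact xs_mem_comm h e1 e2 (T.xs_mem hs) (T.xs_mem ht) u

variable [CharP F 2]

theorem mem_El (h : T.KB) {g : T.X} (hg : g ∈ T.El) : ∃ c k, g = T.x 22 c * T.x 23 k := by
  obtain ⟨u, e⟩ := h.prod SE clE [lr (R4 22), lr (R4 23)] (by decide +kernel) (by decide +kernel)
    (by decide +kernel) g hg
  obtain ⟨c, hc⟩ := T.exists_tr (u (lr (R4 22)))
  obtain ⟨k, hk⟩ := T.exists_tr (u (lr (R4 23)))
  refine ⟨c, k, ?_⟩
  rw [e, List.map_cons, List.map_cons, List.map_nil, List.prod_cons, List.prod_cons, List.prod_nil,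
    mul_one, T.xs_lr _ hc, T.xs_lr _ hk]
  rfl

theorem comm_El (h : T.KB) (c k a : F) : ⁅T.x 22 c * T.x 23 k, T.x 14 a⁆ = T.x 23 (c * a) := by
  have e1 : T.x 22 c * T.x 14 a * (T.x 22 c)⁻¹ * (T.x 14 a)⁻¹ = T.x 23 (c * a) :=
    e4.commutator_add h.st (r := R4 22) (s := R4 14) (u := R4 23)
      (lr_add.2 (add_iff.2 (by decide +kernel))) c a
  have e2 : T.x 23 k * T.x 14 a = T.x 14 a * T.x 23 k :=
    e4.comm_of_nonneg h.st (r := R4 23) (s := R4 14) (by decide +kernel) k a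
  rw [← e1, commutatorElement_def, mul_assoc (T.x 22 c), e2]
  group

theorem Z_le_of (h : T.KB) {n : T.X} (hn : n ∈ T.El) (hz : n ∉ T.Z) {N : Subgroup T.X}
    (k : ∀ y ∈ T.R, ⁅n, y⁆ ∈ N) : T.Z ≤ N := by
  obtain ⟨c, k', rfl⟩ := mem_El h hn
  have c0 : c ≠ 0 := by
    rintro rfl
    refine hz (mul_mem ?_ (x_mem_XR D4 T.x (hi D4) k'))
    have : T.x 22 0 = 1 := h.st.x_zero (R4 22)
    rw [this]; exact one_mem _
  intro z hz
  obtain ⟨b, rfl⟩ := h.st.mem_XR.1 hz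
  have := k _ (h.x_mem (S := SR) (R4 14) (by decide +kernel) (c⁻¹ * b))
  rw [show T.x (R4 14 : Rt D4) (c⁻¹ * b) = T.x 14 (c⁻¹ * b) from rfl, comm_El h,
    mul_inv_cancel_left₀ c0] at this
  exact this

theorem exists_comm {G : Type*} [Group G] [Finite G] {X E : Subgroup G} (hX : IsPGroup 2 X)
    (Y : Subgroup G) : IsPGroup 2 Y → X ≤ Ns Y → ¬ Y ≤ E → ∃ y ∈ Y, y ∉ E ∧ ∀ x ∈ X, ⁅y, x⁆ ∈ E := by
  have := Fact.mk Nat.prime_two
  induction Y using WellFoundedLT.induction with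
  | ind Y ih =>
    intro hY hn hE
    by_cases h : ⁅Y, X⁆ ≤ E
    · obtain ⟨y, hy, hy'⟩ := SetLike.not_le_iff_exists.1 hE
      exact ⟨y, hy, hy', fun x hx => h (commutator_mem_commutator hy hx)⟩
    · have lt := H98.commutator_lt_of_isPGroup hY hX hn (fun e => hE (e ▸ bot_le))
      obtain ⟨y, hy, k⟩ := ih _ lt (hY.to_le lt.le)
        (H98.le_normalizer_commutator hn le_normalizer) h
      exact ⟨y, lt.le hy, k⟩

theorem RU : T.R ≤ T.U := T.gt_mono (show ∀ r ∈ SR, r ∈ SU by decide +kernel)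

theorem nzR [Finite K] (h : T.KB) (c : T.CT) {u : T.X} (hu : u ∈ T.R) (hz : u ∉ T.Z) :
    T.Z ≤ ⁅zpowers u, T.R⁆ := by
  by_cases e : u ∈ T.El
  · exact Z_le_of h e hz fun y hy => commutator_mem_commutator (mem_zpowers u) hy
  have le : ⁅zpowers u, T.R⁆ ≤ T.R := H98.commutator_le_of_le ((zpowers_le).2 hu) le_rfl
  have nr : T.R ≤ Ns ⁅zpowers u, T.R⁆ := H46.nrm_commutator_right _ _
  have hR := h.isP.to_le (RU (T := T))
  obtain ⟨n, hn, hn', k⟩ := exists_comm hR _ (hR.to_le le) nr fun f => e ((cVR h c hu).2 f)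
  refine Z_le_of h ((cVR h c (le hn)).2 ?_) hn' fun y hy =>
    H98.commutator_le_left' nr (commutator_mem_commutator hn hy)
  have nZ : T.R ≤ Ns T.Z := H98.le_normalizer_of_le_centralizer
    (le_centralizer_iff.1 ((zuR h c).ge.trans inf_le_right))
  rw [commutator_comm]
  refine (H98.le_stab_iff.1 ((zpowers_le).2 (H98.mem_stab.2 ⟨nZ (le hn), fun y hy => ?_⟩))).2
  rw [← commutatorElement_inv]
  exact inv_mem (k y hy)

theorem vzR [Finite K] (h : T.KB) (c : T.CT) : ∃ v ∈ T.R, ⁅zpowers v, T.R⁆ = T.Z := by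
  have m : T.x 22 1 ∈ T.El := h.x_mem (S := SE) (R4 22) (by decide +kernel) 1
  have mR : T.x 22 1 ∈ T.R := h.x_mem (S := SR) (R4 22) (by decide +kernel) 1
  refine ⟨_, mR, le_antisymm ((cVR h c mR).1 m) (nzR h c mR fun e => ?_)⟩
  have a := comm_El h 1 0 1
  have m' : T.x 14 1 ∈ T.R := h.x_mem (S := SR) (R4 14) (by decide +kernel) 1
  rw [show T.x 23 0 = 1 from h.st.x_zero (R4 23), mul_one, commutatorElement_eq_one_iff_mul_comm.2
    (((zuR h c).ge e).2 _ m').symm] at a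
  exact one_ne_zero ((mul_one (1 : F)).symm.trans (h.inj (R4 23) _ a.symm))

theorem mem_RR (h : T.KB) {s : Rt E6} (hs : 1 ≤ a2 s ∧ 1 ≤ a4 s) (u : K) : T.xs s u ∈ ⁅T.R, T.R⁆ := by
  have AR : T.A ≤ T.R := T.gt_mono (show ∀ r ∈ SA, r ∈ SR by decide +kernel)
  have hW : T.W ≤ ⁅T.R, T.R⁆ := (cEA h).le.trans (commutator_mono AR AR)
  rcases (show ∀ s : Rt E6, 1 ≤ a2 s ∧ 1 ≤ a4 s → s ∈ SW ∨
      (∃ r v : Rt D4, lr r ∈ SR ∧ lr v = s ∧ ip (lr (R4 14)) (lr r) = -1 ∧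
        lr v = su (lr (R4 14)) (lr r)) ∨
      ∃ t ∈ SR, ∃ v : Rt D4, gm t ≠ t ∧ ip (lr (R4 14)) t = -1 ∧
        lr v = su (su (lr (R4 14)) t) (gm t) ∧ lr v ∈ SW ∧ su (lr (R4 14)) t = s
      by decide +kernel) s hs with e | ⟨r, v, e1, rfl, e2⟩ | ⟨t, ht, v, e0, e1, e2, e3, rfl⟩
  · exact hW (T.xs_mem e u)
  · refine xs_long (fun c => ?_) u
    have := e4.commutator_add h.st (lr_add.2 (add_iff.2 e2)) 1 c
    rw [one_mul] at this
    rw [← this]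
    exact commutator_mem_commutator (h.x_mem (S := SR) (R4 14) (by decide +kernel) 1) (h.x_mem r e1 c)
  · refine xs_mem_cj h e0 e1 e2 (fun a => ?_) (fun c => hW (h.x_mem v e3 c)) u
    have := commutator_mem_commutator
      (inv_mem (h.x_mem (S := SR) (R4 14) (by decide +kernel) 1)) (T.xs_mem ht a)
    rwa [commutatorElement_def, inv_inv, mul_assoc, mul_assoc, ← mul_assoc (T.xs t a)] at this

theorem cQR (h : T.KB) (c : T.CT) {u : T.X} (hu : u ∈ T.R) :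
    u ∈ T.Q ↔ ⁅zpowers u, ⁅T.R, T.R⁆⁆ ≤ T.Z := by
  rw [← h.gtZ]
  refine ⟨fun e => (commutator_mono ((zpowers_le).2 e) ?_).trans
    (cm h clQ clQ clZ idZ (by decide +kernel)), fun e => ct h c clR clQ clZ idZ
      (P := {s | 1 ≤ a2 s ∧ 1 ≤ a4 s}) (by decide +kernel) hu fun s hs a =>
        e (commutator_mem_commutator (mem_zpowers u) (mem_RR h hs a))⟩
  exact (cm h clR clR (V := {r | 2 ≤ a2 r + a4 r}) (by decide +kernel) (by decide +kernel)
    (by decide +kernel)).trans (T.gt_mono (show ∀ r ∈ {r | 2 ≤ a2 r + a4 r}, r ∈ SQ by decide +kernel))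

theorem cAR (h : T.KB) (c : T.CT) {u : T.X} (hu : u ∈ T.R) : u ∈ T.A ↔ u ∈ Cs T.El := by
  refine ⟨fun e => commutator_eq_bot_iff_le_centralizer.1 (le_bot_iff.1
    (gt_empty (T := T) ▸ cm h clA clE cl0 id0 (by decide +kernel))) e, fun e =>
      ct h c clR clA cl0 id0 (P := SE) (by decide +kernel) hu fun s hs a => ?_⟩
  rw [commutatorElement_eq_one_iff_mul_comm.2 (e _ (T.xs_mem hs a)).symm]; exact one_mem _

theorem clR' [Finite F] [Finite K] (h : T.KB) :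
    T.R ≤ closure {u | u ∈ T.R ∧ Nat.card F ^ 26 ≤ Nat.card ↥(T.U ⊓ Cz u)} := by
  have nR : T.U ≤ Ns T.R := nrmU h clR (by decide +kernel)
  have k1 : ∀ r : Rt D4, lr r ∈ SR → ∀ c, ∀ g ∈ T.U, g * T.x r c * g⁻¹ ∈
      closure {u | u ∈ T.R ∧ Nat.card F ^ 26 ≤ Nat.card ↥(T.U ⊓ Cz u)} := fun r hr c g hg => by
    refine subset_closure ⟨H98.conj_mem_of_mem_normalizer (nR hg) (h.x_mem r hr c), ?_⟩
    obtain ⟨a1, a2⟩ := (show ∀ r : Rt D4, lr r ∈ SR → Cl {s | 36 ≤ s.1 ∧ 0 ≤ ip (lr r) s} ∧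
      26 ≤ (Finset.univ.filter (· ∈ {s : Rt E6 | 36 ≤ s.1 ∧ 0 ≤ ip (lr r) s})).card
      by decide +kernel) r hr
    refine (Nat.pow_le_pow_right Nat.card_pos a2).trans ?_
    rw [← h.card _ a1, ← H98.card_cj g]
    refine card_le_of_le (H98.cj_le_iff.2 (T.gt_le.2 fun s hs u => H98.mem_cj.2 (mem_inf.2 ⟨?_, mem_Cz.2 ?_⟩)))
    · exact mul_mem (mul_mem (inv_mem (inv_mem hg)) (T.xs_mem (S := SU) hs.1 u)) (inv_mem hg)
    · calc g * T.x r c * g⁻¹ * (g⁻¹⁻¹ * T.xs s u * g⁻¹) = g * (T.x r c * T.xs s u) * g⁻¹ := by group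
        _ = g⁻¹⁻¹ * T.xs s u * g⁻¹ * (g * T.x r c * g⁻¹) := by rw [h.cx r s hs.2]; group
  have k2 : ∀ r : Rt D4, lr r ∈ SR → ∀ c, T.x r c ∈
      closure {u | u ∈ T.R ∧ Nat.card F ^ 26 ≤ Nat.card ↥(T.U ⊓ Cz u)} := fun r hr c => by
    simpa using k1 r hr c 1 (one_mem _)
  refine T.gt_le.2 fun s hs u => ?_
  rcases (show ∀ s ∈ SR, (∃ r : Rt D4, lr r = s) ∨ ∃ r : Rt D4, lr r ∈ SR ∧ ∃ t ∈ SU,
      su (lr r) t = s ∧ gm t ≠ t ∧ ip (lr r) t = -1 ∧ ∃ v : Rt D4,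
        lr v = su (su (lr r) t) (gm t) ∧ lr v ∈ SR by decide +kernel) s hs with
    ⟨r, rfl⟩ | ⟨r, hr, t, ht, rfl, e0, e1, v, e2, e3⟩
  · exact xs_long (k2 r hs) u
  · exact xs_mem_cj h e0 e1 e2
      (fun a => mul_mem (inv_mem (k2 r hr 1)) (k1 r hr 1 _ (T.xs_mem ht a))) (k2 v e3) u

theorem jobRU : H78.TE.JobRU := by
  intro F K _ _ _ _ _ _ T h c
  have q2 : 2 ≤ Nat.card F := Finite.one_lt_card
  refine ⟨q2, h.isP, ?_, ?_, fun e => ?_, ?_, T.gt_mono (show ∀ r ∈ SW, r ∈ SQ by decide +kernel),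
    T.gt_mono (show ∀ r ∈ SQ, r ∈ SR by decide +kernel),
    T.gt_mono (show ∀ r ∈ SA, r ∈ SR by decide +kernel),
    T.gt_mono (show ∀ r ∈ SE, r ∈ SR by decide +kernel), RU, ?_, nrmU h clQ (by decide +kernel),
    nrmU h clW (by decide +kernel), zuR h c, fun u hu hz => nzR h c hu hz, vzR h c,
    fun u hu => cQR h c hu, fun u hu => cVR h c hu, fun u hu => cAR h c hu, cEA h,
    T.gt_le.2 fun r hr u => subset_closure ⟨T.xs_mem hr u, T.xs_sq r u⟩, clR' h⟩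
  · exact (h.card SU clU).trans (congrArg _ (by decide +kernel))
  · show 2 < Nat.card T.W
    rw [h.card SW clW, show (Finset.univ.filter (· ∈ SW)).card = 11 by decide +kernel]
    exact lt_of_lt_of_le (by norm_num) (Nat.pow_le_pow_left q2 11)
  · exact one_ne_zero (h.inj (hi D4) 1 (mem_bot.1 (e (x_mem_XR D4 T.x (hi D4) 1))))
  · exact h.gtZ.ge.trans (T.gt_mono (show ∀ r ∈ SZ, r ∈ SW by decide +kernel))
  · have ab : T.W ≤ Cs T.W := commutator_eq_bot_iff_le_centralizer.1 (le_bot_iff.1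
      (gt_empty (T := T) ▸ cm h clW clW cl0 id0 (by decide +kernel)))
    intro y hy
    induction hy using closure_induction with
    | mem g hg => obtain ⟨r, -, u, rfl⟩ := hg; exact T.xs_sq r u
    | one => exact mul_one 1
    | mul a b ha hb e1 e2 =>
      rw [mul_assoc, ← mul_assoc b, ab ha b hb, mul_assoc, e2, mul_one, e1]
    | inv a _ e => rw [← mul_inv_rev, e, inv_one]

end H23.TE
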