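import Cfsg.Agent.H78.TESpec
import Cfsg.Agent.H67.SAAB
import Cfsg.Agent.H23.TeRU

/-! STD-2E6: jobs JF and WF. -/

set_option autoImplicit false
set_option linter.unusedSectionVars false
set_option synthInstance.maxSize 2048

namespace H23.TE

open Cfsg.Lie H63 H65 H64 H64.SG H68 H78.TE H78.TE.Qd Subgroup H98

theorem jobJF : H78.TE.JobJF := by
  intro F K _ _ _ _ _ _ T X
  have := Fact.mk Nat.prime_two
  have hs := X.kb.st
  have sy := syl_iff.1 X.tb.syl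
  refine ⟨X.tb.cen, ⟨_, 1, one_ne_zero, IsConj.refl _⟩, fun z hz => ?_, ?_, fun P hP α hα => ?_,
    X.br.a3, X.ic.ct, X.fc.a45, X.fc.g4, fun α h1 h2 _ _ y hy e _ => X.fe.a4 α h1 h2 y hy e⟩
  · obtain ⟨c, hc, hg⟩ := hz
    obtain ⟨g, rfl⟩ := isConj_iff.1 hg
    refine ⟨⟨by rw [conj_mul, x_sq hs]; simp, fun e => hc (X.kb.inj _ _ (by simpa using e))⟩,
      cj g T.U, syl_iff.2 (cj_top g ▸ sy.cj g), ?_⟩
    rw [← cj_Cz, O2_eq, ← cj_res, ← O2_eq, X.pa.cz _ _ hc]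
    refine cj_mono g (le_trans ?_ (H67.SA.le_O2_of_perfect X.pb.perf))
    exact X.pa.p0 ▸ T.gt_mono (show ∀ r ∈ SU, r ∈ SP by decide +kernel)
  · rintro z g ⟨c, hc, k⟩
    exact ⟨c, hc, k.trans (isConj_iff.2 ⟨g, rfl⟩)⟩
  · obtain ⟨g, -, rfl⟩ := sy.exists_cj_eq (syl_iff.1 hP)
    obtain ⟨c, hc⟩ := X.ca.cQ ((MulAut.conj g)⁻¹ * α * MulAut.conj g) fun u hu => by
      rw [MulAut.mul_apply, MulAut.mul_apply, MulAut.conj_apply, hα _ (conj_mem_cj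
        (T.gt_mono (show ∀ r ∈ SQ, r ∈ SU by decide +kernel) hu))]
      simp [mul_assoc]
    refine ⟨_, conj_mem_cj (X.kb.x_mem (S := SU) (hi D4) (by decide +kernel) c), by
      rw [map_mul, map_mul, ← hc, map_inv]; group, ?_⟩
    by_cases h0 : c = 0
    · left; rw [h0, hs.x_zero]; simp
    · exact Or.inr ⟨c, h0, isConj_iff.2 ⟨g, rfl⟩⟩

theorem jobWF : H78.TE.JobWF := by
  intro F K _ _ _ _ _ _ T X
  have h := X.kb
  have := X.tb.simple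
  have c0 : center T.X = ⊥ := eq_bot_iff.2 fun g hg => X.tb.cen g (MulEquiv.ext fun y => by
    rw [MulAut.conj_apply, ← mem_center_iff.1 hg y, mul_inv_cancel_right]; rfl)
  refine ⟨X.ru, ⟨fun N hN => hN.eq_bot_or_eq_top.imp_left fun (e : N = ⊥) => e.le.trans bot_le, X.tb.perf,
    by rw [c0, card_bot]; exact odd_one, X.tb.syl, ?_, fun y hy => ?_⟩,
    X.br.a3, fun β hβ => H67.SA.mem_cI.2 (X.ca.cW β hβ), fun β hβ => H67.SA.mem_St_iff_map.2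
      (X.ub.nr β (H67.SA.mem_St_iff_map.1 hβ) SR clR (by decide +kernel)),
    fun β hβ => H67.SA.mem_St_iff_map.2
      (X.ub.nr β (H67.SA.mem_St_iff_map.1 hβ) SW clW (by decide +kernel)),
    fun β hβ h2 h3 => X.ub.ub β (H67.SA.mem_St_iff_map.1 hβ) h2 fun g hg e =>
      h3 (H67.SA.mem_cI.2 ⟨g, hg, e⟩), X.br.ab, X.fe.sz, X.ic.oc⟩
  · refine eq_top_iff.2 (X.tb.gen.ge.trans (T.gt_le.2 fun r hr u => subset_closure ?_))
    rcases (show ∀ r ∈ {r : Rt E6 | hN r = 1 ∨ hN r = -1},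
        (∀ s ∈ SW, s ≠ ng r ∧ (ip r s = -1 → su r s ∈ SW)) ∨
        (∀ s ∈ SQ, s ≠ ng r ∧ (ip r s = -1 → su r s ∈ SQ)) ∧ 0 ≤ ip (lr (R4 23)) r
        by decide +kernel) r hr with e | ⟨e, e'⟩
    · exact .inl ⟨T.xs_sq r u, h.nrm SW clW r e u⟩
    · refine .inr ⟨T.xs_sq r u, h.nrm SQ clQ r e u, fun z hz => ?_⟩
      obtain ⟨c, rfl⟩ := h.st.mem_XR.1 hz
      exact h.cx (hi D4) r e' c u
  · have k : ∀ w ∈ T.W, IsConj y w → ∃ g : T.X, g * y * g⁻¹ ∈ T.W := fun w hw e => by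
      obtain ⟨g, rfl⟩ := isConj_iff.1 e
      exact ⟨g, hw⟩
    rcases X.ic.ic y hy with e | e | e
    · exact k _ (h.x_mem (S := SW) (hi D4) (by decide +kernel) 1) e
    · exact k _ (T.xs_mem (S := SW) (by decide +kernel) 1) e
    · exact k _ (mul_mem (T.xs_mem (S := SW) (by decide +kernel) 1)
        (h.x_mem (S := SW) (R4 20) (by decide +kernel) 1)) e

end H23.TE
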