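import Cfsg.Agent.Base
import Cfsg.Agent.H31.SmallNorm
import Cfsg.Agent.H29.Burnside
import Cfsg.Agent.H30.Vanish
import Cfsg.Agent.H28.Degree
import Cfsg.Agent.H83.AbChar
import Cfsg.Agent.H4.Cover
import Cfsg.Agent.S3784

/-! Simple groups whose class sizes have at most two prime divisors: the character argument. -/

set_option autoImplicit false

namespace H23.Two

open Cfsg Subgroup H4 H28

variable {G : Type*} [Group G] [Fintype G]

/-- a generalized character of norm `3` supported on the `q`-central elements -/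
structure Al (q : ℕ) (α : G → ℂ) : Prop where
  gen : IsGeneralizedCharacter G α
  nrm : classInner α α = 3
  one : classInner α (fun _ => 1) = 1
  sup : ∀ g, α g ≠ 0 → g ≠ 1 ∧ ¬ q ∣ ind g

theorem sum_two (C N : Subgroup G) (h : C ≤ N) (hi : C.relIndex N = 2) (f : G → ℂ) (a b : ℂ)
    (h1 : ∀ y ∈ C, f y = a) (h2 : ∀ y ∈ N, y ∉ C → f y = b) (h3 : ∀ y ∉ N, f y = 0) :
    ∑ y, f y = Nat.card C * (a + b) := by
  classical
  have k : ∀ (K : Subgroup G) (c : ℂ), ∑ y, (if y ∈ K then c else 0) = Nat.card K * c := fun K c => by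
    rw [← Finset.sum_filter, Finset.sum_const, nsmul_eq_mul, Nat.card_eq_fintype_card,
      Fintype.card_subtype]
  have e : ∀ y, f y = (if y ∈ C then a - b else 0) + (if y ∈ N then b else 0) := fun y => by
    by_cases hC : y ∈ C
    · simp [hC, h hC, h1 y hC]
    · by_cases hN : y ∈ N
      · simp [hC, hN, h2 y hN hC]
      · simp [hC, hN, h3 y hN]
  have c : Nat.card N = Nat.card C * 2 := by
    rw [← hi, ← (C.subgroupOf N).card_mul_index, Nat.card_congr (subgroupOfEquivOfLe h).toEquiv]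
    rfl
  simp only [e, Finset.sum_add_distrib, k, c]
  push_cast
  ring

theorem exists_al {q : ℕ} [hq : Fact q.Prime] (h2 : q ≠ 2) (Q : Sylow q G)
    (hQ : (Q : Subgroup G) ≠ ⊥) (hc : (Q : Subgroup G) ≤ centralizer ((Q : Subgroup G) : Set G))
    (hx : ∀ x ∈ (Q : Subgroup G), x ≠ 1 →
      centralizer {x} ≤ centralizer ((Q : Subgroup G) : Set G))
    (hi : (centralizer ((Q : Subgroup G) : Set G)).relIndex
      (normalizer ((Q : Subgroup G) : Set G)) = 2) : ∃ α : G → ℂ, Al q α := by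
  classical
  set C := centralizer ((Q : Subgroup G) : Set G) with hC
  set N := normalizer ((Q : Subgroup G) : Set G) with hN
  set H := (Q : Subgroup G).subgroupOf C
  have hk : ¬ q ∣ H.index := fun h => Q.not_dvd_index (h.trans (relIndex_dvd_index_of_le hc))
  obtain ⟨j, hj⟩ := IsPGroup.iff_card.1 Q.isPGroup'
  have cop : (Nat.card Q).Coprime H.index :=
    hj ▸ Nat.Coprime.pow_left j (hq.out.coprime_iff_not_dvd.2 hk)
  have key : ∀ (g : C) (k : ℕ) (g₀ : C), g₀⁻¹ * g ^ k * g₀ ∈ H → g₀⁻¹ * g ^ k * g₀ = g ^ k :=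
    fun g k g₀ h => by
      have := g₀.2 _ h
      have e : g₀⁻¹ * g ^ k * g₀ * g₀ = g₀ * (g₀⁻¹ * g ^ k * g₀) := Subtype.ext this
      rw [← mul_assoc, ← mul_assoc, mul_inv_cancel, one_mul] at e
      exact mul_right_cancel e
  have hm : ∀ g : C, (g : G) ^ H.index ∈ (Q : Subgroup G) := fun g =>
    MonoidHom.transfer_eq_pow_aux g (key g)
  obtain ⟨x0, hx0⟩ := ne_bot_iff_exists_ne_one.1 hQ
  have hx1 : (x0 ^ 2) ^ H.index ≠ 1 := fun e => hx0 (by
    have a : (Nat.card Q).Coprime (2 * H.index) := Nat.Coprime.mul_right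
      (hj ▸ Nat.Coprime.pow_left j ((Nat.coprime_primes hq.out Nat.prime_two).2 h2)) cop
    rw [← pow_mul] at e
    exact (powCoprime a).injective (by simpa using e))
  obtain ⟨μ, hμ⟩ := H83.exists_hom_apply_ne_one (A := (Q : Subgroup G))
    (fun a b => Subtype.ext (hc b.2 a a.2)) hx1
  let lam : C →* ℂˣ := MonoidHom.transfer (μ.comp (subgroupOfEquivOfLe hc).toMonoidHom)
  have hl : ∀ g : C, lam g = μ ⟨g ^ H.index, hm g⟩ := fun g =>
    MonoidHom.transfer_eq_pow _ g (key g)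
  have l2 : lam ⟨x0, hc x0.2⟩ ^ 2 ≠ 1 := by
    rw [hl, ← map_pow]
    refine fun e => hμ (e ▸ congrArg μ (Subtype.ext ?_))
    simp only [SubmonoidClass.coe_pow, ← pow_mul, mul_comm]
  let l : C → ℂ := fun g => lam g
  let l' : C → ℂ := fun g => lam⁻¹ g
  have il : IsIrrCharacter C l := isIrrCharacter_of_hom lam
  have il' : IsIrrCharacter C l' := isIrrCharacter_of_hom lam⁻¹
  have i1 : IsIrrCharacter C fun _ => 1 := isIrrCharacter_one
  have n1 : l ≠ fun _ => 1 := fun e => l2 (by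
    rw [Units.val_eq_one.1 (congrFun e ⟨x0, hc x0.2⟩), one_pow])
  have n2 : l' ≠ fun _ => 1 := fun e => l2 (by
    rw [inv_eq_one.1 (Units.val_eq_one.1 (congrFun e ⟨x0, hc x0.2⟩)), one_pow])
  have n3 : l ≠ l' := fun e => l2 (by
    rw [pow_two, ← eq_inv_iff_mul_eq_one]; exact Units.val_injective (congrFun e ⟨x0, hc x0.2⟩))
  let ψ : C → ℂ := (fun _ => 1) - l
  have s1 : ∀ c : C, ψ c ≠ 0 → (c : G) ^ H.index ≠ 1 := fun c h e => h (by
    simp only [ψ, l, hl, Pi.sub_apply]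
    rw [show (⟨(c : G) ^ H.index, hm c⟩ : (Q : Subgroup G)) = 1 from Subtype.ext e]
    simp)
  have hCN : C ≤ N := centralizer_le_normalizer _
  have val : ∀ c : C, ψ c ≠ 0 → indFun C ψ c = ψ c + (1 - l' c) := fun c h => by
    rw [H33.indFun_apply', sum_two C N hCN hi _ (ψ c) (1 - l' c), ← mul_assoc,
      inv_mul_cancel₀ (card_ne_zero' C), one_mul]
    · intro y hy
      rw [H33.ext0_conj_mem C (i1.isClassFunction.sub il.isClassFunction) hy, H33.ext0_coe]
    · intro y hy hyC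
      have a : y * c * y⁻¹ ∈ C := fun n hn => by
        have := c.2 _ ((inv_mem hy n).1 hn)
        calc n * (y * c * y⁻¹) = y * (y⁻¹ * n * y⁻¹⁻¹ * c) * y⁻¹ := by group
          _ = _ := by rw [this]; group
      have b : y * y ∈ C := mul_self_mem_of_index_two (H := C.subgroupOf N) hi ⟨y, hy⟩
      have x1 := hm c
      rw [H33.ext0_of_mem _ _ a]
      simp only [ψ, l, l', hl, Pi.sub_apply, MonoidHom.inv_apply, ← map_inv]
      congr 3
      refine Subtype.ext ?_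
      simp only [conj_pow, coe_inv]
      generalize (c : G) ^ H.index = x at x1
      have x2 : y * x * y⁻¹ ∈ (Q : Subgroup G) := (hy x).1 x1
      rw [eq_inv_iff_mul_eq_one]
      by_contra e
      refine hyC (hx _ (mul_mem x2 x1) e (mem_cent_iff.2 ?_))
      have e1 := b x x1
      have e2 := hc x1 _ x2
      calc y * (y * x * y⁻¹ * x) = (y * y * x) * y⁻¹ * x := by group
        _ = x * (y * x * y⁻¹) * y := by rw [← e1]; group
        _ = _ := by rw [e2]
    · intro y hy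
      refine H33.ext0_of_not_mem _ _ fun a => hy (mem_normalizer_fintype fun n hn => ?_)
      have x1 := s1 c h
      have x2 := hm ⟨_, a⟩
      simp only [conj_pow] at x2
      have b : y * n * y⁻¹ ∈ C := hx _ x2 (by simpa using x1) (mem_cent_iff.2 (by
        have := hc (hm c) n hn
        calc y * n * y⁻¹ * (y * (c : G) ^ H.index * y⁻¹) = y * (n * c ^ H.index) * y⁻¹ := by group
          _ = _ := by rw [this]; group))
      have o : orderOf (y * n * y⁻¹) ∣ Nat.card Q := by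
        rw [orderOf_dvd_iff_pow_eq_one, conj_pow,
          orderOf_dvd_iff_pow_eq_one.1 (orderOf_dvd_natCard _ hn), mul_one, mul_inv_cancel]
      exact zpowers_le.2 (hm ⟨_, b⟩) (mem_zpowers_pow_iff.2 (cop.symm.coprime_dvd_right o))
  refine ⟨indFun C ψ, H31.isGenChar_indFun C
    (i1.isGeneralizedCharacter.sub il.isGeneralizedCharacter), ?_, ?_, fun g hg => ?_⟩
  · rw [H33.classInner_indFun_left C ψ (H33.indFun_isClassFunction C ψ)]
    have : classInner ψ (fun h : C => indFun C ψ h) = classInner ψ (ψ + ((fun _ => 1) - l')) := by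
      simp only [classInner]
      congr 1
      refine Finset.sum_congr rfl fun c _ => ?_
      by_cases h : ψ c = 0
      · rw [h, zero_mul, zero_mul]
      · rw [val c h]; rfl
    rw [this]
    simp only [ψ, classInner_add_right, classInner_sub_left, classInner_sub_right,
      i1.classInner_self, il.classInner_self, il.classInner_of_ne i1 n1,
      i1.classInner_of_ne il n1.symm, i1.classInner_of_ne il' n2.symm, il.classInner_of_ne il' n3]
    norm_num
  · rw [H33.classInner_indFun_left C ψ (isClassFunction_const 1)]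
    simp only [ψ, classInner_sub_left, i1.classInner_self, il.classInner_of_ne i1 n1, sub_zero]
  · obtain ⟨y, hy, e⟩ : ∃ y : C, IsConj g (y : G) ∧ ψ y ≠ 0 := by
      by_contra! a
      exact hg (H33.indFun_eq_zero_of C ψ g a)
    obtain ⟨a, ha⟩ := isConj_iff.1 hy
    refine ⟨?_, ?_⟩
    · rintro rfl
      exact s1 y e (by rw [← ha]; simp)
    · rw [← ind_conj a, ha]
      exact not_dvd_ind_of_mem_centralizer_sylow Q y.2

theorem vanish [IsSimpleGroup G] (hZ : center G = ⊥) {χ : G → ℂ} (h : IsIrrCharacter G χ)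
    (h1 : χ ≠ fun _ => 1) {g : G} (hg : g ≠ 1) (hc : (charDegree χ).Coprime (ind g)) : χ g = 0 := by
  have k := h.charCenter_eq_center (h.charKer_eq_bot_of_simple h1)
  have h' := h
  obtain ⟨n, ρ, hρ, rfl⟩ := h
  rw [charDegree_rep] at hc
  refine (H29.char_eq_zero_or_norm_eq_of_coprime ρ g hc).resolve_right fun e => hg ?_
  rw [← mem_bot, ← hZ, ← k, h'.mem_charCenter, e, ρ.char_one, Complex.natCast_re]

theorem Al.decomp {q : ℕ} {α : G → ℂ} (h : Al q α) : ∃ χ ψ, IsIrrCharacter G χ ∧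
    IsIrrCharacter G ψ ∧ χ ≠ ψ ∧ (χ ≠ fun _ => 1) ∧ (ψ ≠ fun _ => 1) ∧ ∃ c d : ℤ,
    (c = 1 ∨ c = -1) ∧ (d = 1 ∨ d = -1) ∧ α = (fun _ => 1) + ((c : ℂ) • χ + (d : ℂ) • ψ) := by
  have i1 : IsIrrCharacter G fun _ => 1 := isIrrCharacter_one
  have a := H31.norm_sub_smul i1 (c := 1) (by simpa using h.one)
  have b := H31.inner_sub_smul_self i1 (c := 1) (by simpa using h.one)
  obtain ⟨χ, ψ, h1, h2, h3, c, d, hc, hd, e⟩ := H31.exists_of_norm_two
    (h.gen.sub (i1.isGeneralizedCharacter.intCast_smul 1)) (by rw [a, h.nrm]; norm_num)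
  rw [e, classInner_add_left, classInner_smul_left, classInner_smul_left] at b
  refine ⟨χ, ψ, h1, h2, h3, ?_, ?_, c, d, hc, hd, by rw [← e]; simp⟩
  · rintro rfl
    rw [i1.classInner_self, h2.classInner_of_ne i1 h3.symm] at b
    rcases hc with rfl | rfl <;> simp at b
  · rintro rfl
    rw [i1.classInner_self, h1.classInner_of_ne i1 h3] at b
    rcases hd with rfl | rfl <;> simp at b

theorem pow_of_primes {n p : ℕ} (hn : n ≠ 0) (h : ∀ s, s.Prime → s ∣ n → s = p) : ∃ k, n = p ^ k :=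
  ⟨_, Nat.eq_prime_pow_of_unique_prime_dvd hn fun hs hd => h _ hs hd⟩

/-- the arithmetic of three consecutive degrees -/
theorem arith {q r n a b : ℕ} (hq : q.Prime) (hr : r.Prime) (hqr : q ≠ r) (hn : 0 < n) (ha : 0 < a)
    (hb : 0 < b) (h : (a = n + 1 ∧ b + 1 = n) ∨ (b = n + 1 ∧ a + 1 = n))
    (hp : ∀ s, s.Prime → s ∣ n ∨ s ∣ a ∨ s ∣ b → s = 2 ∨ s = q ∨ s = r)
    (n1 : ∀ k, n ≠ q ^ k) (n2 : ∀ k, n ≠ r ^ k) (a1 : ∀ k, a ≠ q ^ k) (b1 : ∀ k, b ≠ r ^ k) :
    (∃ k, n = 2 ^ k) ∧ (∃ k, a = r ^ k) ∧ (∃ k, b = q ^ k) ∧ ¬ 2 ∣ a ∧ ¬ 2 ∣ b ∧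
      (n = 4 ∨ n = 8) := by
  have c1 : ∀ s, s.Prime → s ∣ n → ¬ s ∣ a ∧ ¬ s ∣ b := fun s hs h1 => by
    have k1 : ¬ s ∣ n + 1 := fun e => hs.one_lt.ne' (Nat.dvd_one.1 ((Nat.dvd_add_right h1).1 e))
    have k2 : ∀ x, x + 1 = n → ¬ s ∣ x := fun x e e1 =>
      hs.one_lt.ne' (Nat.dvd_one.1 ((Nat.dvd_add_right e1).1 (e ▸ h1)))
    rcases h with ⟨rfl, e⟩ | ⟨rfl, e⟩
    exacts [⟨k1, k2 _ e⟩, ⟨k2 _ e, k1⟩]
  have k : ∀ {m s t : ℕ}, 0 < m → ¬ 2 ∣ m → (∀ u, u.Prime → u ∣ m → u = 2 ∨ u = s ∨ u = t) →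
      (∀ k, m ≠ s ^ k) → t ∣ m := fun {m s t} hm h2 h3 h4 => by
    by_contra e
    obtain ⟨k, hk⟩ := pow_of_primes (p := s) hm.ne' fun u hu hd => by
      rcases h3 u hu hd with rfl | rfl | rfl <;> tauto
    exact h4 k hk
  by_cases h2 : 2 ∣ n
  · obtain ⟨o1, o2⟩ := c1 2 Nat.prime_two h2
    have d1 : r ∣ a := k ha o1 (fun u hu hd => hp u hu (by tauto)) a1
    have d2 : q ∣ b := k hb o2 (fun u hu hd => by have := hp u hu (by tauto); tauto) b1
    have c2 : ∀ s, s.Prime → s ∣ a → s ∣ b → False := fun s hs h1 h3 => by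
      have : s ∣ 2 := by
        rcases h with ⟨rfl, rfl⟩ | ⟨rfl, rfl⟩
        exacts [(Nat.dvd_add_right h3).1 h1, (Nat.dvd_add_right h1).1 h3]
      exact o1 ((Nat.prime_dvd_prime_iff_eq hs Nat.prime_two).1 this ▸ h1)
    obtain ⟨s, hs⟩ := pow_of_primes (p := 2) hn.ne' fun u hu hd => by
      rcases hp u hu (Or.inl hd) with rfl | rfl | rfl
      exacts [rfl, ((c1 u hu hd).2 d2).elim, ((c1 u hu hd).1 d1).elim]
    obtain ⟨i, hi⟩ := pow_of_primes (p := r) ha.ne' fun u hu hd => by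
      rcases hp u hu (by tauto) with rfl | rfl | rfl
      exacts [(o1 hd).elim, (c2 u hu hd d2).elim, rfl]
    obtain ⟨j, hj⟩ := pow_of_primes (p := q) hb.ne' fun u hu hd => by
      rcases hp u hu (by tauto) with rfl | rfl | rfl
      exacts [(o2 hd).elim, rfl, (c2 u hu d1 hd).elim]
    refine ⟨⟨s, hs⟩, ⟨i, hi⟩, ⟨j, hj⟩, o1, o2, ?_⟩
    have i0 : 1 ≤ i := Nat.pos_of_ne_zero fun e => a1 0 (by rw [hi, e]; rfl)
    have j0 : 1 ≤ j := Nat.pos_of_ne_zero fun e => b1 0 (by rw [hj, e]; rfl)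
    have s0 : 1 ≤ s := Nat.pos_of_ne_zero fun e => n1 0 (by rw [hs, e]; rfl)
    have h3 : ¬ 3 ∣ n := fun e => by
      have := (Nat.prime_dvd_prime_iff_eq Nat.prime_three Nat.prime_two).1
        (Nat.prime_three.dvd_of_dvd_pow (hs ▸ e))
      omega
    have key : ∀ {x y t u i j : ℕ}, t.Prime → u.Prime → 1 ≤ i → 1 ≤ j → x = t ^ i → y = u ^ j →
        x = n + 1 → y + 1 = n → n = 4 ∨ n = 8 := fun {x y t u i j} ht hu i0 j0 hx hy e1 e2 => by
      have y1 : 2 ≤ y := hy ▸ hu.two_le.trans (Nat.le_self_pow (by omega) u)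
      rcases (by omega : ∀ n x y, ¬ 3 ∣ n → x = n + 1 → y + 1 = n → 3 ∣ x ∨ 3 ∣ y) n x y h3 e1 e2
        with e | e
      · obtain rfl := (Nat.prime_dvd_prime_iff_eq Nat.prime_three ht).1
          (Nat.prime_three.dvd_of_dvd_pow (hx ▸ e))
        rcases Cfsg.Agent.S3784.result 3 2 i s Nat.prime_three Nat.prime_two i0 s0 (by omega) with
          ⟨h, -⟩ | ⟨-, -, -, h⟩ | ⟨-, h⟩ <;> omega
      · obtain rfl := (Nat.prime_dvd_prime_iff_eq Nat.prime_three hu).1
          (Nat.prime_three.dvd_of_dvd_pow (hy ▸ e))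
        rcases Cfsg.Agent.S3784.result 2 3 s j Nat.prime_two Nat.prime_three s0 j0 (by omega) with
          ⟨-, -, -, h⟩ | ⟨h, -⟩ | ⟨h, -⟩ <;> omega
    rcases h with ⟨e1, e2⟩ | ⟨e1, e2⟩
    exacts [key hr hq i0 j0 hi hj e1 e2, key hq hr j0 i0 hj hi e1 e2]
  · exfalso
    have d1 : r ∣ n := k hn h2 (fun u hu hd => hp u hu (Or.inl hd)) n1
    have d2 : q ∣ n := k hn h2 (fun u hu hd => by have := hp u hu (Or.inl hd); tauto) n2
    obtain ⟨i, hi⟩ := pow_of_primes (p := 2) ha.ne' fun u hu hd => by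
      rcases hp u hu (by tauto) with rfl | rfl | rfl
      exacts [rfl, ((c1 u hu d2).1 hd).elim, ((c1 u hu d1).1 hd).elim]
    obtain ⟨j, hj⟩ := pow_of_primes (p := 2) hb.ne' fun u hu hd => by
      rcases hp u hu (by tauto) with rfl | rfl | rfl
      exacts [rfl, ((c1 u hu d2).2 hd).elim, ((c1 u hu d1).2 hd).elim]
    have f : ∀ i, 2 ^ i = 1 ∨ 2 ^ i = 2 ∨ 4 ∣ 2 ^ i := fun i => by
      rcases i with _ | _ | i
      exacts [Or.inl rfl, Or.inr (Or.inl rfl), Or.inr (Or.inr ⟨2 ^ i, by ring⟩)]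
    have : n = 3 := by have := f i; have := f j; omega
    subst this
    exact hqr (((Nat.prime_dvd_prime_iff_eq hq Nat.prime_three).1 d2).trans
      ((Nat.prime_dvd_prime_iff_eq hr Nat.prime_three).1 d1).symm)

theorem ind_two_primes [IsSimpleGroup G] (hZ : center G = ⊥) {g : G} (hg : g ≠ 1) {p : ℕ}
    (hp : p.Prime) : ∃ s, s.Prime ∧ s ∣ ind g ∧ s ≠ p := by
  by_contra! a
  obtain ⟨k, hk⟩ := pow_of_primes (ind_pos g).ne' a
  have := Fact.mk (H29.prime_card_of_simple_of_prime_pow_class hp hg hk)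
  have := isCyclic_of_prime_card (α := G) rfl
  exact hg (mem_bot.1 (hZ ▸ mem_center_iff.2 fun x => IsCyclic.commGroup.mul_comm x g))

theorem order_of_al [IsSimpleGroup G] (hZ : center G = ⊥) {q r : ℕ} [hq : Fact q.Prime]
    [hr : Fact r.Prime] (hqr : q ≠ r) (q2 : q ≠ 2) (r2 : r ≠ 2)
    (hp : ∀ s, s.Prime → s ∣ Nat.card G → s = 2 ∨ s = q ∨ s = r)
    (hyp : ∀ g : G, ¬ 2 ∣ ind g ∨ ¬ q ∣ ind g ∨ ¬ r ∣ ind g)
    (Q : Sylow q G) (R : Sylow r G) (hQ : ∀ x ∈ (Q : Subgroup G), ¬ q ∣ ind x)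
    (hR : ∀ x ∈ (R : Subgroup G), ¬ r ∣ ind x) {α β : G → ℂ} (ha : Al q α) (hb : Al r β) :
    Nat.card G = 60 ∨ Nat.card G = 504 := by
  classical
  have i1 : IsIrrCharacter G fun _ => 1 := isIrrCharacter_one
  have o : classInner α β = 0 := by
    rw [classInner, Finset.sum_eq_zero, mul_zero]
    intro g _
    by_contra e
    obtain ⟨a1, a2⟩ := ha.sup g (left_ne_zero_of_mul e)
    obtain ⟨-, b2⟩ := hb.sup g fun e1 => e (by rw [e1, map_zero, mul_zero])
    obtain ⟨s, s1, s2, s3⟩ := ind_two_primes hZ a1 Nat.prime_two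
    rcases hp s s1 (s2.trans (index_dvd_card _)) with rfl | rfl | rfl <;> contradiction
  have van : ∀ {χ : G → ℂ} {s k : ℕ}, s.Prime → IsIrrCharacter G χ → (χ ≠ fun _ => 1) →
      charDegree χ = s ^ k → ∀ g, g ≠ 1 → ¬ s ∣ ind g → χ g = 0 := fun hs h h1 e g hg hd =>
    vanish hZ h h1 hg (e ▸ Nat.Coprime.pow_left _ (hs.coprime_iff_not_dvd.2 hd))
  have np : ∀ {s : ℕ} {γ χ ψ : G → ℂ} {c d : ℤ}, s.Prime → Al s γ → IsIrrCharacter G χ →
      IsIrrCharacter G ψ → χ ≠ ψ → (χ ≠ fun _ => 1) → (c = 1 ∨ c = -1) →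
      γ = (fun _ => 1) + ((c : ℂ) • χ + (d : ℂ) • ψ) → ∀ k, charDegree χ ≠ s ^ k := by
    intro s γ χ ψ c d hs h h1 h2 h3 h4 hc e k hk
    have : classInner γ χ = 0 := by
      rw [classInner, Finset.sum_eq_zero, mul_zero]
      intro g _
      by_cases e1 : γ g = 0
      · rw [e1, zero_mul]
      · rw [van hs h1 h4 hk g (h.sup g e1).1 (h.sup g e1).2, map_zero, mul_zero]
    rw [e, classInner_add_left, classInner_add_left, classInner_smul_left, classInner_smul_left,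
      i1.classInner_of_ne h1 h4.symm, h1.classInner_self, h2.classInner_of_ne h1 h3.symm] at this
    rcases hc with rfl | rfl <;> simp at this
  obtain ⟨ψ, θ, η, c, a, b, hψ, hθ, hη, n1, n2, m1, m2, m3, hc, ha', hb', e1, e2⟩ :
      ∃ ψ θ η : G → ℂ, ∃ c a b : ℤ, IsIrrCharacter G ψ ∧ IsIrrCharacter G θ ∧ IsIrrCharacter G η ∧
        ψ ≠ θ ∧ ψ ≠ η ∧ (ψ ≠ fun _ => 1) ∧ (θ ≠ fun _ => 1) ∧ (η ≠ fun _ => 1) ∧
        (c = 1 ∨ c = -1) ∧ (a = 1 ∨ a = -1) ∧ (b = 1 ∨ b = -1) ∧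
        α = (fun _ => 1) + ((c : ℂ) • ψ + (a : ℂ) • θ) ∧
        β = (fun _ => 1) + (((-c : ℤ) : ℂ) • ψ + (b : ℂ) • η) := by
    obtain ⟨χ1, χ2, h1, h2, h3, h4, h5, c1, c2, h6, h7, e1⟩ := ha.decomp
    obtain ⟨η1, η2, k1, k2, k3, k4, k5, d1, d2, k6, k7, e2⟩ := hb.decomp
    rw [e1, e2] at o
    simp only [classInner_add_left, classInner_add_right, classInner_smul_left,
      classInner_smul_right, i1.classInner_self, i1.classInner_of_ne k1 k4.symm,
      i1.classInner_of_ne k2 k5.symm, h1.classInner_of_ne i1 h4, h2.classInner_of_ne i1 h5,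
      h1.classInner_eq k1, h1.classInner_eq k2, h2.classInner_eq k1, h2.classInner_eq k2,
      map_intCast] at o
    by_cases t1 : χ1 = η1 ∧ d1 = -c1
    · exact ⟨χ1, χ2, η2, c1, c2, d2, h1, h2, k2, h3, t1.1 ▸ k3, h4, h5, k5, h6, h7, k7, e1,
        t1.1 ▸ t1.2 ▸ e2⟩
    by_cases t2 : χ1 = η2 ∧ d2 = -c1
    · exact ⟨χ1, χ2, η1, c1, c2, d1, h1, h2, k1, h3, t2.1 ▸ k3.symm, h4, h5, k4, h6, h7, k6, e1,
        by rw [e2, t2.1, t2.2, add_comm (_ • η1)]⟩
    by_cases t3 : χ2 = η1 ∧ d1 = -c2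
    · exact ⟨χ2, χ1, η2, c2, c1, d2, h2, h1, k2, h3.symm, t3.1 ▸ k3, h5, h4, k5, h7, h6, k7,
        by rw [e1, add_comm (_ • χ1)], t3.1 ▸ t3.2 ▸ e2⟩
    by_cases t4 : χ2 = η2 ∧ d2 = -c2
    · exact ⟨χ2, χ1, η1, c2, c1, d1, h2, h1, k1, h3.symm, t4.1 ▸ k3.symm, h5, h4, k4, h7, h6, k6,
        by rw [e1, add_comm (_ • χ1)], by rw [e2, t4.1, t4.2, add_comm (_ • η1)]⟩
    exfalso
    have f : ∀ (P : Prop) [Decidable P] (c d : ℤ), (c = 1 ∨ c = -1) → (d = 1 ∨ d = -1) →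
        ¬ (P ∧ d = -c) → ∃ m : ℕ, (c : ℂ) * (d * if P then 1 else 0) = m := by
      intro P _ c d hc hd h
      by_cases hP : P
      · exact ⟨1, by rcases hc with rfl | rfl <;> rcases hd with rfl | rfl <;> simp_all⟩
      · exact ⟨0, by simp [hP]⟩
    obtain ⟨m1, f1⟩ := f _ _ _ h6 k6 t1
    obtain ⟨m2, f2⟩ := f _ _ _ h6 k7 t2
    obtain ⟨m3, f3⟩ := f _ _ _ h7 k6 t3
    obtain ⟨m4, f4⟩ := f _ _ _ h7 k7 t4
    have : ((1 + m1 + m2 + m3 + m4 : ℕ) : ℂ) = 0 := by
      push_cast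
      linear_combination o - f1 - f2 - f3 - f4
    exact absurd (Nat.cast_eq_zero.1 this) (by omega)
  have z1 : α 1 = 0 := by_contra fun e => (ha.sup 1 e).1 rfl
  have z2 : β 1 = 0 := by_contra fun e => (hb.sup 1 e).1 rfl
  rw [e1] at z1
  rw [e2] at z2
  simp only [Pi.add_apply, Pi.smul_apply, smul_eq_mul, ← hψ.cast_charDegree, ← hθ.cast_charDegree,
    ← hη.cast_charDegree] at z1 z2
  have y1 : 1 + (c * charDegree ψ + a * charDegree θ) = 0 := by exact_mod_cast z1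
  have y2 : 1 + (-c * charDegree ψ + b * charDegree η) = 0 := by exact_mod_cast z2
  have p1 := hψ.charDegree_pos
  have p2 := hθ.charDegree_pos
  have p3 := hη.charDegree_pos
  have hn : (charDegree θ = charDegree ψ + 1 ∧ charDegree η + 1 = charDegree ψ) ∨
      (charDegree η = charDegree ψ + 1 ∧ charDegree θ + 1 = charDegree ψ) := by
    rcases hc with rfl | rfl <;> rcases ha' with rfl | rfl <;> rcases hb' with rfl | rfl <;> omega
  obtain ⟨⟨s, hs⟩, ⟨i, hi⟩, ⟨j, hj⟩, o1, o2, h48⟩ := arith hq.out hr.out hqr p1 p2 p3 hn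
    (fun s hs h => hp s hs (by
      rcases h with h | h | h
      exacts [h.trans hψ.charDegree_dvd_card, h.trans hθ.charDegree_dvd_card,
        h.trans hη.charDegree_dvd_card]))
    (np hq.out ha hψ hθ n1 m1 hc e1) (np hr.out hb hψ hη n2 m1 (by omega) e2)
    (np hq.out ha hθ hψ n1.symm m2 ha' (by rw [e1, add_comm (_ • ψ)]))
    (np hr.out hb hη hψ n2.symm m3 hb' (by rw [e2, add_comm (_ • ψ)]))
  have := Fact.mk Nat.prime_two
  obtain ⟨P⟩ : Nonempty (Sylow 2 G) := inferInstance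
  have hP : ∀ x ∈ (P : Subgroup G), x ≠ 1 → ¬ 2 ∣ ind x := fun x hx x1 => by
    obtain ⟨k, hk⟩ := IsPGroup.iff_orderOf.1 P.isPGroup' ⟨x, hx⟩
    rw [← orderOf_coe] at hk
    have d2 : 2 ∣ orderOf x := by
      rcases k with _ | k
      · exact (x1 (orderOf_eq_one_iff.1 hk)).elim
      · exact hk ▸ dvd_pow_self 2 k.succ_ne_zero
    have t := orderOf_pow_orderOf_div (orderOf_pos x).ne' d2
    have inv : ∀ {χ : G → ℂ} {s k : ℕ}, s.Prime → IsIrrCharacter G χ → (χ ≠ fun _ => 1) →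
        charDegree χ = s ^ k → ¬ 2 ∣ charDegree χ → s ∣ ind x := fun hs h h1 e o => by
      by_contra a
      refine o ?_
      rw [← t, ← Nat.card_zpowers]
      refine H30.card_dvd_degree_of_vanishing h.isCharacter _ (fun y hy y1 => ?_)
        h.cast_charDegree.symm
      obtain ⟨m, rfl⟩ := mem_powers_iff_mem_zpowers.2 hy
      refine van hs h h1 e _ y1 fun b => a ?_
      simp only [← pow_mul] at b
      exact b.trans (ind_pow_dvd x _)
    have := inv hq.out hη m3 hj o2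
    have := inv hr.out hθ m2 hi o1
    have := hyp x
    tauto
  have syl : ∀ {s k : ℕ} [Fact s.Prime] (S : Sylow s G) {χ : G → ℂ}, IsIrrCharacter G χ →
      (χ ≠ fun _ => 1) → charDegree χ = s ^ k → (∀ x ∈ (S : Subgroup G), x ≠ 1 → ¬ s ∣ ind x) →
      s ^ (Nat.card G).factorization s = charDegree χ := fun {s k} hs S χ h h1 e hS => by
    refine Nat.dvd_antisymm ?_ ?_
    · rw [← S.card_eq_multiplicity]
      exact H30.card_dvd_degree_of_vanishing h.isCharacter _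
        (fun y hy y1 => van hs.out h h1 e y y1 (hS y hy y1)) h.cast_charDegree.symm
    · rw [e]
      exact pow_dvd_pow s ((hs.out.pow_dvd_iff_le_factorization Nat.card_pos.ne').1
        (e ▸ h.charDegree_dvd_card))
  have c : Nat.card G = charDegree ψ * (charDegree η * charDegree θ) := by
    rw [← syl P hψ m1 hs hP, ← syl Q hη m3 hj fun x hx _ => hQ x hx,
      ← syl R hθ m2 hi fun x hx _ => hR x hx]
    conv_lhs => rw [← Nat.prod_factorization_pow_eq_self (Nat.card_pos (α := G)).ne']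
    rw [Finsupp.prod_of_support_subset _ (s := {2, q, r}) (fun s hs => by
      have := Nat.mem_primeFactors.1 hs
      simpa using hp s this.1 this.2.1) _ (fun _ _ => pow_zero _),
      Finset.prod_insert (by simp [q2.symm, r2.symm]), Finset.prod_pair hqr]
  rw [c]
  rcases h48 with h | h <;> rcases hn with ⟨k1, k2⟩ | ⟨k1, k2⟩ <;> rw [h] at k1 k2 ⊢ <;>
    rw [k1, Nat.eq_sub_of_add_eq k2] <;> decide

end H23.Two
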