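import Cfsg.Agent.H23.TwoA
import Cfsg.Agent.H23.MaxCent
import Cfsg.Agent.H5.CS1
import Cfsg.Agent.H12.Four
import Cfsg.Agent.H98.Basic
import Cfsg.Agent.H88.Moebius
import Cfsg.Agent.H42.OddOrder
import Cfsg.Agent.S0506

/-! Simple groups whose class sizes have at most two prime divisors have order `60` or `504`. -/

set_option autoImplicit false

namespace H23.Two

open Cfsg Subgroup H4

variable {G : Type*} [Group G] [Finite G]

/-- every class size has at most two prime divisors -/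
def Hyp (G : Type*) [Group G] : Prop := ∀ x : G, (ind x).primeFactors.card ≤ 2

theorem Hyp.three (h : Hyp G) (x : G) {p q r : ℕ} (hp : p.Prime) (hq : q.Prime) (hr : r.Prime)
    (h1 : p ≠ q) (h2 : p ≠ r) (h3 : q ≠ r) : ¬ p ∣ ind x ∨ ¬ q ∣ ind x ∨ ¬ r ∣ ind x := by
  by_contra! a
  have := (Finset.card_le_card (s := {p, q, r}) (by
    simp [Finset.insert_subset_iff, (ind_pos x).ne', *])).trans (h x)
  rw [Finset.card_eq_three.2 ⟨p, q, r, h1, h2, h3, rfl⟩] at this
  omega

/-- the order of the automizer -/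
noncomputable def nn (P : Subgroup G) : ℕ :=
  (centralizer (P : Set G)).relIndex (normalizer (P : Set G))

theorem ncard_mul_nn {p : ℕ} [Fact p.Prime] (P : Sylow p G) :
    {x : G | ¬ p ∣ ind x}.ncard * nn (P : Subgroup G) ≤ Nat.card G := by
  have h1 := ncard_conjUnion_le _ _ (H98.normalizer_le_normalizer_centralizer (P : Subgroup G))
  have h2 := Set.ncard_le_ncard (s := {x : G | ¬ p ∣ ind x})
    (t := conjUnion (centralizer ((P : Subgroup G) : Set G)))
    fun x hx => exists_conj_mem_centralizer_sylow P hx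
  have h3 := Nat.pos_of_ne_zero (index_ne_zero_of_finite (H := normalizer ((P : Subgroup G) : Set G)))
  have h4 := card_mul_relIndex (centralizer_le_normalizer ((P : Subgroup G) : Set G))
  rw [← (normalizer ((P : Subgroup G) : Set G)).index_mul_card, ← h4, ← mul_assoc]
  exact Nat.mul_le_mul_right _ (h2.trans (by omega))

theorem two_le_nn [IsSimpleGroup G] (hZ : center G = ⊥) {p : ℕ} [hp : Fact p.Prime]
    (P : Sylow p G) (hd : p ∣ Nat.card G) : 2 ≤ nn (P : Subgroup G) := by
  have h0 : nn (P : Subgroup G) ≠ 0 := index_ne_zero_of_finite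
  have h1 : nn (P : Subgroup G) ≠ 1 := fun e => by
    have c := MonoidHom.ker_transferSylow_isComplement' P (relIndex_eq_one.1 e)
    rcases (MonoidHom.normal_ker (MonoidHom.transferSylow P (relIndex_eq_one.1 e))).eq_bot_or_eq_top
      with a | a <;> rw [a] at c
    · have := (P.isPGroup'.of_equiv ((MulEquiv.subgroupCongr (isComplement'_bot_left.1 c)).trans
        topEquiv)).center_nontrivial
      exact (nontrivial_iff_ne_bot _).1 this hZ
    · exact P.ne_bot_of_dvd_card hd (isComplement'_top_left.1 c)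
  omega

theorem count (h : Hyp G) : (Nat.card G).primeFactors.card * Nat.card G + 2 ≤
    ∑ p ∈ (Nat.card G).primeFactors, {x : G | ¬ p ∣ ind x}.ncard + 2 * Nat.card G := by
  classical
  have := Fintype.ofFinite G
  set T := (Nat.card G).primeFactors
  have h1 : ∑ p ∈ T, {x : G | ¬ p ∣ ind x}.ncard = ∑ x : G, (T.filter fun p => ¬ p ∣ ind x).card := by
    simp only [Finset.card_filter]
    rw [Finset.sum_comm]
    refine Finset.sum_congr rfl fun p _ => ?_
    rw [← Finset.card_filter, ← Set.ncard_coe_finset]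
    simp
  have h2 : ∀ x : G, T.card + (if x = 1 then 2 else 0) ≤ (T.filter fun p => ¬ p ∣ ind x).card + 2 := by
    intro x
    have a := Finset.card_filter_add_card_filter_not (s := T) fun p => p ∣ ind x
    have b : (T.filter fun p => p ∣ ind x).card ≤ (ind x).primeFactors.card :=
      Finset.card_le_card fun p hp => by
        simp only [T, Finset.mem_filter, Nat.mem_primeFactors] at hp ⊢
        exact ⟨hp.1.1, hp.2, (ind_pos x).ne'⟩
    have c := h x
    split_ifs with e
    · rw [e, ind_eq_one_iff.2 (one_mem _)] at b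
      rw [e, ind_eq_one_iff.2 (one_mem _)] at a ⊢
      simp only [Nat.primeFactors_one, Finset.card_empty] at b
      omega
    · omega
  have h3 := Finset.sum_le_sum fun x (_ : x ∈ Finset.univ) => h2 x
  simp only [Finset.sum_add_distrib, Finset.sum_const, Finset.card_univ, smul_eq_mul,
    Finset.sum_ite_eq', Finset.mem_univ, if_true, ← Nat.card_eq_fintype_card] at h3
  rw [h1]
  linarith

theorem sq_dvd {p : ℕ} [Fact p.Prime] (P : Sylow p G)
    (h : ¬ (P : Subgroup G) ≤ centralizer ((P : Subgroup G) : Set G)) :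
    p ^ 2 ∣ (center (P : Subgroup G)).index ∧ (center (P : Subgroup G)).index ∣ nn (P : Subgroup G) := by
  refine ⟨H23.sq_dvd_index_center (P.isPGroup'.to_quotient _) fun a => h fun x hx y hy =>
    congrArg Subtype.val (a.is_comm.comm ⟨y, hy⟩ ⟨x, hx⟩), ?_⟩
  have : center (P : Subgroup G) = (centralizer ((P : Subgroup G) : Set G)).subgroupOf P :=
    Subgroup.ext fun x => mem_center_iff.trans ⟨fun a y hy => congrArg Subtype.val (a ⟨y, hy⟩),
      fun a y => Subtype.ext (a y y.2)⟩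
  rw [this]
  exact H12.relIndex_dvd_of_le_normalizer le_normalizer (H98.normalizer_le_normalizer_centralizer _)

/-- the setting: three primes -/
structure Ctx (G : Type*) [Group G] (q r : ℕ) : Prop where
  hZ : center G = ⊥
  hyp : Hyp G
  qr : q ≠ r
  q2 : q ≠ 2
  r2 : r ≠ 2
  pf : (Nat.card G).primeFactors = {2, q, r}

theorem exists_ctx [IsSimpleGroup G] (hZ : center G = ⊥) (h : Hyp G) :
    ∃ q r, q.Prime ∧ r.Prime ∧ Ctx G q r := by
  have ns : ¬ Group.IsSolvable G := fun a => bot_ne_top (hZ.symm.trans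
    (eq_top_iff.2 fun x _ => mem_center_iff.2 fun y => IsSimpleGroup.comm_iff_isSolvable.2 a y x))
  have h2 : 2 ∈ (Nat.card G).primeFactors := Nat.mem_primeFactors.2 ⟨Nat.prime_two, by
    by_contra a
    exact ns (H42.odd_order (Nat.odd_iff.2 (by omega))), Nat.card_pos.ne'⟩
  have h3 : (Nat.card G).primeFactors.card ≤ 3 := by
    have a := count h
    have b : ∑ p ∈ (Nat.card G).primeFactors, {x : G | ¬ p ∣ ind x}.ncard * 2 ≤
        (Nat.card G).primeFactors.card * Nat.card G := by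
      refine Finset.sum_le_card_nsmul _ _ _ fun p hp => ?_
      have := Fact.mk (Nat.prime_of_mem_primeFactors hp)
      obtain ⟨P⟩ : Nonempty (Sylow p G) := inferInstance
      exact (Nat.mul_le_mul_left _ (two_le_nn hZ P (Nat.dvd_of_mem_primeFactors hp))).trans
        (ncard_mul_nn P)
    rw [← Finset.sum_mul] at b
    by_contra c
    have := Nat.mul_le_mul_right (Nat.card G) (by omega : 4 ≤ (Nat.card G).primeFactors.card)
    omega
  have k : ∀ q, q.Prime → ∃ r ∈ (Nat.card G).primeFactors, r ≠ 2 ∧ r ≠ q := fun q hq => by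
    by_contra! a
    refine ns (H29.isSolvable_of_prime_dvd_card Nat.prime_two hq fun r hr hd => ?_)
    have := a r (Nat.mem_primeFactors.2 ⟨hr, hd, Nat.card_pos.ne'⟩)
    tauto
  obtain ⟨q, hq, q2, -⟩ := k 2 Nat.prime_two
  obtain ⟨r, hr, r2, rq⟩ := k q (Nat.prime_of_mem_primeFactors hq)
  refine ⟨q, r, Nat.prime_of_mem_primeFactors hq, Nat.prime_of_mem_primeFactors hr, hZ, h, rq.symm,
    q2, r2, (Finset.eq_of_subset_of_card_le (Finset.insert_subset h2 (Finset.insert_subset hq
      (Finset.singleton_subset_iff.2 hr))) ?_).symm⟩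
  rwa [Finset.card_eq_three.2 ⟨2, q, r, q2.symm, r2.symm, rq.symm, rfl⟩]

theorem not_dvd_ind_of_comm {p k : ℕ} [Fact p.Prime]
    (h : ∀ P : Sylow p G, (P : Subgroup G) ≤ centralizer ((P : Subgroup G) : Set G)) {x : G}
    (hx : orderOf x = p ^ k) : ¬ p ∣ ind x := by
  obtain ⟨P, hP⟩ := (IsPGroup.of_card ((Nat.card_zpowers x).trans hx)).exists_le_sylow
  exact not_dvd_ind_of_mem_centralizer_sylow P (h P (hP (mem_zpowers x)))

namespace Ctx

variable [IsSimpleGroup G] {q r : ℕ} [hq : Fact q.Prime] [hr : Fact r.Prime] (c : Ctx G q r)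
include c

omit [IsSimpleGroup G] hq hr [Finite G] in
theorem symm : Ctx G r q := ⟨c.hZ, c.hyp, c.qr.symm, c.r2, c.q2, by rw [c.pf, Finset.pair_comm]⟩

omit [IsSimpleGroup G] hq hr in
theorem mem {s : ℕ} (hs : s.Prime) (hd : s ∣ Nat.card G) : s = 2 ∨ s = q ∨ s = r := by
  simpa [c.pf] using Nat.mem_primeFactors.2 ⟨hs, hd, (Nat.card_pos (α := G)).ne'⟩

omit [IsSimpleGroup G] hq hr [Finite G] in
theorem dvd : 2 ∣ Nat.card G ∧ q ∣ Nat.card G ∧ r ∣ Nat.card G := by
  refine ⟨?_, ?_, ?_⟩ <;> exact Nat.dvd_of_mem_primeFactors (by simp [c.pf])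

theorem two {g : G} (hg : g ≠ 1) : (¬ 2 ∣ ind g → q ∣ ind g ∧ r ∣ ind g) ∧
    (¬ q ∣ ind g → 2 ∣ ind g ∧ r ∣ ind g) := by
  have := Fintype.ofFinite G
  have k : ∀ p, p.Prime → ∃ s, s ∣ ind g ∧ s ≠ p ∧ (s = 2 ∨ s = q ∨ s = r) := fun p hp => by
    obtain ⟨s, s1, s2, s3⟩ := ind_two_primes c.hZ hg hp
    exact ⟨s, s2, s3, c.mem s1 (s2.trans (index_dvd_card _))⟩
  obtain ⟨a, a1, a2, a3⟩ := k 2 Nat.prime_two
  obtain ⟨b, b1, b2, b3⟩ := k q hq.out
  obtain ⟨d, d1, d2, d3⟩ := k r hr.out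
  refine ⟨fun h => ⟨?_, ?_⟩, fun h => ⟨?_, ?_⟩⟩
  · rcases d3 with rfl | rfl | rfl <;> tauto
  · rcases b3 with rfl | rfl | rfl <;> tauto
  · rcases d3 with rfl | rfl | rfl <;> tauto
  · rcases a3 with rfl | rfl | rfl <;> tauto

omit [IsSimpleGroup G] in
theorem three (g : G) : ¬ 2 ∣ ind g ∨ ¬ q ∣ ind g ∨ ¬ r ∣ ind g :=
  c.hyp.three g Nat.prime_two hq.out hr.out c.q2.symm c.r2.symm c.qr

theorem cent_le (Q : Sylow q G) (hc : (Q : Subgroup G) ≤ centralizer ((Q : Subgroup G) : Set G))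
    (x : G) (hx : x ∈ (Q : Subgroup G)) (x1 : x ≠ 1) :
    centralizer {x} ≤ centralizer ((Q : Subgroup G) : Set G) := by
  have hQ : (Q : Subgroup G) ≤ centralizer {x} := fun y hy => mem_cent_iff.2 (hc hx y hy)
  obtain ⟨k, hk⟩ := IsPGroup.iff_orderOf.1 Q.isPGroup' ⟨x, hx⟩
  rw [← orderOf_coe] at hk
  obtain ⟨a, b⟩ := (c.two x1).2 (not_dvd_ind_of_mem_centralizer_sylow Q (hc hx))
  have h1 : ∀ y : centralizer ({x} : Set G), ¬ q ∣ orderOf y → ¬ q ∣ ind y := fun y hy e => by
    have := H5.CS.ind_coe_mul y.2 (H5.CS.coprime_of_not_dvd hq.out hk (by rwa [orderOf_coe]))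
    rcases c.three (x * y) with h | h | h <;> rw [← this] at h
    exacts [h (a.mul_left _), h (e.mul_right _), h (b.mul_left _)]
  let Q' := Q.subtype hQ
  have hn := sylow_normal_of_not_dvd_ind Q' h1
  intro y hy z hz
  have : (⟨y, hy⟩ : centralizer ({x} : Set G)) ∈ 
      centralizer ((Q' : Subgroup (centralizer ({x} : Set G))) : Set (centralizer ({x} : Set G))) := by
    refine mem_of_forall_primePow_mem _ fun e s j hs _ ho => ?_
    generalize (⟨y, hy⟩ : centralizer ({x} : Set G)) ^ e = w at ho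
    by_cases e1 : s = q
    · subst e1
      obtain ⟨S, hS⟩ := (IsPGroup.of_card ((Nat.card_zpowers w).trans ho)).exists_le_sylow
      have := Sylow.unique_of_normal Q' hn
      have : w ∈ (Q' : Subgroup _) := Subsingleton.elim S Q' ▸ hS (mem_zpowers w)
      exact fun u hu => Subtype.ext (hc this u hu)
    · obtain ⟨i, hi⟩ := IsPGroup.iff_card.1 Q'.isPGroup'
      exact mem_centralizer_of_coprime_ind _ (hi ▸ Nat.Coprime.pow_left i (hq.out.coprime_iff_not_dvd.2
        (h1 w (H5.CS.not_dvd_of_pow hq.out hs (Ne.symm e1) ho))))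
  exact congrArg Subtype.val (this ⟨z, hQ hz⟩ hz)

theorem comm_of_dvd (hQ : ∀ P : Sylow q G, (P : Subgroup G) ≤ centralizer ((P : Subgroup G) : Set G))
    (hR : ∀ P : Sylow r G, (P : Subgroup G) ≤ centralizer ((P : Subgroup G) : Set G))
    [Fact (Nat.Prime 2)] (P : Sylow 2 G) (h : (center (P : Subgroup G)).index ∣ 2 ^ 2) :
    (P : Subgroup G) ≤ centralizer ((P : Subgroup G) : Set G) := by
  by_contra hn
  have h4 : Nat.card (P ⧸ center (P : Subgroup G)) = 2 ^ 2 := Nat.dvd_antisymm h (sq_dvd P hn).1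
  have nc : ¬ IsCyclic (P ⧸ center (P : Subgroup G)) := fun a => hn fun x hx y hy =>
    congrArg Subtype.val ((isMulCommutative_of_isCyclic_quotient_center_self
      (P : Subgroup G)).is_comm.comm ⟨y, hy⟩ ⟨x, hx⟩)
  have sq : ∀ x : (P : Subgroup G), x ∉ center (P : Subgroup G) → x * x = 1 := fun x hx => by
    by_contra e
    have z1 : x * x ∈ center (P : Subgroup G) := by
      have := Monoid.pow_exponent_eq_one (x : P ⧸ center (P : Subgroup G))
      rw [(not_isCyclic_iff_exponent_eq_prime Nat.prime_two h4).1 nc, pow_two] at this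
      exact (QuotientGroup.eq_one_iff _).1 this
    have z2 : (P : Subgroup G) ≤ centralizer {(x * x : G)} := fun y hy =>
      mem_cent_iff.2 (congrArg Subtype.val (mem_center_iff.1 z1 ⟨y, hy⟩))
    have z3 : (x * x : G) ≠ 1 := fun a => e (Subtype.ext a)
    obtain ⟨a, b⟩ := (c.two z3).1 fun d => P.not_dvd_index (d.trans (index_dvd_of_le z2))
    obtain ⟨k, hk⟩ := IsPGroup.iff_orderOf.1 P.isPGroup' (x * x)
    rw [← orderOf_coe] at hk
    have z4 : IsPGroup 2 (centralizer {(x * x : G)}) := by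
      obtain ⟨j, hj⟩ := pow_of_primes (p := 2) (Nat.card_pos (α := centralizer {(x * x : G)})).ne'
        fun s hs hd => by
        by_contra s2
        obtain ⟨y, hy, ho⟩ := H5.CS.exists_orderOf_mem hs hd
        have y1 := H5.CS.ne_one_of_prime hs ho
        have y2 : 2 ∣ ind y := by
          rcases c.mem hs (hd.trans (card_subgroup_dvd_card _)) with rfl | rfl | rfl
          · exact (s2 rfl).elim
          · exact ((c.two y1).2 (not_dvd_ind_of_comm (k := 1) hQ (by rw [ho, pow_one]))).1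
          · exact ((c.symm.two y1).2 (not_dvd_ind_of_comm (k := 1) hR (by rw [ho, pow_one]))).1
        have cm : Commute (x * x : G) y := (mem_cent_iff.1 hy).symm
        have co : (orderOf (x * x : G)).Coprime (orderOf y) := H5.CS.coprime_of_not_dvd Nat.prime_two
          hk (by rw [ho, Nat.prime_dvd_prime_iff_eq Nat.prime_two hs]; exact Ne.symm s2)
        rcases c.three (x * x * y) with h | h | h
        exacts [h (y2.trans (ind_dvd_ind_mul_right cm co)), h (a.trans (ind_dvd_ind_mul_left cm co)),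
          h (b.trans (ind_dvd_ind_mul_left cm co))]
      exact IsPGroup.of_card hj
    have z5 : centralizer {(x : G)} ≤ P := by
      refine le_trans ?_ (P.is_maximal' z4 z2).le
      rw [← pow_two]; exact cent_le_cent_pow _ 2
    have z6 : ¬ 2 ∣ ind (x : G) := by
      have := ind_pow_dvd (x : G) 2
      rw [pow_two] at this
      rcases c.three (x : G) with h | h | h
      exacts [h, (h (a.trans this)).elim, (h (b.trans this)).elim]
    obtain ⟨j, hj⟩ := P.isPGroup'.index ((centralizer {(x : G)}).subgroupOf P)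
    rcases j with _ | j
    · exact hx (mem_center_iff.2 fun y => Subtype.ext (mem_cent_iff.1 (relIndex_eq_one.1 hj y.2)))
    · exact z6 ((hj ▸ dvd_pow_self 2 j.succ_ne_zero).trans (relIndex_dvd_index_of_le z5))
  refine hn fun x hx y hy => by_contra fun e => e ?_
  have k : ∀ a b : (P : Subgroup G), a ∈ center (P : Subgroup G) → (b : G) * a = a * b :=
    fun a b h => congrArg Subtype.val (mem_center_iff.1 h b)
  have h1 := congrArg Subtype.val (sq ⟨x, hx⟩ fun a => e (k _ ⟨y, hy⟩ a))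
  have h2 := congrArg Subtype.val (sq ⟨y, hy⟩ fun a => e (k _ ⟨x, hx⟩ a).symm)
  have h3 := congrArg Subtype.val (sq ⟨x * y, mul_mem hx hy⟩ fun a => e (by
    have := k _ ⟨x, hx⟩ a
    simp only [mul_assoc, mul_right_inj] at this
    exact this.symm))
  simp only [coe_mul, coe_one] at h1 h2 h3
  calc y * x = x * x * (y * x) * (y * y) := by rw [h1, h2, one_mul, mul_one]
    _ = x * (x * y * (x * y)) * y := by simp only [mul_assoc]
    _ = _ := by rw [h3, mul_one]

theorem ineq [Fact (Nat.Prime 2)] (P : Sylow 2 G) (Q : Sylow q G) (R : Sylow r G) :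
    nn (P : Subgroup G) * nn (Q : Subgroup G) * nn (R : Subgroup G) <
      nn (Q : Subgroup G) * nn (R : Subgroup G) + nn (P : Subgroup G) * nn (R : Subgroup G) +
        nn (P : Subgroup G) * nn (Q : Subgroup G) := by
  have h := count c.hyp
  rw [c.pf, Finset.card_eq_three.2 ⟨2, q, r, c.q2.symm, c.r2.symm, c.qr, rfl⟩,
    Finset.sum_insert (by simp [c.q2.symm, c.r2.symm]), Finset.sum_pair c.qr] at h
  have h1 := Nat.mul_le_mul_right (nn (Q : Subgroup G) * nn (R : Subgroup G)) (ncard_mul_nn P)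
  have h2 := Nat.mul_le_mul_right (nn (P : Subgroup G) * nn (R : Subgroup G)) (ncard_mul_nn Q)
  have h3 := Nat.mul_le_mul_right (nn (P : Subgroup G) * nn (Q : Subgroup G)) (ncard_mul_nn R)
  have p1 := two_le_nn c.hZ P c.dvd.1
  have p2 := two_le_nn c.hZ Q c.dvd.2.1
  have p3 := two_le_nn c.hZ R c.dvd.2.2
  have h4 := Nat.mul_lt_mul_of_pos_right (k := nn (P : Subgroup G) * nn (Q : Subgroup G) *
    nn (R : Subgroup G)) (by omega : Nat.card G < {x : G | ¬ 2 ∣ ind x}.ncard +
      ({x : G | ¬ q ∣ ind x}.ncard + {x : G | ¬ r ∣ ind x}.ncard)) (by positivity)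
  refine lt_of_mul_lt_mul_left (a := Nat.card G) ?_ (Nat.zero_le _)
  nlinarith

theorem comm_two [Fact (Nat.Prime 2)] (P : Sylow 2 G) :
    (P : Subgroup G) ≤ centralizer ((P : Subgroup G) : Set G) := by
  by_contra hn
  obtain ⟨h1, h2⟩ := sq_dvd P hn
  have h4 : 4 ≤ nn (P : Subgroup G) :=
    Nat.le_of_dvd (by have := two_le_nn c.hZ P c.dvd.1; omega) (h1.trans h2)
  have k : ∀ (Q : Sylow q G) (R : Sylow r G), (nn (Q : Subgroup G) ≤ 3 ∧ nn (R : Subgroup G) ≤ 3) ∧
      (nn (P : Subgroup G) = 4 ∨ nn (Q : Subgroup G) = 2 ∧ nn (R : Subgroup G) = 2) := fun Q R => by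
    have a := c.ineq P Q R
    have p2 := two_le_nn c.hZ Q c.dvd.2.1
    have p3 := two_le_nn c.hZ R c.dvd.2.2
    have d := h1.trans h2
    generalize nn (P : Subgroup G) = x at *
    generalize nn (Q : Subgroup G) = y at *
    generalize nn (R : Subgroup G) = z at *
    obtain ⟨x, rfl⟩ := Nat.exists_eq_add_of_le h4
    obtain ⟨y, rfl⟩ := Nat.exists_eq_add_of_le p2
    obtain ⟨z, rfl⟩ := Nat.exists_eq_add_of_le p3
    have hy : y ≤ 1 := by by_contra! b; nlinarith [Nat.zero_le (x * z), Nat.mul_le_mul_left (x * z + x + z) b]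
    have hz : z ≤ 1 := by by_contra! b; nlinarith [Nat.zero_le (x * y), Nat.mul_le_mul_left (x * y + x + y) b]
    interval_cases y <;> interval_cases z <;> omega
  obtain ⟨Q⟩ : Nonempty (Sylow q G) := inferInstance
  obtain ⟨R⟩ : Nonempty (Sylow r G) := inferInstance
  have sm : ∀ {s : ℕ} [Fact s.Prime] (S : Sylow s G), s ∣ Nat.card G → nn (S : Subgroup G) ≤ 3 →
      (S : Subgroup G) ≤ centralizer ((S : Subgroup G) : Set G) := fun {s} hs S hd h => by
    by_contra a
    have := Nat.le_of_dvd (by have := two_le_nn c.hZ S hd; omega) ((sq_dvd S a).1.trans (sq_dvd S a).2)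
    have := Nat.pow_le_pow_left hs.out.two_le 2
    omega
  have hQ := fun Q : Sylow q G => sm Q c.dvd.2.1 (k Q R).1.1
  have hR := fun R : Sylow r G => sm R c.dvd.2.2 (k Q R).1.2
  refine hn (c.comm_of_dvd hQ hR P ?_)
  rcases (k Q R).2 with h | ⟨a, b⟩
  · rw [h] at h2; exact h2
  have := Fintype.ofFinite G
  obtain ⟨α, ha⟩ := exists_al c.q2 Q (Q.ne_bot_of_dvd_card c.dvd.2.1) (hQ Q) (c.cent_le Q (hQ Q)) a
  obtain ⟨β, hb⟩ := exists_al c.r2 R (R.ne_bot_of_dvd_card c.dvd.2.2) (hR R) (c.symm.cent_le R (hR R)) b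
  have o := order_of_al c.hZ c.qr c.q2 c.r2 (fun s => c.mem) c.three Q R
    (fun x hx => not_dvd_ind_of_mem_centralizer_sylow Q (hQ Q hx))
    (fun x hx => not_dvd_ind_of_mem_centralizer_sylow R (hR R hx)) ha hb
  have : Nontrivial (P : Subgroup G) := (nontrivial_iff_ne_bot _).2 (P.ne_bot_of_dvd_card c.dvd.1)
  have z := Finite.one_lt_card_iff_nontrivial.2 P.isPGroup'.center_nontrivial
  have e := (center (P : Subgroup G)).card_mul_index
  obtain ⟨m, hm⟩ := h1
  have f : Nat.card (P : Subgroup G) ≤ 8 := by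
    rw [P.card_eq_multiplicity]
    refine Nat.le_of_dvd (by decide) (pow_dvd_pow 2 (m := _) (n := 3) (Nat.le_of_lt_succ ?_))
    rw [← not_le, ← Nat.prime_two.pow_dvd_iff_le_factorization Nat.card_pos.ne']
    rcases o with e | e <;> rw [e] <;> decide
  have : 0 < m := Nat.pos_of_ne_zero fun a => index_ne_zero_of_finite (hm.trans (by rw [a, mul_zero]))
  rw [hm, show m = 1 by nlinarith, mul_one]

omit [IsSimpleGroup G] hq hr in
theorem three_coprime {a b d : ℕ} (ha : 1 < a) (hb : 1 < b) (hd : 1 < d) (h2 : ¬ 2 ∣ a * b * d)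
    (h1 : a.Coprime b) (h3 : a.Coprime d) (h4 : b.Coprime d) (h : a * b * d ∣ Nat.card G) : False := by
  obtain ⟨s, s1, s2⟩ := Nat.exists_prime_and_dvd ha.ne'
  obtain ⟨t, t1, t2⟩ := Nat.exists_prime_and_dvd hb.ne'
  obtain ⟨u, u1, u2⟩ := Nat.exists_prime_and_dvd hd.ne'
  have k : ∀ {x y s : ℕ}, x.Coprime y → s.Prime → s ∣ x → s ∣ y → False := fun h hs a b =>
    hs.one_lt.ne' (Nat.eq_one_of_dvd_coprimes h a b)
  have s3 := (s2.mul_right b).mul_right d
  have t3 := (t2.mul_left a).mul_right d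
  have u3 := u2.mul_left (a * b)
  have := k h1 s1 s2
  have := k h3 s1 s2
  have := k h4 t1 t2
  rcases c.mem s1 (s3.trans h) with rfl | rfl | rfl <;>
    rcases c.mem t1 (t3.trans h) with rfl | rfl | rfl <;>
    rcases c.mem u1 (u3.trans h) with rfl | rfl | rfl <;> tauto

theorem order : Nat.card G = 60 ∨ Nat.card G = 504 := by
  have := Fact.mk Nat.prime_two
  obtain ⟨P⟩ : Nonempty (Sylow 2 G) := inferInstance
  have q3 : 3 ≤ q := by have := hq.out.two_le; have := c.q2; omega
  have r3 : 3 ≤ r := by have := hr.out.two_le; have := c.r2; omega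
  rcases Cfsg.Agent.S0506.result (G := G) (fun a => bot_ne_top (c.hZ.symm.trans
      (eq_top_iff.2 fun x _ => mem_center_iff.2 fun y => a.is_comm.comm y x))) P
      ⟨⟨fun a b => Subtype.ext (c.comm_two P b.2 a a.2)⟩⟩ with
    ⟨a, ha, F, _, _, hF, ⟨e⟩⟩ | ⟨F, _, _, hF, ⟨e⟩⟩ | ⟨-, m, hm, h⟩ | ⟨-, h⟩
  · have h := H88.card_psl_two_of_even (F := F) (by rw [hF, Nat.even_pow]; exact ⟨even_two, by omega⟩)
    have h4 : 2 ^ 2 ≤ 2 ^ a := Nat.pow_le_pow_right two_pos ha
    have h2 : 2 ∣ 2 ^ a := dvd_pow_self 2 (by omega)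
    obtain ⟨b, hb⟩ : ∃ b, 2 ^ a = b + 1 := ⟨2 ^ a - 1, by omega⟩
    rw [← Nat.card_congr e.toEquiv, hF, hb, show (b + 1) ^ 2 - 1 = (b + 1 + 1) * b from
      Nat.sq_sub_sq (b + 1) 1] at h
    have n : ∀ {s : ℕ}, s.Prime → s ≠ 2 → ∀ k, b + 1 ≠ s ^ k := fun hs s2 k e => s2
      ((Nat.prime_dvd_prime_iff_eq Nat.prime_two hs).1
        (Nat.prime_two.dvd_of_dvd_pow (e ▸ hb ▸ h2))).symm
    have hp : ∀ s, s.Prime → s ∣ b + 1 ∨ s ∣ b + 1 + 1 ∨ s ∣ b → s = 2 ∨ s = q ∨ s = r :=
      fun s hs hd => c.mem hs (by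
        rw [h]
        rcases hd with d | d | d
        exacts [d.mul_right _, (d.mul_right _).mul_left _, (d.mul_left _).mul_left _])
    have k : ∀ {s i j : ℕ}, b + 1 + 1 = s ^ i → b ≠ 0 → s ∣ b → 3 ≤ s → j = 0 := fun {s i j} e _ d s3 => by
      have : s ∣ b + 2 := e ▸ dvd_pow_self s (by rintro rfl; rw [pow_zero] at *; omega)
      have := Nat.le_of_dvd two_pos ((Nat.dvd_add_right d).1 this)
      omega
    have : b + 1 = 4 ∨ b + 1 = 8 := by
      by_cases t : ∃ i, b + 1 + 1 = q ^ i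
      · obtain ⟨i, hi⟩ := t
        refine (arith hr.out hq.out c.qr.symm (by omega) (by omega) (by omega) (Or.inl ⟨rfl, rfl⟩)
          (fun s hs hd => by have := hp s hs hd; tauto) (n hr.out c.r2) (n hq.out c.q2)
          (fun j e => ?_) fun j e => ?_).2.2.2.2.2
        · exact c.qr ((Nat.prime_dvd_prime_iff_eq hq.out hr.out).1 (hq.out.dvd_of_dvd_pow
            (e ▸ hi ▸ dvd_pow_self q (by rintro rfl; rw [pow_zero] at *; omega))))
        · exact one_ne_zero (k hi (by omega) (e ▸ dvd_pow_self q (by rintro rfl; rw [pow_zero] at *; omega)) q3)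
      · refine (arith hq.out hr.out c.qr (by omega) (by omega) (by omega) (Or.inl ⟨rfl, rfl⟩) hp
          (n hq.out c.q2) (n hr.out c.r2) (fun j e => t ⟨j, e⟩) fun j e => t ?_).2.2.2.2.2
        refine pow_of_primes (by omega) fun s hs hd => ?_
        rcases hp s hs (Or.inr (Or.inl hd)) with rfl | rfl | rfl
        · omega
        · rfl
        · have : s ∣ b := e ▸ dvd_pow_self s (by rintro rfl; rw [pow_zero] at *; omega)
          have := Nat.le_of_dvd two_pos ((Nat.dvd_add_right this).1 hd)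
          omega
    rcases this with e | e <;> rw [e, Nat.eq_sub_of_add_eq e] at h <;> omega
  · have h := H88.two_mul_card_psl_two (F := F) (Nat.odd_iff.2 (by omega))
    rw [← Nat.card_congr e.toEquiv] at h
    generalize Fintype.card F = m at h hF
    rcases hF with hF | hF
    · obtain ⟨k, rfl⟩ : ∃ k, m = 8 * k + 3 := ⟨m / 8, by omega⟩
      have h' : Nat.card G = (8 * k + 3) * (4 * k + 1) * (2 * k + 1) * 4 := by
        rw [show (8 * k + 3) ^ 2 - 1 = (8 * k + 3 + 1) * (8 * k + 2) from Nat.sq_sub_sq _ 1] at h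
        nlinarith
      rcases k with _ | k
      · have a := c.dvd.2.1
        have b := c.dvd.2.2
        rw [h'] at a b
        have k : ∀ s, s.Prime → 3 ≤ s → s ∣ 12 → s = 3 := fun s hs h3 hd => by
          have := Nat.le_of_dvd (by decide) hd
          interval_cases s <;> first | rfl | omega | exact absurd hs (by decide)
        exact (c.qr ((k q hq.out q3 a).trans (k r hr.out r3 b).symm)).elim
      · refine (c.three_coprime (by omega) (by omega) (by omega) ?_ ?_ ?_ ?_ (h' ▸ dvd_mul_right _ _)).elim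
        · simp only [Nat.prime_two.dvd_mul]; omega
        · exact Nat.Coprime.symm (by rw [show 8 * (k + 1) + 3 = 1 + (4 * (k + 1) + 1) * 2 by ring]; simp)
        · exact Nat.isCoprime_iff_coprime.1 ⟨-1, 4, by push_cast; ring⟩
        · exact Nat.isCoprime_iff_coprime.1 ⟨-1, 2, by push_cast; ring⟩
    · obtain ⟨k, rfl⟩ : ∃ k, m = 8 * k + 5 := ⟨m / 8, by omega⟩
      have h' : Nat.card G = (8 * k + 5) * (4 * k + 3) * (2 * k + 1) * 4 := by
        rw [show (8 * k + 5) ^ 2 - 1 = (8 * k + 5 + 1) * (8 * k + 4) from Nat.sq_sub_sq _ 1] at h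
        nlinarith
      rcases k with _ | k
      · exact Or.inl h'
      · refine (c.three_coprime (by omega) (by omega) (by omega) ?_ ?_ ?_ ?_ (h' ▸ dvd_mul_right _ _)).elim
        · simp only [Nat.prime_two.dvd_mul]; omega
        · exact Nat.isCoprime_iff_coprime.1 ⟨-1, 2, by push_cast; ring⟩
        · exact Nat.isCoprime_iff_coprime.1 ⟨1, -4, by push_cast; ring⟩
        · exact Nat.isCoprime_iff_coprime.1 ⟨1, -2, by push_cast; ring⟩
  · obtain ⟨k, hk, k0⟩ : ∃ k, 3 ^ (2 * m + 1) = 8 * k + 3 ∧ 0 < k := by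
      have a : 3 ^ (2 * m + 1) % 8 = 3 := by
        rw [pow_succ, pow_mul, Nat.mul_mod, Nat.pow_mod]; simp
      have b : 3 ^ 3 ≤ 3 ^ (2 * m + 1) := Nat.pow_le_pow_right (by decide) (by omega)
      exact ⟨3 ^ (2 * m + 1) / 8, by omega, by omega⟩
    rw [hk] at h
    refine (c.three_coprime (a := 8 * k + 3) (b := 4 * k + 1) (d := 2 * k + 1) (by omega) (by omega)
      (by omega) ?_ ?_ ?_ ?_ ⟨(8 * k + 3) ^ 2 * 8 * (64 * k ^ 2 + 40 * k + 7), ?_⟩).elim
    · simp only [Nat.prime_two.dvd_mul]; omega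
    · exact Nat.isCoprime_iff_coprime.1 ⟨1, -2, by push_cast; ring⟩
    · exact Nat.isCoprime_iff_coprime.1 ⟨-1, 4, by push_cast; ring⟩
    · exact Nat.isCoprime_iff_coprime.1 ⟨-1, 2, by push_cast; ring⟩
    · rw [h, show 8 * k + 3 - 1 = 8 * k + 2 by omega]; ring
  · exact (c.three_coprime (a := 3) (b := 5) (d := 7) (by decide) (by decide) (by decide) (by decide)
      (by decide) (by decide) (by decide) (by rw [h]; decide)).elim

end Ctx

theorem simple_order [IsSimpleGroup G] (hZ : center G = ⊥) (h : Hyp G) :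
    (Nat.card G = 60 ∨ Nat.card G = 504) ∧ ∀ (p : ℕ) [Fact p.Prime] (P : Sylow p G),
      (P : Subgroup G) ≤ centralizer ((P : Subgroup G) : Set G) := by
  obtain ⟨q, r, hq, hr, c⟩ := exists_ctx hZ h
  have := Fact.mk hq
  have := Fact.mk hr
  refine ⟨c.order, fun p hp P => ?_⟩
  by_cases h2 : p = 2
  · subst h2; exact c.comm_two P
  by_contra a
  have h1 := (sq_dvd P a).1
  have : Nontrivial (P : Subgroup G) := (nontrivial_iff_ne_bot _).2 fun e => a (e.trans_le bot_le)
  have h3 : p ∣ Nat.card (center (P : Subgroup G)) :=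
    ((P.isPGroup'.to_subgroup _).card_eq_or_dvd).resolve_left
      (Finite.one_lt_card_iff_nontrivial.2 P.isPGroup'.center_nontrivial).ne'
  have h4 : p * p ^ 2 ∣ Nat.card G := (mul_dvd_mul h3 h1).trans (by
    rw [card_mul_index]; exact card_subgroup_dvd_card _)
  have h5 : p * p ^ 2 ∣ 2520 := h4.trans (by rcases c.order with e | e <;> rw [e] <;> decide)
  have h6 : p ≤ 13 := by
    by_contra! b
    have := Nat.le_of_dvd (by decide) h5
    nlinarith
  have := hp.out.two_le
  interval_cases p <;> omega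

end H23.Two
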