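import Cfsg.Agent.H57.U2CSpec

/-! # S3275, chapter U2F: the job `XO`. -/

set_option autoImplicit false

namespace H23.U2XO

open Subgroup Cfsg H98 H48.DP H57.DPC H48.DP2 H57.U2C

universe u

variable {G : Type u} [Group G]

theorem ri_cj (g : G) (A B : Subgroup G) : (cj g A).relIndex (cj g B) = A.relIndex B :=
  Subgroup.relIndex_map_map_of_injective A B (MulAut.conj g).injective

theorem ea_iff {A : Subgroup G} : IsElementaryAbelian 2 A ↔
    (∀ a ∈ A, ∀ b ∈ A, a * b = b * a) ∧ ∀ a ∈ A, a ^ 2 = 1 := by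
  refine and_congr_left' ⟨fun h a ha b hb => ?_, fun h => ⟨⟨fun a b => ?_⟩⟩⟩
  · exact congrArg Subtype.val (h.is_comm.comm ⟨a, ha⟩ ⟨b, hb⟩)
  · exact Subtype.ext (h a a.2 b b.2)

theorem ea_le {A B : Subgroup G} (h : IsElementaryAbelian 2 B) (l : A ≤ B) :
    IsElementaryAbelian 2 A :=
  ea_iff.2 ⟨fun a ha b hb => (ea_iff.1 h).1 a (l ha) b (l hb), fun a ha => h.2 a (l ha)⟩

theorem ea_cj {A : Subgroup G} (g : G) (h : IsElementaryAbelian 2 A) :
    IsElementaryAbelian 2 (cj g A) := by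
  refine ea_iff.2 ⟨?_, ?_⟩
  · rintro _ ⟨a, ha, rfl⟩ _ ⟨b, hb, rfl⟩
    rw [← map_mul, ← map_mul, (ea_iff.1 h).1 a ha b hb]
  · rintro _ ⟨a, ha, rfl⟩
    rw [← map_pow, h.2 a ha, map_one]

theorem cj_C1 (g w : G) : cj g (C1 w) = C1 (g * w * g⁻¹) := by
  ext x
  rw [mem_cj, mem_centralizer_singleton_iff, mem_centralizer_singleton_iff]
  constructor
  · intro h
    calc x * (g * w * g⁻¹) = g * (g⁻¹ * x * g * w) * g⁻¹ := by group
      _ = g * (w * (g⁻¹ * x * g)) * g⁻¹ := by rw [h]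
      _ = g * w * g⁻¹ * x := by group
  · intro h
    calc g⁻¹ * x * g * w = g⁻¹ * (x * (g * w * g⁻¹)) * g := by group
      _ = g⁻¹ * (g * w * g⁻¹ * x) * g := by rw [h]
      _ = w * (g⁻¹ * x * g) := by group

theorem xs_cj {L D W : Subgroup G} (h : Xs L D W) (g : G) : Xs (cj g L) (cj g D) (cj g W) where
  ea := ea_cj g h.ea
  LW := (cj_mono g h.LW).trans (cj_normalizer g W).le
  WD := cj_mono g h.WD
  DW := (cj_mono g h.DW).trans (cj_centralizer g W).le
  fa := fun w hw w2 hD => by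
    have := h.fa (g⁻¹ * w * g) (mem_cj.1 hw) (by
      calc g⁻¹ * w * g * (g⁻¹ * w * g) = g⁻¹ * (w * w) * g := by group
        _ = 1 := by rw [w2]; group) (fun e => hD (mem_cj.2 e))
    rw [← ri_cj g, cj_C1] at this
    convert this using 3
    group
  fb := fun A hA ea => by
    have := h.fb (cj g⁻¹ A) (le_cj_iff.1 hA) (ea_cj _ ea)
    rwa [← ri_cj g, cj_cj_inv] at this
  fc := fun A hA ea e => by
    have := h.fc (cj g⁻¹ A) (le_cj_iff.1 hA) (ea_cj _ ea) (by rwa [← ri_cj g, cj_cj_inv])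
    rwa [← ri_cj g, cj_centralizer, cj_cj_inv] at this

variable [Finite G]

theorem ri_ne (A B : Subgroup G) : A.relIndex B ≠ 0 := index_ne_zero_of_finite

/-- `|W : C| ≤ |H : H ∩ D| |W : H|` when `D ≤ C`. -/
theorem bound {H W D C : Subgroup G} (hH : H ≤ W) (hD : D ≤ C) :
    C.relIndex W ≤ D.relIndex H * H.relIndex W := by
  have h1 : (D ⊓ H).relIndex H * H.relIndex W = (D ⊓ H).relIndex W :=
    relIndex_mul_relIndex _ _ _ inf_le_right hH
  rw [inf_relIndex_right] at h1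
  rw [h1]
  exact relIndex_le_of_le_left (inf_le_left.trans hD) (ri_ne _ _)

theorem core {L D W L' D' W' H H' : Subgroup G} (a : Xs L D W) (b : Xs L' D' W') (hW : H ≤ W)
    (hL : H ≤ L') (i : H.relIndex W ≤ 4) (hW' : H' ≤ W') (hL' : H' ≤ L)
    (i' : H'.relIndex W' ≤ 4) : H' ≤ D := by
  have d := b.fb H hL (ea_le a.ea hW)
  have d' := Nat.le_of_dvd (by norm_num) (a.fb H' hL' (ea_le b.ea hW'))
  have h4 : D'.relIndex H ≠ 4 := fun e => by
    have h1 := b.fc H hL (ea_le a.ea hW) e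
    have h2 : (Ce H).relIndex W' ≤ _ := bound hW' (a.DW.trans (centralizer_anti hW))
    have h3 := Nat.mul_le_mul d' i'
    omega
  have h2 : D'.relIndex H ≤ 2 := by
    have h5 := Nat.le_of_dvd (by norm_num) d
    generalize D'.relIndex H = n at *
    interval_cases n <;> simp_all
  intro w hw
  by_contra hD
  have w2 : w * w = 1 := by
    rw [← pow_two]
    exact b.ea.2 w (hW' hw)
  have h1 := a.fa w (hL' hw) w2 hD
  have h3 : D' ≤ C1 w := fun x hx =>
    mem_centralizer_singleton_iff.2 (mem_centralizer_iff.1 (b.DW hx) w (hW' hw)).symm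
  have h5 := bound hW h3
  have h6 := Nat.mul_le_mul h2 i
  omega

theorem jobXO : JobXO.{u} := by
  intro wk G _ _ K L D Q W xs xk mf
  have xe : ∀ g : G, W ≤ cj g L → W ≤ cj g⁻¹ L → W ≤ cj g D := fun g h1 h2 =>
    core (xs_cj xs g) xs le_rfl (by simpa using le_cj_iff.1 h2) (by simp) le_rfl h1 (by simp)
  obtain ⟨g, hD, hQ, hK⟩ : ∃ g : G, W ≤ cj g D ∧ ¬ W ≤ cj g Q ∧
      ∀ k ∈ K, ∃ p ∈ K, cj (g * k) W ≤ cj p D := by
    rcases wk G L K Q W xk.QL xk.KQ xs.LW xk.core with h | ⟨S, inv, sL, -, g, gS, hQ, p, pK, hp⟩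
    · refine ⟨1, by simpa [cj_one] using xs.WD, by rwa [cj_one], fun k hk => ⟨k, hk, ?_⟩⟩
      rw [one_mul]
      exact cj_mono k xs.WD
    · have sD : ∀ s ∈ S, W ≤ cj s D := fun s hs => xe s (sL s hs) (sL _ (inv s hs))
      refine ⟨g, sD g gS, hQ, fun k hk => ⟨p, pK, ?_⟩⟩
      have := cj_mono (g * k) (sD _ (hp k⁻¹ (inv_mem hk)))
      rw [cj_cj] at this
      convert this using 2
      group
  obtain ⟨w, hw, wQ⟩ := SetLike.not_le_iff_exists.1 hQ
  have w2 : w * w = 1 := by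
    rw [← pow_two]
    exact xs.ea.2 w hw
  obtain ⟨e, eK, he⟩ := mf (g⁻¹ * w * g) (mem_cj.1 (hD hw)) (by
      calc g⁻¹ * w * g * (g⁻¹ * w * g) = g⁻¹ * (w * w) * g := by group
        _ = 1 := by rw [w2]; group) (fun h => wQ (mem_cj.2 h))
  obtain ⟨p, pK, hp⟩ := hK e eK
  have i : (cj g Q ⊓ W).relIndex W ≤ 4 := by
    have := xk.fd 1 (one_mem _) (cj g⁻¹ W) (by rw [cj_one]; exact le_cj_iff.1 hD) (ea_cj _ xs.ea)
    rwa [← ri_cj g, cj_cj_inv, ← inf_relIndex_right] at this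
  have i' : (Q ⊓ cj (g * e) W).relIndex (cj (g * e) W) ≤ 4 := by
    rw [inf_relIndex_right]
    exact xk.fd p pK _ hp (ea_cj _ xs.ea)
  have hL : cj g Q ⊓ W ≤ cj (g * e) L := by
    refine inf_le_left.trans ?_
    have : cj g Q = cj (g * e) Q := by rw [← cj_cj, cj_eq_self (xk.KQ eK)]
    rw [this]
    exact cj_mono _ xk.QL
  have hc := core xs (xs_cj xs (g * e)) inf_le_right hL i inf_le_right
    (inf_le_left.trans xk.QL) i'
  apply he
  rw [← ri_cj (g * e), cj_cj]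
  refine le_trans (relIndex_le_of_le_left (fun x hx => ?_) (ri_ne _ _)) i'
  have c : w * x = x * w := mem_centralizer_iff.1 (xs.DW (hc hx)) w hw
  have hx2 := mem_cj.1 hx.2
  refine mem_cj.2 ?_
  convert hx2 using 1
  calc (g * e * (e⁻¹ * (g⁻¹ * w * g) * e))⁻¹ * x * (g * e * (e⁻¹ * (g⁻¹ * w * g) * e))
      = (g * e)⁻¹ * (w⁻¹ * (x * w)) * (g * e) := by group
    _ = (g * e)⁻¹ * x * (g * e) := by rw [← c]; group

end H23.U2XO
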