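import Cfsg.Agent.H53.WUKit

/-! Tower WU, slot Sp: the span of a `P`-submodule of a Weil module. -/

set_option autoImplicit false
set_option linter.unusedSectionVars false

namespace H23.WUSp

open Cfsg H59 Module H53.WU

variable {S : HS} {N : Type} [AddCommGroup N] [Module ℂ N] [FiniteDimensional ℂ N]
  {ρ : Representation ℂ S.G N} {e : S.V} {Y : Submodule ℂ N}

theorem am (a b : S.G) (v : N) : ρ (a * b) v = ρ a (ρ b v) := by rw [map_mul]; rfl

/-- the conjugate of `Y` that belongs to the point `⟨x⟩` -/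
def YY (ρ : Representation ℂ S.G N) (e : S.V) (Y : Submodule ℂ N) (x : S.V) : Submodule ℂ N where
  carrier := {v | ∀ (g : S.G) (a : S.Fˣ), g.1 x = (a : S.F) • e → ρ g v ∈ Y}
  add_mem' ha hb g a h := by rw [map_add]; exact Y.add_mem (ha g a h) (hb g a h)
  zero_mem' g a h := by rw [map_zero]; exact Y.zero_mem
  smul_mem' c v hv g a h := by rw [map_smul]; exact Y.smul_mem c (hv g a h)

theorem YY_map {x x' : S.V} {h : S.G} {c : S.F} (hc : c ≠ 0) (e1 : h.1 x = c • x') {v : N}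
    (hv : v ∈ YY ρ e Y x) : ρ h v ∈ YY ρ e Y x' := fun g a e2 => by
  rw [← am]
  refine hv _ (Units.mk0 c hc * a) ?_
  show g.1 (h.1 x) = _
  rw [e1, map_smul, e2, smul_smul]; rfl

theorem YY_fix {x : S.V} {h : S.G} (e1 : h.1 x = x) {v : N} (hv : v ∈ YY ρ e Y x) :
    ρ h v ∈ YY ρ e Y x := YY_map one_ne_zero (e1.trans (one_smul _ _).symm) hv

theorem YY_smul {x x' : S.V} {c : S.F} (hc : c ≠ 0) (e1 : x = c • x') : YY ρ e Y x ≤ YY ρ e Y x' :=
  fun v hv => by simpa using YY_map (h := 1) hc e1 hv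

theorem fz_map {x : S.V} (h : S.G) {w : N} (hw : w ∈ fx ρ (S.Zs x)) : ρ h w ∈ fx ρ (S.Zs (h.1 x)) :=
  mem_fx.2 fun t ht => by
    have h1 := HS.conj_Zs h⁻¹ ht
    rw [show (h⁻¹ : S.G).1 (h.1 x) = x from h.1.symm_apply_apply x] at h1
    conv_rhs => rw [← mem_fx.1 hw _ h1]
    rw [← am, ← am]; congr 2; group

theorem ex_move {p x : S.V} (hp : S.Iso p) (hx : S.Iso x) (hpx : S.B p x = 0) (ind : ∀ c : S.F, x ≠ c • p)
    {r s : S.F} (hr : r ≠ 0) (hs : s ≠ 0) : ∃ h ∈ S.Qs (r • p + s • x), h.1 x = (-(s⁻¹ * r)) • p := by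
  have hxp := S.h.eq_zero_comm.1 hpx
  have h1 : S.B (r • p + s • x) x = 0 := by simp [hpx, hx.2]
  have h2 : S.B (r • p + s • x) (r • p + s • x) = 0 := by simp [hpx, hxp, hx.2, hp.2]
  obtain ⟨d, hd, h3⟩ := S.h.exists_perp_ne_zero (W := Submodule.span S.F {r • p + s • x}) (u := x) fun h => by
    obtain ⟨c, hc⟩ := Submodule.mem_span_singleton.1 h
    by_cases h4 : 1 - c * s = 0
    · have h5 : (c * r) • p = 0 := by
        have : (c * r) • p + (c * s) • x = x := by rw [← smul_smul, ← smul_smul, ← smul_add, hc]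
        rw [show c * s = 1 by linear_combination -h4, one_smul] at this
        simpa using this
      rcases smul_eq_zero.1 h5 with h6 | h6
      · rw [(mul_eq_zero.1 h6).resolve_right hr] at h4; simp at h4
      · exact hp.1 h6
    · refine ind ((1 - c * s)⁻¹ * (c * r)) ?_
      rw [← smul_smul, eq_inv_smul_iff₀ h4, sub_smul, one_smul]
      nth_rw 1 [← hc]
      module
  have h4 : S.B d x ≠ 0 := fun h => h3 (S.h.eq_zero_comm.1 h)
  let u := frob S.hF (-s⁻¹ * (S.B d x)⁻¹) • d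
  have h5 : S.B (r • p + s • x) u = 0 := by
    rw [form_smul_right, mem_perp_singleton.1 hd, mul_zero]
  have h6 : S.B u x = -s⁻¹ := by
    rw [form_smul_left, S.h.invol, mul_assoc, inv_mul_cancel₀ h4, mul_one]
  obtain ⟨a, ha⟩ := exists_trace_eq S.h.ne_id S.h.invol (S.h.self_fixed u)
  obtain ⟨g, hg, h7⟩ := S.h.exists_eichler h2 h5 ha
  refine ⟨⟨g, hg⟩, S.h.mem_unipRad_of_eichler h2 h5 hg.1 h7, ?_⟩
  show g x = _
  rw [h7, h6, h1, mul_zero, zero_smul, zero_smul, sub_zero, sub_zero, smul_add, smul_smul, smul_smul, neg_mul,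
    neg_mul, inv_mul_cancel₀ hs]
  module

variable (hn : 4 ≤ S.n) (he : S.Iso e) (h0 : ∀ y ∈ Y, (∀ t ∈ S.Zs e, ρ t y = y) → y = 0)
include hn he h0

theorem YY_zero {x : S.V} (hx : S.Iso x) {v : N} (hv : v ∈ YY ρ e Y x) (hz : v ∈ fx ρ (S.Zs x)) : v = 0 := by
  obtain ⟨g, hg⟩ := HS.trans (by omega) hx he
  have h1 := h0 _ (hv g 1 (by simp [hg])) (mem_fx.1 (hg ▸ fz_map g hz))
  have h2 : ρ g⁻¹ (ρ g v) = v := by rw [← am, inv_mul_cancel, map_one]; rfl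
  rw [← h2, h1, map_zero]

variable (ev : JobEv) (W : S.WW ρ)
include ev W

theorem perp_case {p x : S.V} (hp : S.Iso p) (hx : S.Iso x) (hpx : S.B p x = 0)
    (ind : ∀ c : S.F, x ≠ c • p) :
    YY ρ e Y x ≤ YY ρ e Y x ⊓ YY ρ e Y p ⊔ YY ρ e Y x ⊓ fx ρ (S.Zs p) := by
  refine ev S p x hp hx hpx ind N ρ _ _ (fun g hg v hv => YY_fix (hg x hpx hx.2) hv) fun r s h1 v hv h2 => ?_
  by_cases hs : s = 0
  · rw [hs, zero_smul, add_zero] at h1 h2
    rw [HS.Zs_smul _ (left_ne_zero_of_smul h1)] at h2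
    exact Submodule.mem_sup_right ⟨hv, mem_fx.2 h2⟩
  by_cases hr : r = 0
  · rw [hr, zero_smul, zero_add, HS.Zs_smul _ hs] at h2
    rw [YY_zero hn he h0 hx hv (mem_fx.2 h2)]
    exact zero_mem _
  obtain ⟨h, h3, h4⟩ := ex_move hp hx hpx ind hr hs
  have h5 := W _ ⟨h1, by simp [hpx, S.h.eq_zero_comm.1 hpx, hx.2, hp.2]⟩ v h2 h h3
  exact Submodule.mem_sup_left ⟨hv, h5 ▸ YY_map (neg_ne_zero.2 (mul_ne_zero (inv_ne_zero hs) hr)) h4 hv⟩

theorem opp_case {f : S.V} (hf : S.B f f = 0) (hef : S.B e f = 1) :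
    YY ρ e Y f ≤ YY ρ e Y e ⊔ fx ρ (S.Zs e) := by
  intro v hv
  have hfe : S.B f e = 1 := by rw [← S.h.symm, hef, map_one]
  have hfi : S.Iso f := ⟨fun h => by simp [h] at hef, hf⟩
  obtain ⟨y, hy, y0, yy⟩ := S.h.exists_isotropic_mem (W := hypPerp S.B e f) (by
    have := S.h.finrank_hypPerp he.2 hef
    unfold HS.n at hn; omega)
  obtain ⟨y', hy', yy', y'y'⟩ := S.h.exists_partner_perp (W := Submodule.span S.F {e, f}) yy
    (fun h => y0 (Submodule.disjoint_def.1 (S.h.disjoint_span_hyp he.2 (hef ▸ one_ne_zero)) y h hy)) hy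
  have y'y : S.B y' y = 1 := by rw [← S.h.symm, yy', map_one]
  let K : Subgroup S.G :=
    { carrier := {t | t.1 f = f ∧ ∀ v ∈ YY ρ e Y f, ρ t v - v ∈ YY ρ e Y e ⊔ fx ρ (S.Zs e)}
      one_mem' := ⟨rfl, fun v _ => by simp⟩
      mul_mem' := fun {a b} ha hb => ⟨(congrArg a.1 hb.1).trans ha.1, fun v hv => by
        have := add_mem (ha.2 _ (YY_fix hb.1 hv)) (hb.2 v hv)
        rwa [sub_add_sub_cancel, ← am] at this⟩
      inv_mem' := fun {a} ha =>
        have h1 : (a⁻¹ : S.G).1 f = f := a.1.symm_apply_eq.2 ha.1.symm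
        ⟨h1, fun v hv => by
          have := neg_mem (ha.2 _ (YY_fix h1 hv))
          rwa [← am, mul_inv_cancel, map_one, neg_sub] at this⟩ }
  have zK : ∀ z, S.Iso z → z ∈ hypPerp S.B e f → S.Zs z ≤ K := fun z hz hz' t ht => by
    obtain ⟨a1, a2⟩ := mem_perp_pair.1 hz'
    have a3 := S.h.eq_zero_comm.1 a2
    refine ⟨axisGrp_apply_of_perp ht a3, fun v hv => ?_⟩
    obtain ⟨v1, b1, v2, b2, rfl⟩ := Submodule.mem_sup.1 (perp_case hn he h0 ev W hz hfi a3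
      (fun c h => by rw [h, form_smul_right, a1, mul_zero] at hef; exact zero_ne_one hef) hv)
    rw [map_add, mem_fx.1 b2.2 t ht, add_sub_add_right_eq_sub]
    refine (perp_case hn he h0 ev W he hz a1 (fun c h => ?_)).trans (sup_le_sup inf_le_right inf_le_right)
      (sub_mem (YY_fix (axisGrp_apply_of_perp ht hz.2) b1.2) b1.2)
    rw [h, form_smul_right, hfe, mul_one] at a2
    exact hz.1 (by rw [h, a2, zero_smul])
  have := Fintype.ofFinite K
  obtain ⟨w, hw⟩ : ∃ w, w = ∑ t : K, ρ t v := ⟨_, rfl⟩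
  have w1 : w ∈ YY ρ e Y f := hw ▸ Submodule.sum_mem _ fun t _ => YY_fix t.2.1 hv
  have w2 : ∀ s ∈ K, ρ s w = w := fun s hs => by
    rw [hw, map_sum]
    exact Fintype.sum_equiv (Equiv.mulLeft ⟨s, hs⟩) _ _ fun t => (am ..).symm
  have yi : S.Iso y := ⟨y0, yy⟩
  have yi' : S.Iso y' := ⟨fun h => by simp [h] at yy', y'y'⟩
  have w3 : w ∈ fx ρ (S.Zs y) := mem_fx.2 fun t ht => w2 t (zK y yi hy ht)
  have w4 : w ∈ fx ρ (S.Zs y') := mem_fx.2 fun t ht => w2 t (zK y' yi' hy' ht)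
  obtain ⟨a1, a2⟩ := mem_perp_pair.1 hy
  obtain ⟨a3, a4⟩ := mem_perp_pair.1 hy'
  have zz : S.B (y' + e) (y' + e) = 0 := by simp [y'y', a3, S.h.eq_zero_comm.1 a3, he.2]
  obtain ⟨g, g1, g2, g3⟩ := S.h.exists_unipRad_map yy y'y' yy' zz
    (by simp [yy', S.h.eq_zero_comm.1 a1])
  have w5 := fz_map ⟨g, g1⟩ w4
  rw [W y yi w (mem_fx.1 w3) ⟨g, g1⟩ g2, show (⟨g, g1⟩ : S.G).1 y' = y' + e from g3] at w5
  have zy : S.B (y' + e) y = 1 := by simp [y'y, a1]
  obtain ⟨g', g1', g2', g3'⟩ := S.h.exists_unipRad_map zz yy zy hf (by simp [hef, S.h.eq_zero_comm.1 a4])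
  have w6 := fz_map ⟨g', g1'⟩ w3
  rw [W _ ⟨fun h => by simp [h] at zy, zz⟩ w (mem_fx.1 w5) ⟨g', g1'⟩ g2',
    show (⟨g', g1'⟩ : S.G).1 y = f from g3'] at w6
  have w7 : ∑ t : K, (ρ t v - v) ∈ YY ρ e Y e ⊔ fx ρ (S.Zs e) := Submodule.sum_mem _ fun t _ => t.2.2 v hv
  rw [Finset.sum_sub_distrib, ← hw, YY_zero hn he h0 hfi w1 w6, zero_sub, neg_mem_iff, Finset.sum_const,
    ← Nat.cast_smul_eq_nsmul ℂ] at w7
  exact (Submodule.smul_mem_iff _ (Nat.cast_ne_zero.2 Fintype.card_ne_zero)).1 w7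

theorem all_case {x : S.V} (hx : S.Iso x) : YY ρ e Y x ≤ YY ρ e Y e ⊔ fx ρ (S.Zs e) := by
  by_cases h1 : S.B e x = 0
  · by_cases h2 : ∃ c : S.F, x = c • e
    · obtain ⟨c, hc⟩ := h2
      exact (YY_smul (fun h => hx.1 (by rw [hc, h, zero_smul])) hc).trans le_sup_left
    · exact (perp_case hn he h0 ev W he hx h1 fun c h => h2 ⟨c, h⟩).trans
        (sup_le_sup inf_le_right inf_le_right)
  · exact (YY_smul h1 (smul_inv_smul₀ h1 x).symm).trans (opp_case hn he h0 ev W (f := (S.B e x)⁻¹ • x)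
      (by simp [hx.2]) (by rw [form_smul_right, inv_mul_cancel₀ h1]))

omit hn he h0 ev W in
theorem jobSp (ev : JobEv) : JobSp := fun S e hn he N _ _ _ ρ W Y hP h0 g y hy => by
  have h1 : y ∈ YY ρ e Y e := fun p a hp => hP p ⟨a, hp⟩ y hy
  obtain ⟨a, ha, b, hb, h2⟩ := Submodule.mem_sup.1 (all_case hn he h0 ev W (he.map g)
    (YY_map one_ne_zero (one_smul _ _).symm h1))
  refine ⟨a, by simpa using ha 1 1 (by simp), ?_⟩
  rw [← h2, add_sub_cancel_left]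
  exact mem_fx.1 hb

end H23.WUSp
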