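import Cfsg.Agent.H69.Z3Spec

/-! S2997, job FUS: control of fusion when all local subgroups are good. -/

set_option autoImplicit false

namespace H23.Z3

open Cfsg Subgroup H7 H16 H69.Z3
open H76.N6 (JJ WJ)
open H12 (omZ)
open H13 (jH)
open scoped commutatorElement

universe u

theorem not_nil_s4 : ¬ Nil (Equiv.Perm (Fin 4)) := by
  rintro ⟨K, hK, h3, hp⟩
  obtain ⟨j, hj⟩ := hp (Equiv.swap 0 1)
  obtain ⟨k, hk⟩ : Odd (3 ^ j) := Odd.pow (by decide)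
  rw [hk, pow_succ, pow_mul, pow_two, Equiv.swap_mul_self, one_pow, one_mul] at hj
  have h1 := mul_mem hj (hK.conj_mem _ hj (Equiv.swap 1 2))
  have : Fact (Nat.Prime 3) := ⟨Nat.prime_three⟩
  have h2 : orderOf (Equiv.swap (0 : Fin 4) 1 * (Equiv.swap 1 2 * Equiv.swap 0 1 * (Equiv.swap 1 2)⁻¹)) = 3 :=
    orderOf_eq_prime (by decide) (by decide)
  exact h3 (h2 ▸ K.orderOf_dvd_natCard h1)

theorem nil_s4free {X : Type u} [Group X] [Finite X] (h : Nil X) : ¬ Involves (Equiv.Perm (Fin 4)) X :=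
  fun ⟨K, R, _, ⟨e⟩⟩ => not_nil_s4 ((h.section K (R.subgroupOf K)).of_surj e.toMonoidHom e.surjective)

theorem nil_kt {X : Type u} [Group X] [Finite X] (h : Nil X) : H13.KT X :=
  H24.kt_of_comp X fun H _ N _ a b => Or.inr (H13.isoSuzuki_of_not_three H51.st1169 _ a b
    ((h.section H N).not_three b))

theorem nil_fac {X : Type u} [Group X] [Finite X] (h3 : Nil X) (hc : H10.IsCharP 2 X) (T : Sylow 2 X)
    (x : X) : ∃ a ∈ Nm (inducedFunctor (fun Q _ => omZ 2 (jH (⊤ : Subgroup Q))) (T : Subgroup X)),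
      ∃ b ∈ Nm (JJ (T : Subgroup X)), x = a * b := by
  obtain ⟨c, h1, n, h2, e⟩ :=
    (H13.triple_factorization hc (nil_s4free h3) (nil_kt h3) T).2.2 x trivial
  rw [H13.inducedFunctor_omZ_jH]
  exact ⟨c, Ce_le_Nm _ h1, n, h2, e⟩

/-- the functor `Ω₁ Z Ĵ` -/
abbrev WZ : CF.{u} := fun Q _ => omZ 2 (jH (⊤ : Subgroup Q))

variable {G : Type u} [Group G] [Finite G]

theorem nil_steps {S Y : Subgroup G} (hS : IsSylowIn 2 S ⊤)
    (hg : ∀ U T : Subgroup G, IsPGroup 2 U → U ≠ ⊥ → IsSylowIn 2 T (Nm U) → Good (Nm U) T) (hY : Y ≤ S)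
    (h1 : ∀ a ∈ Y, ∀ y ∈ Nm (omZ 2 (jH S)), y * a * y⁻¹ ∈ S → y * a * y⁻¹ ∈ Y)
    (h2 : ∀ a ∈ Y, ∀ y ∈ Nm (JJ S), y * a * y⁻¹ ∈ S → y * a * y⁻¹ ∈ Y) : IsStronglyClosed Y S := by
  have hW : IsCharPFunctor 2 WZ.{u} := H13.isCharPFunctor_omZ_jH.{u}
  have hWs : ∀ V ∈ ({WZ, WJ} : Set CF.{u}), IsCharPFunctor 2 V := by
    rintro _ (rfl | rfl)
    exacts [hW, H13.isCharPFunctor_thompson]
  have key := famFusAt_of_local (isCF_ind (G := G) hWs) hS fun U hU hE => by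
    have hT := hE.syl
    rw [top_inf_eq] at hT ⊢
    rcases hg U _ (hS.isPGroup.to_le hE.le) hU hT with h3 | hl
    · refine FF.at_subgroup hWs ?_ hT
      rw [FF, ind, Set.image_pair]
      exact Cfsg.Agent.S1996.result _ _ hW H13.isCharPFunctor_thompson fun K R _ hc T x =>
        nil_fac (h3.section K _) hc T x
    · intro A g hgL hA hgA
      obtain ⟨n, hn, e⟩ := hl A g hgL hA hgA
      exact (lctl_single ⟨_, ⟨_, Or.inr rfl, rfl⟩, hn.1, hn.2⟩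
        fun a ha => e a ha ▸ hgA a ha).congr e
  refine ⟨hY, fun a ha g hga => ?_⟩
  obtain ⟨c, hc, e⟩ := (key {a} g trivial (Set.singleton_subset_iff.2 (hY ha))
    (by rintro _ rfl; exact hga)).induction (Set.singleton_subset_iff.2 (hY ha))
    (fun c => c * a * c⁻¹ ∈ Y) (by simpa using ha) (by
      rintro c y hc ⟨_, ⟨_, rfl | rfl, rfl⟩, hy⟩ - h
      · simpa [mul_assoc] using h1 _ hc y (H13.inducedFunctor_omZ_jH S ▸ hy.2)
          (by simpa [mul_assoc] using h a rfl)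
      · simpa [mul_assoc] using h2 _ hc y hy.2 (by simpa [mul_assoc] using h a rfl))
  exact e a rfl ▸ hc

theorem nil_factor {S : Subgroup G} (hS : IsSylowIn 2 S ⊤) (h3 : Nil (Nm (JJ S))) {x : G}
    (hx : x ∈ Nm (JJ S)) :
    ∃ a ∈ Ce (omZ 2 S), ∃ b ∈ Nm (JJ S) ⊓ Nm (omZ 2 (jH S)), x = a * b := by
  have hN := H76.N6.S_le_Nm_JJ S
  have e2 := map_subgroupOf_eq_of_le hN
  have hi := (Nm (JJ S)).subtype_injective
  have eJ : (JJ (S.subgroupOf (Nm (JJ S)))).map (Nm (JJ S)).subtype = JJ S := by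
    rw [H12.map_thompsonSubgroupOf _ _ hi, e2]
  obtain ⟨a, ha, b, hb, e⟩ := factor_Nm (G := Nm (JJ S)) H13.isCharPFunctor_omZ_jH
    (fun K R _ hc T y => by
      have h3' : Nil (K ⧸ R.subgroupOf K) := h3.section K _
      obtain ⟨c, h1, n, h2, e⟩ :=
        (H13.triple_factorization hc (nil_s4free h3') (nil_kt h3') T).2.1 y trivial
      rw [H13.inducedFunctor_omZ_jH]
      exact ⟨c, Ce_anti (H12.omegaOne_le _) (H13.centralizer_zV_le T h1), n,
        H98.le_normalizer_oz le_rfl h2, e⟩)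
    (isSylowIn_subgroupOf (hS.of_le hN le_top)) (T := JJ (S.subgroupOf (Nm (JJ S))))
    (H12.thompsonSubgroupOf_le _) (H76.N6.S_le_Nm_JJ _)
    ((H13.omZ_le_omZ_jH _).trans (H13.omZ_jH_le_thompson _)) (x := ⟨x, hx⟩)
    ((map_le_Nm_map_iff hi (A := ⊤)).1 (by rw [eJ]; exact map_subtype_le _) trivial)
  refine ⟨a, ?_, b, ⟨b.2, ?_⟩, congrArg Subtype.val e⟩
  · have := (map_le_Ce_map_iff hi).2 le_rfl (mem_map_of_mem _ ha)
    rwa [H12.map_omZ _ _ hi, e2] at this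
  · rw [H13.inducedFunctor_omZ_jH] at hb
    have := map_le_Nm_map (Nm (JJ S)).subtype le_rfl (mem_map_of_mem _ hb.2)
    rwa [H12.map_omZ _ _ hi, H13.map_jH hi, e2] at this

theorem jobFus : JobFus.{u} := by
  intro G _ _ S hS h1 hg h3
  have f1 := conj_set_eq_of_factor inf_le_left fun x hx => nil_factor hS h3 (x := x) hx
  have f2 := conj_set_eq_of_factor inf_le_left fun x hx => H76.N6.factor_N2 hS (x := x) hx
  set A := closure {y | ∃ n ∈ Nm (JJ S), ∃ z ∈ omZ 2 S, y = n * z * n⁻¹} with hA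
  have n1 : Nm (JJ S) ≤ Nm A := le_Nm_closure_conj _ _
  have n2 : Nm (omZ 2 (jH S)) ≤ Nm A := by
    rw [hA, f1, inf_comm, ← f2]; exact le_Nm_closure_conj _ _
  have hZ := (H13.omZ_le_omZ_jH S).trans (H13.omZ_jH_le_thompson S)
  have h4 : ∀ n ∈ Nm (JJ S), ∀ z ∈ omZ 2 S, n * z * n⁻¹ ∈ S := fun n hn z hz =>
    H12.thompsonSubgroupOf_le _ (conj_mem_of_mem_normalizer hn (hZ hz))
  refine ⟨A, fun e => H98.oz_ne_bot hS.isPGroup h1 (eq_bot_iff.2 (e ▸ fun z hz =>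
    subset_closure ⟨1, one_mem _, z, hz, by simp⟩)), H12.ea_le_centralizer (p := 2) ?_,
    nil_steps hS hg ((closure_le _).2 ?_)
      (fun a ha y hy _ => conj_mem_of_mem_normalizer (n2 hy) ha)
      fun a ha y hy _ => conj_mem_of_mem_normalizer (n1 hy) ha⟩
  · refine H12.ea_closure ?_ ?_
    · rintro _ ⟨n, hn, z, hz, rfl⟩ _ ⟨m, hm, w, hw, rfl⟩
      have := H12.omZ_le_centralizer _ hw _ (h4 _ (mul_mem (inv_mem hm) hn) z hz)
      calc n * z * n⁻¹ * (m * w * m⁻¹) = m * (m⁻¹ * n * z * (m⁻¹ * n)⁻¹ * w) * m⁻¹ := by group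
        _ = _ := by rw [this]; group
    · rintro _ ⟨n, -, z, hz, rfl⟩
      rw [conj_pow, (H12.ea_omegaOne_center _).2 z hz, mul_one, mul_inv_cancel]
  · rintro _ ⟨n, hn, z, hz, rfl⟩
    exact h4 n hn z hz

end H23.Z3
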