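import Cfsg.Agent.H69.Z3Spec
import Cfsg.Agent.H1.CoprimeGen
import Cfsg.Agent.H98.Coprime
import Cfsg.Agent.H14.Quasi
import Cfsg.Agent.H42.OddOrder
import Cfsg.Agent.S0112
import Cfsg.Agent.S0113

/-! S2997, jobs GEN and B1. -/

set_option autoImplicit false

namespace H23.Z3

open Cfsg Subgroup H7 H16 H69.Z3
open scoped commutatorElement

universe u

theorem jobGen : JobGen.{u} := by
  intro G _ _ Y U W x hx hY h3 hU h4 hUY hxY hxU hW
  have : Fact (Nat.Prime 2) := ⟨Nat.prime_two⟩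
  have : Fact (Nat.Prime 3) := ⟨Nat.prime_three⟩
  have hsol := H42.odd_order hY
  have hA : IsPGroup 3 (zpowers x) := IsPGroup.of_card (n := 1) (by rw [Nat.card_zpowers, hx]; rfl)
  have hAY : zpowers x ≤ Nm Y := zpowers_le.2 hxY
  have hU2 : IsPGroup 2 U := fun u => ⟨1, Subtype.ext (hU.2 u u.2)⟩
  have hUc := hU.1
  have hnc : ¬ IsCyclic U := fun hc => by
    obtain ⟨g, hg⟩ := IsCyclic.exists_ofOrder_eq_natCard (α := U)
    have := orderOf_le_of_pow_eq_one (x := g) (n := 2) (by norm_num) (Subtype.ext (hU.2 g g.2))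
    omega
  set W0 := ⨆ w : {w : G // w ∈ U ∧ w ≠ 1}, ⁅Y ⊓ centralizer {w.1}, zpowers x⁆ with hW0
  have h0Y : W0 ≤ Y := iSup_le fun w =>
    (commutator_mono inf_le_left le_rfl).trans (H1.commutator_le_of_le_normalizer hAY)
  have h0A : zpowers x ≤ Nm W0 := H98.le_normalizer_iSup fun w => H1.le_normalizer_commutator_right _ _
  suffices h : ∀ (n : ℕ) (D : Subgroup G), Nat.card D = n → D ≤ Y → Y ≤ Nm D → U ≤ Nm D →
      zpowers x ≤ Nm D → ⁅Y, zpowers x⁆ ≤ W0 ⊔ D → ⁅Y, zpowers x⁆ ≤ W0 from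
    (h _ Y rfl le_rfl le_normalizer hUY hAY ((H1.commutator_le_of_le_normalizer hAY).trans
      le_sup_right)).trans (iSup_le fun w => hW w.1 w.2.1 w.2.2)
  intro n
  induction n using Nat.strong_induction_on with
  | _ n ih => ?_
  rintro D rfl hDY hYD hUD hAD hR
  by_cases hb : D = ⊥
  · simpa [hb] using hR
  have hDD : ⁅D, D⁆ ≤ D := H1.commutator_le_of_le_normalizer le_normalizer
  have hlt : ⁅D, D⁆ < D := lt_of_le_of_ne hDD fun e => hb (H14.eq_bot_of_perfect_of_le_solvable e hDY hsol)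
  refine ih _ (card_lt_of_lt hlt) ⁅D, D⁆ rfl (hDD.trans hDY) (H1.le_normalizer_commutator hYD hYD)
    (H1.le_normalizer_commutator hUD hUD) (H1.le_normalizer_commutator hAD hAD) ?_
  have hZ : D ≤ Nm ((W0 ⊓ D) ⊔ ⁅D, D⁆ : Subgroup G) := H1.le_normalizer_of_commutator_le
    ((commutator_mono (sup_le inf_le_right hDD) le_rfl).trans le_sup_right)
  have h1 : D ≤ H98.stab (zpowers x) ((W0 ⊓ D) ⊔ ⁅D, D⁆) :=
    H1.le_of_noncyclic_centralizer_le hnc hUD (H1.coprime_card_of_isPGroup hU2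
      (Nat.coprime_two_right.2 (hY.of_dvd_nat (card_dvd_of_le hDY)))).symm _ fun w hw hw1 =>
      H98.le_stab_iff.2 ⟨inf_le_left.trans hZ, by
        rw [commutator_comm]
        refine le_sup_of_le_left (le_inf ?_ ?_)
        · exact le_iSup_of_le (⟨w, hw, hw1⟩ : {w : G // w ∈ U ∧ w ≠ 1})
            (commutator_mono (inf_le_inf_right _ hDY) le_rfl)
        · exact (commutator_mono inf_le_left le_rfl).trans (H1.commutator_le_of_le_normalizer hAD)⟩
  have h2 : ⁅D, zpowers x⁆ ≤ W0 ⊔ ⁅D, D⁆ := by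
    rw [commutator_comm]
    exact (H98.le_stab_iff.1 h1).2.trans (sup_le_sup_right inf_le_left _)
  have hn : zpowers x ≤ Nm (W0 ⊔ ⁅D, D⁆ : Subgroup G) :=
    H1.le_normalizer_sup h0A (H1.le_normalizer_commutator hAD hAD)
  rw [← H98.commutator_commutator_eq hA h3 hAY]
  refine (H1.commutator_le_of_mul_centralizer (P := W0 ⊔ ⁅D, D⁆) fun r hr => ?_).trans
    (H1.commutator_le_of_le_normalizer hn)
  obtain ⟨y, hy, d, hd, rfl⟩ := (H98.mem_sup_left_norm (h0Y.trans hYD)).1 (hR hr)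
  obtain ⟨d1, hd1, c, hc, rfl⟩ := H98.exists_commutator_mul_centralizer hA
    (H98.not_dvd_card_of_le hDY h3) hAD hd
  exact ⟨y * d1, mul_mem (mem_sup_left hy) (h2 hd1), c, hc.2, (mul_assoc _ _ _).symm⟩

section B1
variable {G : Type u} [Group G] [Finite G]

theorem card_le_of_relIndex {E P : Subgroup G} (h : P.relIndex E ∣ 2) :
    Nat.card E ≤ 2 * Nat.card (P ⊓ E : Subgroup G) := by
  rw [← relIndex_mul_card (inf_le_right : P ⊓ E ≤ E), inf_relIndex_right]
  exact Nat.mul_le_mul_right _ (Nat.le_of_dvd two_pos h)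

theorem rank_of_cyc {X : Type u} [Group X] [Finite X] {C : Subgroup X} (hC : IsCyclic C) (hi : C.index = 2)
    {E : Subgroup X} (hE : ∀ a ∈ E, a ^ 2 = 1) : Nat.card E ≤ 4 := by
  have hN := normal_of_index_eq_two hi
  have h1 := card_le_of_relIndex (E := E) (P := C) (hi ▸ relIndex_dvd_index_of_normal C E)
  have hc : IsCyclic (C ⊓ E : Subgroup X) := Subgroup.isCyclic_of_le inf_le_left
  obtain ⟨g, hg⟩ := IsCyclic.exists_ofOrder_eq_natCard (α := (C ⊓ E : Subgroup X))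
  have := orderOf_le_of_pow_eq_one (x := g) (n := 2) (by norm_num) (Subtype.ext (hE g g.2.2))
  omega

/-- a `2`-group normalising a four-group acts as a group of order at most two -/
theorem four_act {V T : Subgroup G} (hV : IsElementaryAbelian 2 V) (h4 : Nat.card V = 4)
    (hT : IsPGroup 2 T) (hn : T ≤ Nm V) : ∀ a ∈ T, ∀ b ∈ T, a ∉ Ce V → b ∉ Ce V → b * a ∈ Ce V := by
  have : Fact (Nat.Prime 2) := ⟨Nat.prime_two⟩
  have hV2 : IsPGroup 2 V := fun u => ⟨1, Subtype.ext (hV.2 u u.2)⟩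
  have hne : V ≠ ⊥ := by rintro rfl; simp at h4
  obtain ⟨⟨z, hz⟩, hz1⟩ := ne_bot_iff_exists_ne_one.1 (H98.inf_centralizer_ne_bot hV2 hT hn hne)
  have z1 : z ≠ 1 := fun e => hz1 (Subtype.ext e)
  have hzo : orderOf z = 2 := orderOf_eq_prime (hV.2 z hz.1) z1
  have hzV : zpowers z ≤ V := zpowers_le.2 hz.1
  have hidx : (zpowers z).relIndex V = 2 := by
    have := relIndex_mul_card hzV
    rw [Nat.card_zpowers, hzo, h4] at this
    omega
  have memz : ∀ y ∈ zpowers z, y = 1 ∨ y = z := by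
    rintro _ ⟨k, rfl⟩
    have h2 : z ^ (2 : ℤ) = 1 := by rw [← hV.2 z hz.1]; exact zpow_natCast z 2
    rcases Int.even_or_odd' k with ⟨j, rfl | rfl⟩
    · left; simp [zpow_mul, h2]
    · right; simp [zpow_add, zpow_mul, h2]
  -- on `V ∖ ⟨z⟩` an element of `T` acts as `v ↦ v` or `v ↦ v z`
  have act : ∀ a ∈ T, ∀ v ∈ V, a * v * a⁻¹ = v ∨ a * v * a⁻¹ = v * z := fun a ha v hv => by
    have haz : a * z * a⁻¹ = z := by rw [mem_centralizer_iff.1 hz.2 a ha, mul_inv_cancel_right]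
    by_cases h1 : v ∈ zpowers z
    · left
      rcases memz v h1 with rfl | rfl
      exacts [by simp, haz]
    · have hv' := conj_mem_of_mem_normalizer (hn ha) hv
      have h2 : a * v * a⁻¹ ∉ zpowers z := fun h2 => h1 (by
        rcases memz _ h2 with e | e
        · rw [show v = 1 by simpa using e]; exact one_mem _
        · rw [← haz] at e
          rw [show v = z by simpa using e]; exact mem_zpowers z)
      have h3 : (⟨v, hv⟩ : V)⁻¹ * ⟨_, hv'⟩ ∈ (zpowers z).subgroupOf V :=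
        (mul_mem_iff_of_index_two hidx).2 (by
          rw [inv_mem_iff, mem_subgroupOf, mem_subgroupOf]; exact iff_of_false h1 h2)
      rcases memz (v⁻¹ * (a * v * a⁻¹)) h3 with e | e
      · left; exact (inv_mul_eq_one.1 e).symm
      · right; exact inv_mul_eq_iff_eq_mul.1 e
  have comm : ∀ v ∈ V, ∀ w ∈ V, v * w = w * v := fun v hv w hw =>
    congrArg Subtype.val (hV.1.is_comm.comm (⟨v, hv⟩ : V) ⟨w, hw⟩)
  have key : ∀ a ∈ T, a ∉ Ce V → ∀ v ∈ V, v ∉ zpowers z → a * v * a⁻¹ = v * z := fun a ha hac v hv h1 => by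
    refine (act a ha v hv).resolve_left fun e => hac (mem_centralizer_iff.2 fun w hw => ?_)
    have haz : a * z * a⁻¹ = z := by rw [mem_centralizer_iff.1 hz.2 a ha, mul_inv_cancel_right]
    have : a * w * a⁻¹ = w := by
      by_cases h2 : w ∈ zpowers z
      · rcases memz w h2 with rfl | rfl
        exacts [by simp, haz]
      · have h3 : (⟨v, hv⟩ : V)⁻¹ * ⟨_, hw⟩ ∈ (zpowers z).subgroupOf V :=
          (mul_mem_iff_of_index_two hidx).2 (by
            rw [inv_mem_iff, mem_subgroupOf, mem_subgroupOf]; exact iff_of_false h1 h2)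
        rcases memz (v⁻¹ * w) h3 with e' | e'
        · rw [← inv_mul_eq_one.1 e', e]
        · rw [inv_mul_eq_iff_eq_mul.1 e']
          calc a * (v * z) * a⁻¹ = a * v * a⁻¹ * (a * z * a⁻¹) := by group
            _ = _ := by rw [e, haz]
    exact (mul_inv_eq_iff_eq_mul.1 this).symm
  intro a ha b hb hac hbc
  refine mem_centralizer_iff.2 fun w hw => (mul_inv_eq_iff_eq_mul.1 ?_).symm
  have haz : ∀ c ∈ T, c * z * c⁻¹ = z := fun c hc => by
    rw [mem_centralizer_iff.1 hz.2 c hc, mul_inv_cancel_right]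
  by_cases h2 : w ∈ zpowers z
  · rcases memz w h2 with rfl | rfl
    exacts [by simp, haz _ (mul_mem hb ha)]
  · calc b * a * w * (b * a)⁻¹ = b * (a * w * a⁻¹) * b⁻¹ := by group
      _ = b * w * b⁻¹ * (b * z * b⁻¹) := by rw [key a ha hac w hw h2]; group
      _ = w := by rw [key b hb hbc w hw h2, haz b hb, mul_assoc, ← pow_two, hV.2 z hz.1, mul_one]

end B1

theorem jobB1 : JobB1.{u} := by
  intro G _ _ V hV h4 hΩ htr
  have : Fact (Nat.Prime 2) := ⟨Nat.prime_two⟩
  have hV2 : IsPGroup 2 V := fun u => ⟨1, Subtype.ext (hV.2 u u.2)⟩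
  have hVC : V ≤ Ce V := fun v hv => mem_centralizer_iff.2 fun w hw =>
    congrArg Subtype.val (hV.1.is_comm.comm (⟨w, hw⟩ : V) ⟨v, hv⟩)
  obtain ⟨T, hT, hVT⟩ := exists_isSylowIn_ge hV2 (le_normalizer : V ≤ Nm V)
  obtain ⟨S, hS, hTS⟩ := exists_isSylowIn_ge hT.isPGroup (le_top : T ≤ ⊤)
  have hact := four_act hV h4 hT.isPGroup hT.le
  suffices h : ∀ E : Subgroup G, E ≤ S → IsMulCommutative E → (∀ a ∈ E, a ^ 2 = 1) → Nat.card E ≤ 4 by
    intro A hA h2
    obtain ⟨g, -, hg⟩ := hS.exists_conj_le (Q := A) (fun u => ⟨1, Subtype.ext (h2 u u.2)⟩) le_top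
    rw [← card_conj_smul g]
    refine h _ hg ?_ ?_
    · rw [conj_smul_eq_map]; infer_instance
    · rintro _ ⟨a, ha, rfl⟩
      change (g * a * g⁻¹) ^ 2 = 1
      rw [conj_pow, h2 a ha, mul_one, mul_inv_cancel]
  intro E hES hEc hE
  by_cases hP : T ⊓ Ce V ≤ V
  · obtain ⟨n, hn⟩ := hS.isPGroup.exists_card_eq
    by_cases h3 : 3 ≤ n
    · have hVS := hVT.trans hTS
      have hST : S ⊓ Nm V = T := hT.eq_of_le hS.isPGroup.to_inf_left (le_inf hTS hT.le) inf_le_right
      obtain ⟨C, hC, hi⟩ := Cfsg.Agent.S0113.result n h3 hn (Cfsg.Agent.S0112.result n hn (V.subgroupOf S)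
        (by rw [Nat.card_congr (subgroupOfEquivOfLe hVS).toEquiv, h4]; rfl) (by
          rw [H98.centralizer_subgroupOf hVS]
          exact le_antisymm (fun y hy => hP ⟨hST ▸ ⟨y.2, Ce_le_Nm _ hy⟩, hy⟩) fun y hy => hVC hy))
      rw [← Nat.card_congr (subgroupOfEquivOfLe hES).toEquiv]
      exact rank_of_cyc hC hi fun a ha => Subtype.ext (hE a ha)
    · refine (card_le_of_le hES).trans ?_
      rw [hn]
      calc 2 ^ n ≤ 2 ^ 2 := Nat.pow_le_pow_right (by norm_num) (by omega)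
        _ = 4 := rfl
  · have hP0 : IsSylowIn 2 (T ⊓ Ce V) (Ce V) := by
      have := hT.inf_of_le_normalizer (Nm_le_Nm_Ce V)
      rwa [inf_of_le_right (Ce_le_Nm _)] at this
    obtain ⟨s, hs, hsV, hs2⟩ : ∃ s ∈ T ⊓ Ce V, s ∉ V ∧ s ^ 2 ∈ V := by
      obtain ⟨s, hs, hsV⟩ := SetLike.not_le_iff_exists.1 hP
      obtain ⟨k, hk⟩ := hP0.isPGroup ⟨s, hs⟩
      replace hk : s ^ 2 ^ k = 1 := congrArg Subtype.val hk
      induction k generalizing s with
      | zero => exact absurd (by simp [show s = 1 by simpa using hk]) hsV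
      | succ k ih =>
        by_cases h : s ^ 2 ∈ V
        · exact ⟨s, hs, hsV, h⟩
        · exact ih _ (pow_mem hs 2) h (by rw [← pow_mul, ← pow_succ', hk])
    have hs1 : s ^ 2 ≠ 1 := fun e => hsV (hΩ s hs.2 e)
    have sqP : ∀ r ∈ T, r ^ 2 ∈ Ce V := fun r hr => by
      by_cases h : r ∈ Ce V
      · exact pow_mem h 2
      · rw [pow_two]; exact hact r hr r hr h h
    have hNT : Nm T ≤ Nm V := fun g hg => mem_normalizer_of_forall fun v hv => by
      by_cases v1 : v = 1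
      · simp [v1]
      obtain ⟨n, hn, e⟩ := htr _ hs2 hs1 v hv v1
      obtain ⟨c, hc, m, hm, rfl⟩ := hP0.frattini (Nm_le_Nm_Ce _ hn)
      have e1 : (m * s * m⁻¹) ^ 2 = v := by
        rw [conj_pow]
        calc m * s ^ 2 * m⁻¹ = c⁻¹ * (c * m * s ^ 2 * (c * m)⁻¹) * c := by group
          _ = v := by rw [e, mul_assoc, mem_centralizer_iff.1 hc v hv, inv_mul_cancel_left]
      have h1 := conj_mem_of_mem_normalizer hg (conj_mem_of_mem_normalizer hm hs).1
      rw [← e1, ← conj_pow]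
      refine hΩ _ (sqP _ h1) ?_
      rw [conj_pow, e1, conj_pow, hV.2 v hv, mul_one, mul_inv_cancel]
    have hST : T = S := by
      by_contra hne
      have h1 := lt_inf_normalizer hS.isPGroup (lt_of_le_of_ne hTS hne)
      exact h1.ne' (hT.eq_of_le hS.isPGroup.to_inf_left h1.le (inf_le_right.trans hNT))
    rw [← hST] at hES
    have hi : (Ce V).relIndex E ∣ 2 := by
      by_cases h : E ≤ Ce V
      · rw [relIndex_eq_one.2 h]; exact one_dvd _
      · obtain ⟨a, ha, hac⟩ := SetLike.not_le_iff_exists.1 h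
        exact relIndex_dvd_two_iff.2 ⟨a, ha, fun b hb =>
          (em (b ∈ Ce V)).symm.imp_left fun hbc => hact a (hES ha) b (hES hb) hac hbc⟩
    have h1 := card_le_of_relIndex hi
    have hle : Ce V ⊓ E ≤ V := fun y hy => hΩ y hy.1 (hE y hy.2)
    by_contra hlt
    have hd := card_dvd_of_le hle
    rw [h4] at hd
    have h5 : Nat.card (Ce V ⊓ E : Subgroup G) = 4 := by
      have := Nat.le_of_dvd (by norm_num) hd
      have h6 : Nat.card (Ce V ⊓ E : Subgroup G) ≠ 3 := fun e => by rw [e] at hd; omega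
      omega
    have h6 : Ce V ⊓ E = V := eq_of_le_of_card_le hle (by rw [h4, h5])
    have h7 : E ≤ V := fun y hy => hΩ y (mem_centralizer_iff.2 fun w hw =>
      congrArg Subtype.val (hEc.is_comm.comm (⟨w, (h6.ge hw).2⟩ : E) ⟨y, hy⟩)) (hE y hy)
    exact hlt (h4 ▸ card_le_of_le h7)

end H23.Z3
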