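import Cfsg.Agent.H69.Z3Spec
import Cfsg.Agent.H14.LocBal3
import Cfsg.Agent.H14.PElem
import Cfsg.Agent.H14.FStar
import Cfsg.Agent.H24.SzFacts

/-! S2997, jobs LB, KF, BAL: facts about the Suzuki groups and balance. -/

set_option autoImplicit false

namespace H23.Z3

open Cfsg Subgroup H7 H16 H69.Z3
open scoped commutatorElement

universe u

theorem eq_one_of_two_odd {X : Type*} [Group X] {y : X} {k : ℕ} (h : y ^ 2 ^ k = 1)
    (ho : Odd (orderOf y)) : y = 1 :=
  orderOf_eq_one_iff.1 (Nat.Coprime.eq_one_of_dvd (Nat.Coprime.pow_right k (Nat.coprime_two_right.2 ho))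
    (orderOf_dvd_of_pow_eq_one h))

section Sz
variable {F : Type*} [Field F] {T : H66.Tits F} {X : Type*} [Group X] {m : ℕ}

theorem sz_fix (N : H66.Model T X) (hT : T.IsFin m) {δ : MulAut X} (ho : Odd (orderOf δ))
    (h : ∀ s ∈ N.Q, δ s = s) : δ = 1 := by
  obtain ⟨l, h1, h2⟩ := H24.sz_exists_normalized N hT δ
  rw [MulAut.mul_apply, h _ (N.u_mem_Q 0 1), MulAut.conj_apply, mul_inv_eq_iff_eq_mul] at h1
  have hl := N.mem_Q_of_commute (N.u_mem_Q 0 1) (H24.sz_z_ne N) h1
  have h3 := H24.sz_aut_eq_one N hT (β := MulAut.conj l * δ) (fun b => by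
    obtain ⟨a, c, rfl⟩ := N.mem_Q.1 hl
    rw [MulAut.mul_apply, h _ (N.u_mem_Q 0 b), MulAut.conj_apply, ← N.z_comm, mul_inv_cancel_right]) h2
  obtain ⟨k, hk⟩ := N.isPGroup_Q ⟨l, hl⟩
  have hk' : l ^ 2 ^ k = 1 := congrArg Subtype.val hk
  refine eq_one_of_two_odd (k := k) ?_ ho
  rw [eq_inv_of_mul_eq_one_right h3, inv_pow, ← map_pow, hk', map_one, inv_one]

end Sz

theorem jobLB : JobLB.{u} := by
  intro X _ _ hs hn h3
  have : Fact (Nat.Prime 2) := ⟨Nat.prime_two⟩
  obtain ⟨F, _, T, m, hT, ⟨M⟩⟩ := H24.exists_szModel (H13.isoSuzuki_of_not_three H51.st1169 X hs hn h3)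
  have hZ : ∀ g : X, MulAut.conj g = 1 → g = 1 := fun g hg => by
    have h1 : center X = ⊥ := (hs.eq_bot_or_eq_top_of_normal _ inferInstance).resolve_right fun e =>
      hn ⟨⟨fun a b => mem_center_iff.1 (e.ge (mem_top b)) a⟩⟩
    refine mem_bot.1 (h1 ▸ mem_center_iff.2 fun y => ?_)
    have := DFunLike.congr_fun hg y
    rw [MulAut.conj_apply, MulAut.one_apply, mul_inv_eq_iff_eq_mul] at this
    exact this.symm
  have cj : ∀ (δ : MulAut X) (g : X), δ * MulAut.conj g * δ⁻¹ = MulAut.conj (δ g) := fun δ g => by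
    ext y; simp
  refine ⟨fun H hH x hx => ?_, fun S δ hS ho h => ?_⟩
  · have hx2 : (x : MulAut X) ^ 2 = 1 := by
      rw [← coe_pow, ← hx, pow_orderOf_eq_one, coe_one]
    obtain ⟨t, ht⟩ := H24.sz_inner M hT x hx2
    have t2 : t ^ 2 = 1 := hZ _ (by rw [map_pow, ← ht, hx2])
    have t1 : t ≠ 1 := fun e => by
      rw [e, map_one] at ht
      rw [show x = 1 from Subtype.ext ht] at hx
      simp at hx
    obtain ⟨y, hy⟩ := M.exists_conj_mem_Z hT t2
    have hC := (M.conj y).centralizer_z hy t1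
    refine eq_bot_iff.2 fun δ hδ => mem_bot.2 (Subtype.ext ?_)
    have hodd : ∀ d ∈ H14.opp 2 (centralizer {x}), Odd (orderOf (d : MulAut X)) := fun d hd => by
      rw [Subgroup.orderOf_coe]
      exact Nat.coprime_two_right.1 (H14.coprime_orderOf_of_mem (H14.coprime_card_opp _) hd)
    have hδt : (δ : MulAut X) t = t := by
      have h1 : (δ : MulAut X) * x = x * δ :=
        congrArg Subtype.val (mem_centralizer_singleton_iff.1 (H14.opp_le _ hδ))
      have h2 := hZ ((δ : MulAut X) t * t⁻¹) (by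
        rw [map_mul, map_inv, ← cj, ← ht, h1]; group)
      exact mul_inv_eq_one.1 h2
    refine sz_fix (M.conj y) hT (hodd δ hδ) fun q hq => ?_
    have hqt : q * t = t * q := mem_centralizer_singleton_iff.1 (hC ▸ hq)
    have hq' : (⟨MulAut.conj q, hH ⟨q, rfl⟩⟩ : H) ∈ centralizer {x} :=
      mem_centralizer_singleton_iff.2 (Subtype.ext (by
        change MulAut.conj q * (x : MulAut X) = x * MulAut.conj q
        rw [ht, ← map_mul, ← map_mul, hqt]))
    have h1 := hodd _ (mul_mem hδ (conj_mem_of_mem_normalizer (H14.self_le_normalizer_opp _ hq')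
      (inv_mem hδ)))
    have e : ((δ * (⟨MulAut.conj q, hH ⟨q, rfl⟩⟩ * δ⁻¹ * (⟨MulAut.conj q, hH ⟨q, rfl⟩⟩ : H)⁻¹) : H) :
        MulAut X) = MulAut.conj ((δ : MulAut X) q * q⁻¹) := by
      rw [map_mul, map_inv, ← cj]; simp [mul_assoc]
    rw [e] at h1
    have h2 : (δ : MulAut X) q ∈ (M.conj y).Q := hC ▸ mem_centralizer_singleton_iff.2 (by
      rw [← hδt, ← map_mul, hqt, map_mul])
    obtain ⟨k, hk⟩ := (M.conj y).isPGroup_Q ⟨_, mul_mem h2 (inv_mem hq)⟩
    have hk' : ((δ : MulAut X) q * q⁻¹) ^ 2 ^ k = 1 := congrArg Subtype.val hk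
    exact mul_inv_eq_one.1 (hZ _ (eq_one_of_two_odd (k := k) (by rw [← map_pow, hk', map_one]) h1))
  · obtain ⟨P, rfl⟩ := hS.exists_sylow
    obtain ⟨x, hx⟩ := M.sylow_eq hT P
    exact sz_fix (M.conj x) hT ho fun s hs => h s (hx ▸ hs)

theorem jobBal : JobBal.{u} := by
  intro G _ _ a b ha hb hab hn
  have : Fact (Nat.Prime 2) := ⟨Nat.prime_two⟩
  have a2 : a ^ 2 = 1 := ha ▸ pow_orderOf_eq_one a
  have hA : IsElementaryAbelian 2 (zpowers a) := ⟨inferInstance, by
    rintro _ ⟨k, rfl⟩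
    change (a ^ k) ^ 2 = 1
    rw [← zpow_natCast, ← zpow_mul, mul_comm, zpow_mul, zpow_natCast, a2, one_zpow]⟩
  refine le_trans (inf_le_inf_right _ ?_) (H14.delta_inf_le_opp (k := 1) hA le_rfl
    (by rw [Nat.card_zpowers, ha]; rfl) (zpowers_le.2 (mem_centralizer_singleton_iff.2 hab))
    fun K hK => Or.inl (H14.locK_one_of_locallyBalanced ?_))
  · refine le_iInf ?_
    rintro ⟨_, ⟨k, rfl⟩, h1⟩
    have h2 : a ^ (2 : ℤ) = 1 := by rw [← a2]; exact zpow_natCast a 2
    rcases Int.even_or_odd' k with ⟨j, rfl | rfl⟩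
    · exact absurd (by simp [zpow_mul, h2]) h1
    · change _ ≤ centralizerPPrimeCore 2 (a ^ (2 * j + 1))
      rw [zpow_add, zpow_mul, h2, one_zpow, one_mul, zpow_one]
  · have hq := H14.comp_quasi hK
    have hs : IsSimpleGroup (K ⧸ center K) := hq.2
    have hc := H14.quasi_quotient_not_comm hq
    exact (jobLB _ hs hc (((hn.of_surj _ (QuotientGroup.mk'_surjective _)).section K _).not_three hc)).1

section KF
variable {X : Type u} [Group X] [Finite X]

omit [Finite X] in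
theorem ex_aut_quot (α : MulAut X) (N : Subgroup X) [N.Normal] (h : N.map (α : X →* X) = N)
    (h3 : α ^ 3 = 1) : ∃ β : MulAut (X ⧸ N), β ^ 3 = 1 ∧ ∀ g : X, β (g : X ⧸ N) = (α g : X) := by
  refine ⟨QuotientGroup.congr N N α h, MulEquiv.ext fun y => ?_, fun g => rfl⟩
  obtain ⟨g, rfl⟩ := QuotientGroup.mk_surjective y
  have := DFunLike.congr_fun h3 g
  rw [pow_three] at this ⊢
  exact congrArg (fun z : X => (z : X ⧸ N)) this

omit [Finite X] in
theorem ex_aut_sub (α : MulAut X) (L : Subgroup X) (h : L.map (α : X →* X) = L)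
    (h3 : α ^ 3 = 1) : ∃ β : MulAut L, β ^ 3 = 1 ∧ ∀ g : L, (β g : X) = α g := by
  refine ⟨(α.subgroupMap L).trans (MulEquiv.subgroupCongr h), MulEquiv.ext fun y => Subtype.ext ?_,
    fun g => rfl⟩
  have := DFunLike.congr_fun h3 (y : X)
  rw [pow_three] at this ⊢
  exact this

theorem odd_of_cube {Y : Type*} [Group Y] {β : Y} (h : β ^ 3 = 1) : Odd (orderOf β) :=
  Odd.of_dvd_nat (by decide) (orderOf_dvd_of_pow_eq_one h)

/-- the quasisimple case -/
theorem kf_quasi (hq : IsQuasisimple X) (h3 : ¬ 3 ∣ Nat.card X) {S : Subgroup X} (hS : IsSylowIn 2 S ⊤)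
    {α : MulAut X} (ha : α ^ 3 = 1) (h : ∀ s ∈ S, α s = s) : α = 1 := by
  obtain ⟨β, hb, e⟩ := ex_aut_quot α (center X) (characteristic_iff_map_eq.1 inferInstance α) ha
  have hS' := hS.map (QuotientGroup.mk' (center X))
  rw [map_top_of_surjective _ (QuotientGroup.mk'_surjective _)] at hS'
  have h1 := (jobLB _ hq.2 (H14.quasi_quotient_not_comm hq)
    fun d => h3 (d.trans (card_quotient_dvd_card _))).2 _ β hS' (odd_of_cube hb) (by
      rintro _ ⟨s, hs, rfl⟩
      exact (e s).trans (by rw [h s hs]; rfl))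
  have h2 : ∀ g, g⁻¹ * α g ∈ center X := fun g => QuotientGroup.eq.1 (by rw [← e, h1]; rfl)
  have hp := H14.quasi_perfect hq
  have h4 : commutator X ≤ (α : X →* X).eqLocus (MonoidHom.id X) := by
    rw [commutator_def, commutator_le]
    intro a _ b _
    change α ⁅a, b⁆ = ⁅a, b⁆
    have ea : α a = a * (a⁻¹ * α a) := by group
    have eb : α b = b * (b⁻¹ * α b) := by group
    rw [map_commutatorElement, ea, eb]
    generalize a⁻¹ * α a = c, h2 a = hc, b⁻¹ * α b = d, h2 b = hd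
    have k1 := mem_center_iff.1 hc
    have k2 := mem_center_iff.1 hd
    calc ⁅a * c, b * d⁆ = a * (c * (b * d) * c⁻¹) * a⁻¹ * d⁻¹ * b⁻¹ := by
          simp only [commutatorElement_def]; group
      _ = a * b * (d * a⁻¹ * d⁻¹) * b⁻¹ := by rw [← k1 (b * d)]; group
      _ = _ := by rw [← k2 a⁻¹, commutatorElement_def]; group
  ext g
  exact h4 (hp.commutator_eq_top ▸ mem_top g)

/-- the case `O(X) = 1` -/
theorem kf_core (ho : pPrimeCore 2 X = ⊥) (h3 : ¬ 3 ∣ Nat.card X) {S : Subgroup X} (hS : IsSylowIn 2 S ⊤)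
    {α : MulAut X} (ha : α ^ 3 = 1) (h : ∀ s ∈ S, α s = s) : α = 1 := by
  have : Fact (Nat.Prime 2) := ⟨Nat.prime_two⟩
  have hE := H14.layer_normal X
  have hF := H14.fstar_normal X
  have h1 : generalizedFittingSubgroup X ≤ (α : X →* X).eqLocus (MonoidHom.id X) := by
    rw [H14.fstar_eq_of_pPrimeCore_eq_bot ho]
    refine sup_le (H14.layer_le fun L hL => ?_) fun g hg => h g (hS.le_of_le_normalizer
      (H2.pCore_isPGroup 2 X) le_top (le_normalizer_of_normal) hg)
    have hT : IsSylowIn 2 (S ⊓ layer X ⊓ L) L := by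
      have := (hS.inf_of_le_normalizer (N := layer X) le_normalizer_of_normal).inf_of_le_normalizer
        (N := L) (inf_le_right.trans (H14.layer_le_normalizer_comp hL))
      rwa [top_inf_eq, inf_eq_right.2 (H14.comp_le_layer hL)] at this
    have hL' : L.map (α : X →* X) = L := by
      refine ((H14.comp_eq_or_commute hL (H14.comp_map_mulEquiv hL α)).resolve_right fun e => ?_).symm
      refine H14.quasi_isSyl_commutator_ne_bot (H14.comp_quasi hL)
        (H14.dvd_card_comp_of_pPrimeCore_eq_bot ho hL)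
        (H98.isSyl_of_not_dvd_relIndex hT.le hT.isPGroup hT.not_dvd)
        (H14.commutator_eq_bot_mono (H14.commutator_eq_bot_symm e) (fun s hs => ?_) le_rfl)
      exact ⟨s, hs.2, h s hs.1.1⟩
    obtain ⟨β, hb, e⟩ := ex_aut_sub α L hL' ha
    have hT' := hT.subgroupOf le_rfl
    rw [subgroupOf_self] at hT'
    have := kf_quasi (H14.comp_quasi hL) (fun d => h3 (d.trans (card_subgroup_dvd_card L))) hT' hb
      fun s hs => Subtype.ext ((e s).trans (h _ hs.1.1))
    intro g hg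
    have h2 := e ⟨g, hg⟩
    rw [this] at h2
    exact h2.symm
  ext g
  have hc : α g * g⁻¹ ∈ generalizedFittingSubgroup X := H14.centralizer_fstar_le
    (mem_centralizer_iff.2 fun f hf => by
      have e1 : α (g⁻¹ * f * g⁻¹⁻¹) = g⁻¹ * f * g⁻¹⁻¹ := h1 (hF.conj_mem f hf g⁻¹)
      have e2 : α f = f := h1 hf
      rw [inv_inv, map_mul, map_mul, map_inv, e2] at e1
      calc f * (α g * g⁻¹) = α g * ((α g)⁻¹ * f * α g) * g⁻¹ := by group
        _ = _ := by rw [e1]; group)
  have e1 : α (α g * g⁻¹) = α g * g⁻¹ := h1 hc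
  generalize hcd : α g * g⁻¹ = c at e1
  have e2 : α g = c * g := by rw [← hcd]; group
  have e3 : c ^ 3 = 1 := by
    have := DFunLike.congr_fun ha g
    rw [pow_three, MulAut.mul_apply, MulAut.mul_apply, e2, map_mul, e1, e2, map_mul, map_mul, e1, e2,
      MulAut.one_apply] at this
    rw [pow_three]
    exact mul_right_cancel (b := g) (by simpa [mul_assoc] using this)
  have e4 : c = 1 := orderOf_eq_one_iff.1 (((Nat.dvd_prime Nat.prime_three).1
    (orderOf_dvd_of_pow_eq_one e3)).resolve_right fun d => h3 (d ▸ orderOf_dvd_natCard c))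
  rw [e2, e4, one_mul, MulAut.one_apply]

end KF

theorem jobKF : JobKF.{u} := by
  intro G _ _ K T x hx hxK h3 hT hTx
  have : Fact (Nat.Prime 2) := ⟨Nat.prime_two⟩
  have ha : K.normalizerMonoidHom ⟨x, hxK⟩ ^ 3 = 1 := by
    rw [← map_pow, ← map_one K.normalizerMonoidHom]
    exact congrArg _ (Subtype.ext (hx ▸ pow_orderOf_eq_one x))
  obtain ⟨β, hb, e⟩ := ex_aut_quot _ (pPrimeCore 2 K)
    (characteristic_iff_map_eq.1 (H2.pPrimeCore_characteristic 2 K) _) ha
  have hS := (hT.subgroupOf le_rfl).map (QuotientGroup.mk' (pPrimeCore 2 K))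
  rw [subgroupOf_self, map_top_of_surjective _ (QuotientGroup.mk'_surjective _)] at hS
  have h1 := kf_core (H2.pPrimeCore_quotient_pPrimeCore 2 K) (fun d => h3 (d.trans (card_quotient_dvd_card _)))
    hS hb (by
      rintro _ ⟨s, hs, rfl⟩
      refine (e s).trans (congrArg _ (Subtype.ext ?_))
      change x * s * x⁻¹ = s
      rw [← mem_centralizer_singleton_iff.1 (hTx (show (s : G) ∈ T from hs)), mul_inv_cancel_right])
  have h2 : ⁅K, zpowers x⁆ ≤ H14.opp 2 K := (H98.le_stab_iff.1 (zpowers_le.2 (H98.mem_stab.2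
    ⟨H14.normalizer_le_normalizer_opp K hxK, fun c hc => by
      have : (⟨c, hc⟩ : K)⁻¹⁻¹ * K.normalizerMonoidHom ⟨x, hxK⟩ (⟨c, hc⟩ : K)⁻¹ ∈ pPrimeCore 2 K :=
        QuotientGroup.eq.1 (by rw [← e, h1]; rfl)
      refine ⟨_, this, ?_⟩
      change c⁻¹⁻¹ * (x * c⁻¹ * x⁻¹) = ⁅c, x⁆
      rw [commutatorElement_def]; group⟩))).2
  exact (Nat.coprime_two_right.1 (H14.coprime_card_opp K)).of_dvd_nat (card_dvd_of_le h2)

end H23.Z3
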