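import Cfsg.Agent.H98.ZjSpec

/-! Tower ZJF, jobs CHF and FIN. -/

set_option autoImplicit false

namespace H23.Zj

open Subgroup Cfsg Matrix MatrixGroups H11 H98 H98.Zj
open scoped commutatorElement

universe u

theorem jobChf (nat : JobNat.{u}) : JobChf.{u} := by
  intro p _ L _ _ B a b p2 nB pB B1 hres hgen qa qb
  obtain ⟨Y, nY, -, YB, hY⟩ := H2.exists_chief_factor_below (bot_lt_iff_ne_bot.2 B1)
  have sj := QuotientGroup.mk'_surjective Y
  generalize hπ : QuotientGroup.mk' Y = π at sj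
  have kπ : π.ker = Y := by rw [← hπ, QuotientGroup.ker_mk']
  have nV : (B.map π).Normal := nB.map π sj
  have V1 : B.map π ≠ ⊥ := fun e => YB.not_ge (by rwa [Subgroup.map_eq_bot_iff, kπ] at e)
  have hmin : ∀ K : Subgroup (L ⧸ Y), K.Normal → K ≤ B.map π → K = ⊥ ∨ K = B.map π := by
    intro K nK hK
    have h1 := comap_mono (f := π) hK
    rw [comap_map_eq, kπ, sup_eq_left.2 YB.le] at h1
    rcases hY (K.comap π) (nK.comap π) (kπ.ge.trans (ker_le_comap π K)) h1 with e | e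
    · left; rw [← map_comap_eq_self_of_surjective sj K, e, Subgroup.map_eq_bot_iff, kπ]
    · right; rw [← e, map_comap_eq_self_of_surjective sj]
  have nO : ((pCore p L).map π).Normal := (inferInstance : (pCore p L).Normal).map π sj
  have := ((isPGroup_pCore (p := p) (G := L)).map π).isNilpotent
  have OC := H2.le_centralizer_of_minimal_normal hmin ((pCore p L).map π)
  have gen : closure {π a, π b} ⊔ (pCore p L).map π = ⊤ := by
    rw [← Set.image_pair, ← MonoidHom.map_closure, ← Subgroup.map_sup, hgen, map_top_of_surjective π sj]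
  have q : ∀ c : L, ⁅⁅B, zpowers c⁆, zpowers c⁆ = ⊥ →
      ⁅⁅B.map π, zpowers (π c)⁆, zpowers (π c)⁆ = ⊥ := fun c e => by
    rw [← MonoidHom.map_zpowers, ← map_commutator, ← map_commutator, e, Subgroup.map_bot]
  have nn : ∀ g, g ∈ normalizer ((B.map π : Subgroup (L ⧸ Y)) : Set (L ⧸ Y)) := fun g => by
    rw [normalizer_eq_top]; trivial
  obtain ⟨K, _, _, _, l, ι, l0, inj, mem, add, ea, eb⟩ := nat p (L ⧸ Y) (B.map π) (π a) (π b) p2
    (H2.isElementaryAbelian_of_minimal_normal (pB.map π) hmin) (nn _) (nn _) (q a qa) (q b qb) (by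
      by_contra c
      push Not at c
      have : res p (⊤ : Subgroup (L ⧸ Y)) ≤ centralizer ((B.map π : Subgroup (L ⧸ Y)) : Set _) :=
        res_le_of_forall_pow fun g hg => by
          rw [← gen] at hg
          obtain ⟨h, hh, o, ho, rfl⟩ := mem_sup_of_normal_right.1 hg
          obtain ⟨k, hk⟩ := c h hh
          refine ⟨k, ?_⟩
          rw [← QuotientGroup.eq_one_iff] at hk ⊢
          rw [QuotientGroup.mk_pow, QuotientGroup.mk_mul, (QuotientGroup.eq_one_iff o).2 (OC ho),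
            mul_one, ← QuotientGroup.mk_pow, hk]
      apply V1
      rw [← hres, map_commutator, map_res, map_top_of_surjective π sj, commutator_comm,
        commutator_eq_bot_iff_le_centralizer]
      exact this)
  have z : ι 0 = 1 := by simpa using add 0 0
  let R : Subgroup (L ⧸ Y) :=
    { carrier := Set.range ι
      one_mem' := ⟨0, z⟩
      mul_mem' := by rintro _ _ ⟨x, rfl⟩ ⟨y, rfl⟩; exact ⟨_, add x y⟩
      inv_mem' := by
        rintro _ ⟨x, rfl⟩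
        exact ⟨-x, eq_inv_of_mul_eq_one_left (by rw [← add, neg_add_cancel, z])⟩ }
  have RV : R ≤ B.map π := by rintro _ ⟨x, rfl⟩; exact mem x
  have RB : R = B.map π := (hmin R (normal_of_top_le_normalizer (by
    rw [← gen]
    refine sup_le ((closure_le _).2 ?_)
      (le_normalizer_of_le_centralizer (OC.trans (centralizer_anti RV)))
    rintro _ (rfl | rfl) <;> refine mem_normalizer_of_cj_le ?_ <;> rintro _ ⟨_, ⟨x, rfl⟩, rfl⟩
    exacts [⟨_, (ea x).symm⟩, ⟨_, (eb x).symm⟩])) RV).resolve_left fun e => by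
      have h1 : ι 1 ∈ R := ⟨1, rfl⟩
      rw [e, mem_bot, ← z] at h1
      exact one_ne_zero (inj h1)
  have htf : ∀ m m' : SL(2, K), (∀ x, (m : Matrix (Fin 2) (Fin 2) K) *ᵥ x =
      (m' : Matrix (Fin 2) (Fin 2) K) *ᵥ x) → m = m' := fun m m' h =>
    Subtype.ext (Matrix.toLin'.injective (LinearMap.ext h))
  obtain ⟨L', ψ, m1, m2⟩ := exists_relHom (H := L) (M := SL(2, K))
    (fun g (y : L ⧸ Y) => π g * y * (π g)⁻¹) (by simp) (fun g h v => by simp [mul_assoc])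
    (fun m x => (m : Matrix (Fin 2) (Fin 2) K) *ᵥ x) (by simp)
    (fun g h x => (mulVec_mulVec x g.1 h.1).symm) htf ι inj
  have top : ∀ g, g ∈ L' := fun g => (show ⊤ ≤ L' by
    rw [← hgen]
    refine sup_le ((closure_le _).2 ?_) fun o ho => (m1 o).2 ⟨1, fun x => ?_⟩
    · rintro _ (rfl | rfl)
      exacts [(m1 _).2 ⟨_, ea⟩, (m1 _).2 ⟨_, eb⟩]
    · have := OC ⟨o, ho, rfl⟩ _ (mem x)
      simp [← this]) trivial
  have e : ∀ x ∈ B, ι (Function.invFun ι (π x)) = π x := fun x hx =>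
    Function.invFun_eq (show π x ∈ R from RB ▸ ⟨x, hx, rfl⟩)
  refine ⟨K, inferInstance, inferInstance, inferInstance, l, fun x => Function.invFun ι (π x),
    ψ.comp ((MonoidHom.id L).codRestrict L' top), l0, ⟨nB, fun x hx y hy => inj ?_, fun r => ?_,
    fun g x hx => inj ?_⟩, htf _ _ fun x => inj ?_, htf _ _ fun x => inj ?_⟩
  · rw [add, e _ (mul_mem hx hy), e x hx, e y hy, map_mul]
  · obtain ⟨x, hx, h⟩ := mem r
    exact ⟨x, hx, inj (by rw [e x hx, h])⟩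
  · rw [e _ (nB.conj_mem x hx g), map_mul, map_mul, map_inv]
    exact (congrArg (fun y => π g * y * (π g)⁻¹) (e x hx).symm).trans (m2 ⟨g, top g⟩ _)
  · exact (m2 ⟨a, top a⟩ x).symm.trans (ea x)
  · exact (m2 ⟨b, top b⟩ x).symm.trans (eb x)

theorem jobFin : JobFin.{u} := by
  intro p _ K _ _ l L _ φ ψ B Z a t z w l0 R ea hw t10 t00 t01 zZ azZ zB z0
  have f1 : φ 1 = 0 := by simpa using R.add 1 (one_mem _) 1 (one_mem _)
  have fi : ∀ x ∈ B, φ x⁻¹ = - φ x := fun x hx =>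
    eq_neg_of_add_eq_zero_left (by rw [← R.add _ (inv_mem hx) _ hx, inv_mul_cancel, f1])
  have a0 : ∀ x ∈ B, φ (a * x * a⁻¹) 0 = φ x 0 + l * φ x 1 := fun x hx => by
    rw [R.act a x hx, ea]; simp [mulVec, dotProduct]
  have a1 : ∀ x ∈ B, φ (a * x * a⁻¹) 1 = φ x 1 := fun x hx => by
    rw [R.act a x hx, ea]; simp [mulVec, dotProduct]
  obtain ⟨c, cZ, cB, c0, c1⟩ : ∃ c ∈ Z, c ∈ B ∧ φ c 0 ≠ 0 ∧ φ c 1 = 0 := by
    by_cases h : φ z 1 = 0
    · exact ⟨z, zZ, zB, fun e => z0 (funext fun i => by fin_cases i <;> assumption), h⟩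
    · have := R.add _ (R.nor.conj_mem z zB a) _ (inv_mem zB)
      refine ⟨_, mul_mem azZ (inv_mem zZ), mul_mem (R.nor.conj_mem z zB a) (inv_mem zB), ?_, ?_⟩
      · simp [this, fi z zB, a0 z zB, l0, h]
      · simp [this, fi z zB, a1 z zB]
  generalize hj : ZMod.castHom (dvd_refl p) K = j at t00
  have ij : Function.Injective j := j.injective
  have dt : ψ t 0 0 * ψ t 1 1 = 1 := by
    have := (ψ t).det_coe
    rwa [det_fin_two, t10, mul_zero, sub_zero] at this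
  rw [t00] at dt
  have w0 : j w ≠ 0 := left_ne_zero_of_mul_eq_one dt
  have t11 : ψ t 1 1 = j w⁻¹ := by rw [map_inv₀]; exact eq_inv_of_mul_eq_one_right dt
  obtain ⟨e, he⟩ : ∃ e, j w * e + ψ t 0 1 * (φ c 0 / l) = (j w)⁻¹ * e := by
    by_cases h : w ^ 2 = 1
    · exact ⟨0, by simp [t01 h]⟩
    · have : (j w)⁻¹ - j w ≠ 0 := fun h' => h (ij (by
        rw [map_pow, map_one, sq]
        nth_rewrite 1 [← sub_eq_zero.1 h']
        exact inv_mul_cancel₀ w0))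
      exact ⟨ψ t 0 1 * (φ c 0 / l) / ((j w)⁻¹ - j w), by
        rw [← eq_sub_iff_add_eq', ← sub_mul, mul_div_cancel₀ _ this]⟩
  have b0 : ∀ x ∈ B, φ (t * x * t⁻¹) 0 = j w * φ x 0 + ψ t 0 1 * φ x 1 := fun x hx => by
    rw [R.act t x hx]; simp [mulVec, dotProduct, t00]
  have b1 : ∀ x ∈ B, φ (t * x * t⁻¹) 1 = (j w)⁻¹ * φ x 1 := fun x hx => by
    rw [R.act t x hx]; simp [mulVec, dotProduct, t10, t11]
  obtain ⟨k1, h1⟩ : ∃ k1 : L → K, ∀ x, k1 x = φ x 1 * l / φ c 0 := ⟨_, fun _ => rfl⟩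
  obtain ⟨k0, h0⟩ : ∃ k0 : L → K, ∀ x, k0 x = (φ x 0 - k1 x * e) / φ c 0 := ⟨_, fun _ => rfl⟩
  have d1 : ∀ x ∈ B, ∀ y ∈ B, k1 (x * y) = k1 x + k1 y := fun x hx y hy => by
    simp only [h1, R.add x hx y hy, Pi.add_apply]; ring
  have d0 : ∀ x ∈ B, ∀ y ∈ B, k0 (x * y) = k0 x + k0 y := fun x hx y hy => by
    simp only [h0, d1 x hx y hy, R.add x hx y hy, Pi.add_apply]; ring
  have i1 : ∀ x ∈ B, k1 x⁻¹ = - k1 x := fun x hx => by simp only [h1, fi x hx, Pi.neg_apply]; ring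
  have i0 : ∀ x ∈ B, k0 x⁻¹ = - k0 x := fun x hx => by
    simp only [h0, i1 x hx, fi x hx, Pi.neg_apply]; ring
  have A1 : ∀ x ∈ B, k1 (a * x * a⁻¹) = k1 x := fun x hx => by rw [h1, h1, a1 x hx]
  have A0 : ∀ x ∈ B, k0 (a * x * a⁻¹) = k0 x + k1 x := fun x hx => by
    rw [h0, h0, A1 x hx, a0 x hx, h1]; ring
  have B1 : ∀ x ∈ B, k1 (t * x * t⁻¹) = j w⁻¹ * k1 x := fun x hx => by
    rw [h1, h1, b1 x hx, map_inv₀]; ring
  have B0 : ∀ x ∈ B, k0 (t * x * t⁻¹) = j w * k0 x := fun x hx => by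
    have : φ x 1 = k1 x * (φ c 0 / l) := by rw [h1]; field_simp
    rw [h0, h0, B1 x hx, b0 x hx, this, map_inv₀]
    linear_combination (k1 x / φ c 0) * he
  have C1 : k1 c = 0 := by simp [h1, c1]
  have C0 : k0 c = 1 := by simp [h0, C1, c0]
  let X : Subgroup L :=
    { carrier := {x | x ∈ B ∧ k0 x ∈ j.range ∧ k1 x ∈ j.range}
      one_mem' := ⟨one_mem _, by simp [h0, h1, f1], by simp [h1, f1]⟩
      mul_mem' := fun {x y} hx hy => ⟨mul_mem hx.1 hy.1, d0 x hx.1 y hy.1 ▸ add_mem hx.2.1 hy.2.1,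
        d1 x hx.1 y hy.1 ▸ add_mem hx.2.2 hy.2.2⟩
      inv_mem' := fun {x} hx => ⟨inv_mem hx.1, i0 x hx.1 ▸ neg_mem hx.2.1, i1 x hx.1 ▸ neg_mem hx.2.2⟩ }
  have u : ∀ x ∈ X, j (Function.invFun j (k0 x)) = k0 x := fun x hx => Function.invFun_eq hx.2.1
  have v : ∀ x ∈ X, j (Function.invFun j (k1 x)) = k1 x := fun x hx => Function.invFun_eq hx.2.2
  have am : ∀ x ∈ X, a * x * a⁻¹ ∈ X := fun x hx => ⟨R.nor.conj_mem x hx.1 a,
    A0 x hx.1 ▸ add_mem hx.2.1 hx.2.2, A1 x hx.1 ▸ hx.2.2⟩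
  have tm : ∀ x ∈ X, t * x * t⁻¹ ∈ X := fun x hx => ⟨R.nor.conj_mem x hx.1 t,
    B0 x hx.1 ▸ mul_mem ⟨w, rfl⟩ hx.2.1, B1 x hx.1 ▸ mul_mem ⟨w⁻¹, rfl⟩ hx.2.2⟩
  have cm : c ∈ X := ⟨cB, C0 ▸ one_mem _, C1 ▸ zero_mem _⟩
  refine ⟨X, fun x hx => hx.1, c, cZ, fun x => Function.invFun j (k0 x),
    fun x => Function.invFun j (k1 x), w, fun x hx y hy => ij ?_, fun x hx y hy => ij ?_,
    fun r s => ?_, am, fun x hx => ij ?_, fun x hx => ij ?_, tm, fun x hx => ij ?_,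
    fun x hx => ij ?_, cm, ij ?_, ij ?_, hw⟩
  · rw [map_add, u _ (mul_mem hx hy), u x hx, u y hy, d0 x hx.1 y hy.1]
  · rw [map_add, v _ (mul_mem hx hy), v x hx, v y hy, d1 x hx.1 y hy.1]
  · obtain ⟨x, hx, e'⟩ := R.surj ![j r * φ c 0 + j s * e, j s * (φ c 0 / l)]
    have e1 : k1 x = j s := by rw [h1, e']; simp; field_simp
    have e0 : k0 x = j r := by rw [h0, e1, e']; simp; field_simp
    have hX : x ∈ X := ⟨hx, ⟨r, e0.symm⟩, ⟨s, e1.symm⟩⟩
    exact ⟨x, hX, ij (by rw [u x hX, e0]), ij (by rw [v x hX, e1])⟩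
  · rw [map_add, u _ (am x hx), u x hx, v x hx, A0 x hx.1]
  · rw [v _ (am x hx), v x hx, A1 x hx.1]
  · rw [map_mul, u _ (tm x hx), u x hx, B0 x hx.1]
  · rw [map_mul, v _ (tm x hx), v x hx, B1 x hx.1, map_inv₀, mul_inv_cancel_left₀ w0]
  · rw [u c cm, C0, map_one]
  · rw [v c cm, C1, map_zero]

end H23.Zj
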